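import Mathlib.Algebra.Homology.DerivedCategory.RightDerivedFunctorPlus
import Mathlib.Algebra.Homology.DerivedCategory.HomologySequence
import Mathlib.Algebra.Homology.DerivedCategory.ShortExact
import Mathlib.CategoryTheory.Abelian.Exact

/-!
# Distinguished triangles and right derived functors on `D⁺`

* a short exact sequence of bounded below complexes gives a distinguished triangle in `D⁺(C)`;
* `K⁺(Inj C) ⥤ D⁺(C)` is fully faithful;
* `R⁺F` sends a distinguished triangle to a triangle which becomes distinguished in `D(D)`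
  (for some third morphism), hence long exact cohomology sequences.
-/

set_option autoImplicit false

open CategoryTheory CategoryTheory.Limits CategoryTheory.Pretriangulated

namespace Groth.Agent.TriH

lemma comp_eq_zero_of_kernel_eq_image {A : Type*} [Category* A] [Abelian A] {X Y Z : A}
    {f : X ⟶ Y} {g : Y ⟶ Z} (h : kernelSubobject g = imageSubobject f) : f ≫ g = 0 := by
  rw [← imageSubobject_arrow_comp f, Category.assoc, ← Subobject.ofLE_arrow h.ge, Category.assoc,
    kernelSubobject_arrow_comp, comp_zero, comp_zero]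

universe w w' v v' u u'

variable {C : Type u} [Category.{v} C] [Abelian C] [HasDerivedCategory.{w} C]

/-- A short exact sequence of bounded below complexes gives a distinguished triangle in `D⁺`. -/
lemma exists_distinguished_plus_of_shortExact {X₁ X₂ X₃ : CochainComplex.Plus C}
    (f : X₁ ⟶ X₂) (g : X₂ ⟶ X₃)
    (w : (CochainComplex.Plus.ι C).map f ≫ (CochainComplex.Plus.ι C).map g = 0)
    (hS : (ShortComplex.mk _ _ w).ShortExact) :
    ∃ δ : (HomotopyCategory.Plus.quotient C ⋙ DerivedCategory.Plus.Qh).obj X₃ ⟶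
        ((HomotopyCategory.Plus.quotient C ⋙ DerivedCategory.Plus.Qh).obj X₁)⟦(1 : ℤ)⟧,
      Triangle.mk ((HomotopyCategory.Plus.quotient C ⋙ DerivedCategory.Plus.Qh).map f)
        ((HomotopyCategory.Plus.quotient C ⋙ DerivedCategory.Plus.Qh).map g) δ ∈
          distTriang (DerivedCategory.Plus C) := by
  let e : ∀ X : CochainComplex.Plus C,
      DerivedCategory.Plus.ι.obj
          ((HomotopyCategory.Plus.quotient C ⋙ DerivedCategory.Plus.Qh).obj X) ≅
        DerivedCategory.Q.obj X.obj :=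
    fun X => (DerivedCategory.quotientCompQhIso C).app X.obj
  refine ⟨DerivedCategory.Plus.ι.preimage ((e X₃).hom ≫ DerivedCategory.triangleOfSESδ hS ≫
    ((e X₁).inv)⟦(1 : ℤ)⟧' ≫ (DerivedCategory.Plus.ι.commShiftIso (1 : ℤ)).inv.app _), ?_⟩
  rw [← DerivedCategory.Plus.ι.map_distinguished_iff]
  refine isomorphic_distinguished _ (DerivedCategory.triangleOfSES_distinguished hS) _
    (Triangle.isoMk _ _ (e X₁) (e X₂) (e X₃) ?_ ?_ ?_)
  · exact DerivedCategory.quotientCompQhIso_hom_naturality _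
  · exact DerivedCategory.quotientCompQhIso_hom_naturality _
  · show (DerivedCategory.Plus.ι.map (DerivedCategory.Plus.ι.preimage _) ≫
      (DerivedCategory.Plus.ι.commShiftIso (1 : ℤ)).hom.app _) ≫ (e X₁).hom⟦(1 : ℤ)⟧' =
        (e X₃).hom ≫ DerivedCategory.triangleOfSESδ hS
    rw [Functor.map_preimage, Category.assoc, Category.assoc, Category.assoc, Category.assoc]
    erw [Iso.inv_hom_id_app_assoc]
    rw [← Functor.map_comp, Iso.inv_hom_id, CategoryTheory.Functor.map_id, Category.comp_id]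

variable (C) in
/-- The functor `K⁺(Inj C) ⥤ D⁺(C)`. -/
noncomputable abbrev injToDerived :
    HomotopyCategory.Plus (InjectiveObject C) ⥤ DerivedCategory.Plus C :=
  (InjectiveObject.ι C).mapHomotopyCategoryPlus ⋙ DerivedCategory.Plus.Qh

omit [HasDerivedCategory.{w} C] in
lemma isKInjective_inj (Y : HomotopyCategory.Plus (InjectiveObject C)) :
    CochainComplex.IsKInjective
      ((InjectiveObject.ι C).mapHomotopyCategoryPlus.obj Y).1.as := by
  obtain ⟨L, rfl⟩ := HomotopyCategory.Plus.quotient_obj_surjective Y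
  exact inferInstanceAs (CochainComplex.IsKInjective
    (((InjectiveObject.ι C).mapHomologicalComplex (.up ℤ)).obj L.obj))

lemma injToDerived_map_bijective (X Y : HomotopyCategory.Plus (InjectiveObject C)) :
    Function.Bijective ((injToDerived C).map : (X ⟶ Y) → _) := by
  have h : Function.Bijective
      ((InjectiveObject.ι C).mapHomotopyCategoryPlus.map : (X ⟶ Y) → _) :=
    ⟨Functor.map_injective _, Functor.map_surjective _⟩
  exact (DerivedCategory.Plus.Qh_map_bijective_of_isKInjective _ _ (isKInjective_inj Y)).comp h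

instance injToDerived_full : (injToDerived C).Full where
  map_surjective := (injToDerived_map_bijective _ _).2

instance injToDerived_faithful : (injToDerived C).Faithful where
  map_injective := @(fun X Y => (injToDerived_map_bijective X Y).1)

variable [EnoughInjectives C] {D : Type u'} [Category.{v'} D] [Abelian D]
  [HasDerivedCategory.{w'} D] (F : C ⥤ D) [F.Additive]

/-- `R⁺F` sends distinguished triangles to (parts of) distinguished triangles. -/
lemma exists_distinguished_rightDerivedFunctorPlus (T : Triangle (DerivedCategory.Plus C))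
    (hT : T ∈ distTriang (DerivedCategory.Plus C)) :
    ∃ δ : (F.rightDerivedFunctorPlus ⋙ DerivedCategory.Plus.ι).obj T.obj₃ ⟶
        ((F.rightDerivedFunctorPlus ⋙ DerivedCategory.Plus.ι).obj T.obj₁)⟦(1 : ℤ)⟧,
      Triangle.mk ((F.rightDerivedFunctorPlus ⋙ DerivedCategory.Plus.ι).map T.mor₁)
        ((F.rightDerivedFunctorPlus ⋙ DerivedCategory.Plus.ι).map T.mor₂) δ ∈
          distTriang (DerivedCategory D) := by
  let G := F.rightDerivedFunctorPlus ⋙ DerivedCategory.Plus.ι
  let i := (InjectiveObject.ι C).mapHomotopyCategoryPlus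
  let E := injToDerived C
  let e₁ := E.objObjPreimageIso T.obj₁
  let e₂ := E.objObjPreimageIso T.obj₂
  obtain ⟨Y₃, g', h', hT'⟩ :=
    distinguished_cocone_triangle (E.preimage (e₁.hom ≫ T.mor₁ ≫ e₂.inv))
  let T' := Triangle.mk (E.preimage (e₁.hom ≫ T.mor₁ ≫ e₂.inv)) g' h'
  let φ := isoTriangleOfIso₁₂ (E.mapTriangle.obj T') T (E.map_distinguished T' hT') hT e₁ e₂
    (by
      show E.map (E.preimage _) ≫ e₂.hom = e₁.hom ≫ T.mor₁
      rw [Functor.map_preimage, Category.assoc, Category.assoc, Iso.inv_hom_id, Category.comp_id])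
  let Ψ := i ⋙ F.mapHomotopyCategoryPlus ⋙ DerivedCategory.Plus.Qh ⋙ DerivedCategory.Plus.ι
  let u : ∀ Y, Ψ.obj Y ≅ G.obj (E.obj Y) := fun Y =>
    DerivedCategory.Plus.ι.mapIso
      (asIso (F.rightDerivedFunctorPlusUnit.app (i.obj Y)))
  have hu : ∀ {Y Y' : HomotopyCategory.Plus (InjectiveObject C)} (a : Y ⟶ Y'),
      Ψ.map a ≫ (u Y').hom = (u Y).hom ≫ G.map (E.map a) := fun {Y Y'} a => by
    have := congrArg DerivedCategory.Plus.ι.map
      (F.rightDerivedFunctorPlusUnit.naturality (i.map a))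
    rw [Functor.map_comp, Functor.map_comp] at this
    exact this
  let a₁ : Ψ.obj T'.obj₁ ≅ G.obj T.obj₁ := u _ ≪≫ G.mapIso (Triangle.π₁.mapIso φ)
  let a₂ : Ψ.obj T'.obj₂ ≅ G.obj T.obj₂ := u _ ≪≫ G.mapIso (Triangle.π₂.mapIso φ)
  let a₃ : Ψ.obj T'.obj₃ ≅ G.obj T.obj₃ := u _ ≪≫ G.mapIso (Triangle.π₃.mapIso φ)
  have h₁ : Ψ.map T'.mor₁ ≫ a₂.hom = a₁.hom ≫ G.map T.mor₁ := by
    simp only [a₁, a₂, Iso.trans_hom, Functor.mapIso_hom]
    rw [← Category.assoc, hu, Category.assoc, Category.assoc, ← G.map_comp, ← G.map_comp]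
    exact congrArg (fun k => (u _).hom ≫ G.map k) φ.hom.comm₁
  have h₂ : Ψ.map T'.mor₂ ≫ a₃.hom = a₂.hom ≫ G.map T.mor₂ := by
    simp only [a₂, a₃, Iso.trans_hom, Functor.mapIso_hom]
    rw [← Category.assoc, hu, Category.assoc, Category.assoc, ← G.map_comp, ← G.map_comp]
    exact congrArg (fun k => (u _).hom ≫ G.map k) φ.hom.comm₂
  let d : Ψ.obj T'.obj₃ ⟶ (Ψ.obj T'.obj₁)⟦(1 : ℤ)⟧ :=
    Ψ.map T'.mor₃ ≫ (Ψ.commShiftIso (1 : ℤ)).hom.app _
  refine ⟨a₃.inv ≫ d ≫ a₁.hom⟦(1 : ℤ)⟧',
    isomorphic_distinguished _ (Ψ.map_distinguished T' hT') _ (Iso.symm ?_)⟩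
  refine Triangle.isoMk (Triangle.mk (Ψ.map T'.mor₁) (Ψ.map T'.mor₂) d) _ a₁ a₂ a₃ h₁ h₂ ?_
  show d ≫ a₁.hom⟦(1 : ℤ)⟧' = a₃.hom ≫ a₃.inv ≫ d ≫ a₁.hom⟦(1 : ℤ)⟧'
  rw [Iso.hom_inv_id_assoc]

/-- Long exact cohomology sequence of `R⁺F` attached to a short exact sequence of bounded below
complexes. -/
lemma rightDerivedFunctorPlus_long_exact
    {X₁ X₂ X₃ : CochainComplex.Plus C} (f : X₁ ⟶ X₂) (g : X₂ ⟶ X₃)
    (hf : Mono ((CochainComplex.Plus.ι C).map f)) (hg : Epi ((CochainComplex.Plus.ι C).map g))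
    (hex : kernelSubobject ((CochainComplex.Plus.ι C).map g) =
      imageSubobject ((CochainComplex.Plus.ι C).map f))
    (i j : ℤ) (hij : i + 1 = j) :
    let Φ := fun n => HomotopyCategory.Plus.quotient C ⋙ DerivedCategory.Plus.Qh ⋙
      F.rightDerivedFunctorPlus ⋙ DerivedCategory.Plus.ι ⋙ DerivedCategory.homologyFunctor D n
    kernelSubobject ((Φ i).map g) = imageSubobject ((Φ i).map f) ∧
      ∃ δ : (Φ i).obj X₃ ⟶ (Φ j).obj X₁,
        kernelSubobject δ = imageSubobject ((Φ i).map g) ∧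
          kernelSubobject ((Φ j).map f) = imageSubobject δ := by
  intro Φ
  have hS : (ShortComplex.mk _ _ (comp_eq_zero_of_kernel_eq_image hex)).ShortExact :=
    { exact := (ShortComplex.exact_iff_image_eq_kernel _).2 hex.symm
      mono_f := hf
      epi_g := hg }
  obtain ⟨δ₀, h₀⟩ := exists_distinguished_plus_of_shortExact f g _ hS
  obtain ⟨δ₁, h₁⟩ := exists_distinguished_rightDerivedFunctorPlus F _ h₀
  let G := F.rightDerivedFunctorPlus ⋙ DerivedCategory.Plus.ι
  let T₂ : Triangle (DerivedCategory D) :=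
    Triangle.mk (G.map ((HomotopyCategory.Plus.quotient C ⋙ DerivedCategory.Plus.Qh).map f))
      (G.map ((HomotopyCategory.Plus.quotient C ⋙ DerivedCategory.Plus.Qh).map g)) δ₁
  refine ⟨?_, DerivedCategory.HomologySequence.δ T₂ i j hij, ?_, ?_⟩
  · exact ((ShortComplex.exact_iff_image_eq_kernel _).1
      (DerivedCategory.HomologySequence.exact₂ T₂ h₁ i)).symm
  · exact ((ShortComplex.exact_iff_image_eq_kernel _).1
      (DerivedCategory.HomologySequence.exact₃ T₂ h₁ i j hij)).symm
  · exact ((ShortComplex.exact_iff_image_eq_kernel _).1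
      (DerivedCategory.HomologySequence.exact₁ T₂ h₁ i j hij)).symm

end Groth.Agent.TriH
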