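import Groth.Agent.TriH.RDer
import Groth.Agent.TriH.RPlus
import Mathlib.Algebra.Homology.ShortComplex.ExactFunctor

/-!
# Acyclic objects, Leray's acyclicity lemma, left exactness of `R⁰F`
-/

set_option autoImplicit false

open CategoryTheory CategoryTheory.Limits

namespace Groth.Agent.TriH

universe w w' v v' u u'

variable {C : Type u} [Category.{v} C] [Abelian C] [EnoughInjectives C]
  {D : Type u'} [Category.{v'} D] [Abelian D] (F : C ⥤ D) [F.Additive]

/-- Right acyclic objects. -/
def IsAcyclicObj (X : C) : Prop := ∀ i : ℕ, 0 < i → IsZero ((F.rightDerived i).obj X)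

lemma isAcyclicObj_of_injective (X : C) [Injective X] : IsAcyclicObj F X := by
  rintro (_ | n) h
  · exact absurd h (lt_irrefl 0)
  · exact F.isZero_rightDerived_obj_injective_succ n X

lemma isAcyclicObj_of_isZero {X : C} (h : IsZero X) : IsAcyclicObj F X :=
  fun i _ => (F.rightDerived i).map_isZero h

lemma rightDerived_zero_exact_and_mono (S : ShortComplex C) (hS : S.ShortExact) :
    (S.map (F.rightDerived 0)).Exact ∧ Mono ((F.rightDerived 0).map S.f) := by
  let T := (RDer.nonempty_sesRes S hS).some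
  refine ⟨RDer.exact₂' F T 0, ?_⟩
  have hc := (RDer.compIso F T 0).hom.comm₁₂
  let Z := T.cx.map (F.mapHomologicalComplex (ComplexShape.up ℕ))
  haveI : Mono (Z.f.f 0) := by
    show Mono (F.map (T.f.f 0))
    haveI := (((T.splitting 0).map F).shortExact).mono_f
    assumption
  have : Mono (HomologicalComplex.homologyMap Z.f 0) := by
    have e := HomologicalComplex.homologyπ_naturality Z.f 0
    haveI : IsIso (Z.X₁.homologyπ 0) := inferInstanceAs (IsIso (CochainComplex.isoHomologyπ₀ Z.X₁).hom)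
    haveI : IsIso (Z.X₂.homologyπ 0) := inferInstanceAs (IsIso (CochainComplex.isoHomologyπ₀ Z.X₂).hom)
    rw [show HomologicalComplex.homologyMap Z.f 0 = inv (Z.X₁.homologyπ 0) ≫
      HomologicalComplex.cyclesMap Z.f 0 ≫ Z.X₂.homologyπ 0 by
        rw [← e, IsIso.inv_hom_id_assoc]]
    infer_instance
  haveI : Mono (Z.map (HomologicalComplex.homologyFunctor D (ComplexShape.up ℕ) 0)).f := this
  haveI : IsIso (RDer.compIso F T 0).hom.τ₁ := inferInstance
  haveI : Mono ((F.rightDerived 0).map S.f ≫ (RDer.compIso F T 0).hom.τ₂) := by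
    show Mono ((ShortComplex.mk ((F.rightDerived 0).map S.f) _ _).f ≫ _)
    rw [← hc]
    infer_instance
  exact mono_of_mono ((F.rightDerived 0).map S.f) (RDer.compIso F T 0).hom.τ₂

lemma preservesFiniteLimits_rightDerived_zero : PreservesFiniteLimits (F.rightDerived 0) :=
  (Functor.preservesFiniteLimits_iff_forall_exact_map_and_mono _).2
    (rightDerived_zero_exact_and_mono F)

variable [PreservesFiniteLimits F]

lemma map_shortExact_of_isZero_one (S : ShortComplex C) (hS : S.ShortExact)
    (h : IsZero ((F.rightDerived 1).obj S.X₁)) : (S.map F).ShortExact := by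
  obtain ⟨hex, hm⟩ :=
    (F.preservesFiniteLimits_iff_forall_exact_map_and_mono.1 inferInstance) S hS
  haveI : Epi ((F.rightDerived 0).map S.g) :=
    ((RDer.derivedLES F).exact₃ S hS 0 1 rfl).epi_f (h.eq_of_tgt _ _)
  have e := F.rightDerivedZeroIsoSelf.hom.naturality S.g
  haveI : Epi ((F.rightDerived 0).map S.g ≫ F.rightDerivedZeroIsoSelf.hom.app S.X₃) := epi_comp _ _
  haveI : Epi (F.rightDerivedZeroIsoSelf.hom.app S.X₂ ≫ F.map S.g) := by
    rw [← e]; infer_instance
  exact { exact := hex, mono_f := hm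
          epi_g := (epi_of_epi (F.rightDerivedZeroIsoSelf.hom.app S.X₂) (F.map S.g) : Epi (F.map S.g)) }

omit [PreservesFiniteLimits F] in
lemma isAcyclicObj_middle (S : ShortComplex C) (hS : S.ShortExact) (h₁ : IsAcyclicObj F S.X₁)
    (h₃ : IsAcyclicObj F S.X₃) : IsAcyclicObj F S.X₂ := fun i hi =>
  ((RDer.derivedLES F).exact₂ S hS i).isZero_X₂ ((h₁ i hi).eq_of_src _ _) ((h₃ i hi).eq_of_tgt _ _)

omit [PreservesFiniteLimits F] in
lemma isAcyclicObj_right (S : ShortComplex C) (hS : S.ShortExact) (h₁ : IsAcyclicObj F S.X₁)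
    (h₂ : IsAcyclicObj F S.X₂) : IsAcyclicObj F S.X₃ := fun i hi =>
  ((RDer.derivedLES F).exact₃ S hS i (i + 1) rfl).isZero_X₂ ((h₂ i hi).eq_of_src _ _)
    ((h₁ (i + 1) (by omega)).eq_of_tgt _ _)

lemma isAcyclicObj_left (S : ShortComplex C) (hS : S.ShortExact) (h₂ : IsAcyclicObj F S.X₂)
    (h₃ : IsAcyclicObj F S.X₃) [Epi (F.map S.g)] :
    IsAcyclicObj F S.X₁ := by
  rintro (_ | _ | i) hi
  · exact absurd hi (lt_irrefl 0)
  · have e := F.rightDerivedZeroIsoSelf.hom.naturality S.g
    haveI : Epi (F.rightDerivedZeroIsoSelf.hom.app S.X₂ ≫ F.map S.g) := epi_comp _ _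
    haveI : Epi ((F.rightDerived 0).map S.g) := by
      rw [show (F.rightDerived 0).map S.g = (F.rightDerivedZeroIsoSelf.hom.app S.X₂ ≫ F.map S.g) ≫
        F.rightDerivedZeroIsoSelf.inv.app S.X₃ by rw [← e, Category.assoc, Iso.hom_inv_id_app,
          Category.comp_id]]
      infer_instance
    have hδ : (RDer.derivedLES F).δ S hS 0 1 rfl = 0 := by
      rw [← cancel_epi ((F.rightDerived 0).map S.g), comp_zero]
      exact (RDer.derivedLES F).comp_δ S hS 0 1 rfl
    exact ((RDer.derivedLES F).exact₁ S hS 0 1 rfl).isZero_X₂ hδ ((h₂ 1 hi).eq_of_tgt _ _)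
  · exact ((RDer.derivedLES F).exact₁ S hS (i + 1) (i + 1 + 1) rfl).isZero_X₂
      ((h₃ (i + 1) (by omega)).eq_of_src _ _) ((h₂ (i + 1 + 1) hi).eq_of_tgt _ _)

/-- Acyclicity of the image of a bounded below exact complex of acyclic objects. -/
lemma acyclic_map_of_acyclic (M : CochainComplex C ℤ) (a : ℤ) [M.IsStrictlyGE a] (hM : M.Acyclic)
    (hX : ∀ n, IsAcyclicObj F (M.X n)) :
    ((F.mapHomologicalComplex (ComplexShape.up ℤ)).obj M).Acyclic := by
  have hex : ∀ n m k : ℤ, n + 1 = m → m + 1 = k →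
      (ShortComplex.mk (M.d n m) (M.d m k) (M.d_comp_d _ _ _)).Exact := fun n m k h h' =>
    (HomologicalComplex.exactAt_iff' M n m k (CochainComplex.prev _ _ |>.trans (by omega))
      (CochainComplex.next _ _ |>.trans (by omega))).1 (hM m)
  let Sn : ℤ → ShortComplex C := fun n => ShortComplex.mk (kernel.ι (M.d n (n + 1)))
    (kernel.lift (M.d (n + 1) (n + 2)) (M.d n (n + 1)) (M.d_comp_d _ _ _))
    (by rw [← cancel_mono (kernel.ι _)]; simp)
  have hSn : ∀ n, (Sn n).ShortExact := fun n => by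
    haveI : Epi (Sn n).g := (hex n (n + 1) (n + 2) rfl (by omega)).epi_kernelLift
    exact
      { exact := ShortComplex.exact_of_f_is_kernel _
          (KernelFork.IsLimit.ofι' _ _ (fun k hk => ⟨kernel.lift _ k (by
            have := congrArg (fun x => x ≫ kernel.ι (M.d (n + 1) (n + 2))) hk
            simpa [Sn] using this), kernel.lift_ι _ _ _⟩)) }
  have hZ : ∀ (j : ℕ) (n : ℤ), n = a + j → IsAcyclicObj F (kernel (M.d n (n + 1))) := by
    intro j
    induction j with
    | zero =>
      intro n hn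
      have : IsZero (kernel (M.d n (n + 1))) := by
        have hd : M.d (n - 1) n = 0 := (M.isZero_of_isStrictlyGE a (n - 1) (by omega)).eq_of_src _ _
        haveI := (ShortComplex.exact_iff_mono _ hd).1 (hex (n - 1) n (n + 1) (by omega) rfl)
        exact isZero_kernel_of_mono _
      exact isAcyclicObj_of_isZero F this
    | succ j ih =>
      intro n hn
      obtain ⟨m, rfl⟩ : ∃ m, n = m + 1 := ⟨n - 1, by omega⟩
      have h := isAcyclicObj_right F (Sn m) (hSn m) (ih m (by omega)) (hX m)
      have e : m + 2 = m + 1 + 1 := by omega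
      exact e ▸ h
  have hZ' : ∀ n : ℤ, IsAcyclicObj F (kernel (M.d n (n + 1))) := fun n => by
    rcases lt_or_ge n a with h | h
    · exact isAcyclicObj_of_isZero F
        (IsZero.of_mono (kernel.ι _) (M.isZero_of_isStrictlyGE a n h))
    · exact hZ (n - a).toNat n (by omega)
  intro m
  obtain ⟨n, rfl⟩ : ∃ n, m = n + 1 := ⟨m - 1, by omega⟩
  rw [HomologicalComplex.exactAt_iff' _ n (n + 1) (n + 2)
    (CochainComplex.prev _ _ |>.trans (by omega)) (CochainComplex.next _ _ |>.trans (by omega))]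
  have hs := fun k => map_shortExact_of_isZero_one F (Sn k) (hSn k) (hZ' k 1 Nat.one_pos)
  let S₂ := ShortComplex.mk (F.map (M.d n (n + 1))) (F.map (M.d (n + 1) (n + 2)))
    (by rw [← F.map_comp, M.d_comp_d, F.map_zero])
  let S₁ := ShortComplex.mk (F.map (kernel.ι (M.d (n + 1) (n + 2)))) (F.map (M.d (n + 1) (n + 2)))
    (by rw [← F.map_comp, kernel.condition, F.map_zero])
  have h₁ : S₁.Exact := ShortComplex.exact_of_f_is_kernel _
    ((KernelFork.mapIsLimit _ (kernelIsKernel (M.d (n + 1) (n + 2))) F))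
  haveI : Epi (F.map (Sn n).g) := (hs n).epi_g
  let ψ : S₂ ⟶ S₁ :=
    { τ₁ := F.map (Sn n).g, τ₂ := 𝟙 _, τ₃ := 𝟙 _
      comm₁₂ := by simp [S₁, S₂, Sn, ← F.map_comp]
      comm₂₃ := by simp [S₁, S₂] }
  haveI : Epi ψ.τ₁ := (inferInstance : Epi (F.map (Sn n).g))
  haveI : IsIso ψ.τ₂ := inferInstanceAs (IsIso (𝟙 _))
  haveI : Mono ψ.τ₃ := inferInstanceAs (Mono (𝟙 _))
  show S₂.Exact
  exact (ShortComplex.exact_iff_of_epi_of_isIso_of_mono ψ).2 h₁

/-- `F` maps a quasi-isomorphism of bounded below complexes of acyclic objects to a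
quasi-isomorphism. -/
lemma quasiIso_map_of_acyclic {K L : CochainComplex C ℤ} (φ : K ⟶ L) (a b : ℤ) [K.IsStrictlyGE a]
    [L.IsStrictlyGE b] (hK : ∀ n, IsAcyclicObj F (K.X n)) (hL : ∀ n, IsAcyclicObj F (L.X n))
    [QuasiIso φ] : HomotopyCategory.quasiIso D (ComplexShape.up ℤ)
      ((F.mapHomotopyCategory (ComplexShape.up ℤ)).map
        ((HomotopyCategory.quotient _ _).map φ)) := by
  let T := CochainComplex.mappingCone.triangleh φ
  have hT : T ∈ Pretriangulated.distinguishedTriangles :=
    HomotopyCategory.mappingCone_triangleh_distinguished φ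
  have h₀ : HomotopyCategory.quasiIso C (ComplexShape.up ℤ) T.mor₁ := by
    show HomotopyCategory.quasiIso C _ ((HomotopyCategory.quotient _ _).map φ)
    rw [HomotopyCategory.quotient_map_mem_quasiIso_iff]
    assumption
  rw [HomotopyCategory.quasiIso_eq_trW_subcategoryAcyclic,
    (HomotopyCategory.subcategoryAcyclic C).trW_iff_of_distinguished _ hT] at h₀
  let n₀ := min (a - 1) b
  haveI : (CochainComplex.mappingCone φ).IsStrictlyGE n₀ :=
    CochainComplex.isStrictlyGE_mappingCone φ a b n₀ (by omega) (by omega)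
  have hM : ∀ n, IsAcyclicObj F ((CochainComplex.mappingCone φ).X n) := fun n => by
    have e : (CochainComplex.mappingCone φ).X n ≅ K.X (n + 1) ⊞ L.X n :=
      HomologicalComplex.homotopyCofiber.XIsoBiprod φ n (n + 1) (by simp)
    intro i hi
    haveI : PreservesBinaryBiproduct (K.X (n + 1)) (L.X n) (F.rightDerived i) :=
      preservesBinaryBiproduct_of_preservesBiproduct _ _ _
    exact IsZero.of_iso (IsZero.of_iso ((biprod_isZero_iff _ _).2 ⟨hK _ i hi, hL _ i hi⟩)
      ((F.rightDerived i).mapBiprod _ _)) ((F.rightDerived i).mapIso e)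
  have hA := acyclic_map_of_acyclic F (CochainComplex.mappingCone φ) n₀
    ((HomotopyCategory.quotient_obj_mem_subcategoryAcyclic_iff_acyclic _).1 h₀) hM
  rw [HomotopyCategory.quasiIso_eq_trW_subcategoryAcyclic]
  exact ((HomotopyCategory.subcategoryAcyclic D).trW_iff_of_distinguished _
      ((F.mapHomotopyCategory (ComplexShape.up ℤ)).map_distinguished T hT)).2
    ((HomotopyCategory.quotient_obj_mem_subcategoryAcyclic_iff_acyclic _).2 hA)

/-- Leray's acyclicity lemma. -/
lemma isIso_rightDerivedFunctorPlusUnit_of_acyclic [HasDerivedCategory.{w} C]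
    [HasDerivedCategory.{w'} D] (K : CochainComplex.Plus C)
    (hK : ∀ m, IsAcyclicObj F (K.obj.X m)) :
    IsIso (F.rightDerivedFunctorPlusUnit.app ((HomotopyCategory.Plus.quotient C).obj K)) := by
  obtain ⟨a, ha⟩ := K.property
  haveI := ha
  obtain ⟨L, hL, i, hi⟩ := CochainComplex.Plus.exists_quasiIso_injective K a
  let L' := (InjectiveObject.ι C).mapCochainComplexPlus.obj L
  obtain ⟨b, hb⟩ := L'.property
  haveI := hb
  haveI : QuasiIso i.hom := hi
  have hF := quasiIso_map_of_acyclic F i.hom a b hK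
    (fun n => haveI : Injective (L'.obj.X n) := (L.obj.X n).property
      isAcyclicObj_of_injective F _)
  let r := (HomotopyCategory.Plus.quotient C).map i
  have h₁ : IsIso (DerivedCategory.Plus.Qh.map r) :=
    Localization.inverts DerivedCategory.Plus.Qh (HomotopyCategory.Plus.quasiIso C) _
      ((HomotopyCategory.quotient_map_mem_quasiIso_iff i.hom).2 hi)
  have h₂ : IsIso ((F.mapHomotopyCategoryPlus ⋙ DerivedCategory.Plus.Qh).map r) :=
    Localization.inverts DerivedCategory.Plus.Qh (HomotopyCategory.Plus.quasiIso D) _ hF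
  haveI : IsIso (F.rightDerivedFunctorPlusUnit.app ((HomotopyCategory.Plus.quotient C).obj L')) :=
    inferInstance
  haveI : IsIso ((DerivedCategory.Plus.Qh ⋙ F.rightDerivedFunctorPlus).map r) :=
    inferInstanceAs (IsIso (F.rightDerivedFunctorPlus.map (DerivedCategory.Plus.Qh.map r)))
  have e := F.rightDerivedFunctorPlusUnit.naturality r
  haveI : IsIso (F.rightDerivedFunctorPlusUnit.app ((HomotopyCategory.Plus.quotient C).obj K) ≫
      (DerivedCategory.Plus.Qh ⋙ F.rightDerivedFunctorPlus).map r) := by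
    rw [← e]; infer_instance
  exact IsIso.of_isIso_comp_right _ ((DerivedCategory.Plus.Qh ⋙ F.rightDerivedFunctorPlus).map r)

omit [PreservesFiniteLimits F] in
/-- `R⁺F` preserves `≥ a`. -/
lemma isGE_rightDerivedFunctorPlus_obj [HasDerivedCategory.{w} C] [HasDerivedCategory.{w'} D]
    (K : DerivedCategory.Plus C) (a : ℤ) [K.IsGE a] :
    (F.rightDerivedFunctorPlus.obj K).IsGE a := by
  obtain ⟨L, hL, ⟨e⟩⟩ := DerivedCategory.Plus.exists_injective_nonempty_iso K a
  let Y := (HomotopyCategory.Plus.quotient C).obj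
    ((InjectiveObject.ι C).mapCochainComplexPlus.obj L)
  let M := (F.mapHomologicalComplex (ComplexShape.up ℤ)).obj
    (((InjectiveObject.ι C).mapHomologicalComplex (ComplexShape.up ℤ)).obj L.obj)
  haveI : CochainComplex.IsStrictlyGE M a := inferInstance
  let e' : DerivedCategory.Q.obj M ≅
      DerivedCategory.Plus.ι.obj (F.rightDerivedFunctorPlus.obj K) :=
    ((DerivedCategory.quotientCompQhIso D).app M).symm ≪≫
      DerivedCategory.Plus.ι.mapIso (asIso (F.rightDerivedFunctorPlusUnit.app Y) ≪≫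
        F.rightDerivedFunctorPlus.mapIso e)
  rw [← DerivedCategory.Plus.isGE_ι_obj_iff]
  exact DerivedCategory.TStructure.t.isGE_of_iso e' a

end Groth.Agent.TriH
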