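import Groth.Agent.TriH.DerivedProducts

/-!
# Coproducts in the derived category
-/

set_option autoImplicit false

open CategoryTheory CategoryTheory.Limits

namespace Groth.Agent.TriH

universe w v u t

variable {A : Type u} [Category.{v} A] [Abelian A] [HasDerivedCategory.{w} A]

omit [HasDerivedCategory.{w} A] in
lemma nullHomotopic_of_forall_ι {T : Type t} (K : T → CochainComplex A ℤ) [HasCoproduct K]
    [∀ n, PreservesColimit (Discrete.functor K) (HomologicalComplex.eval A (ComplexShape.up ℤ) n)]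
    {I : CochainComplex A ℤ} (f : ∐ K ⟶ I)
    (h : ∀ t, Nonempty (Homotopy (Sigma.ι K t ≫ f) 0)) : Nonempty (Homotopy f 0) := by
  replace h : ∀ t, Homotopy (Sigma.ι K t ≫ f) 0 := fun t => (h t).some
  let hc : ∀ n, IsColimit (Cofan.mk ((∐ K).X n) (fun t => (Sigma.ι K t).f n) :
      Cofan fun t => (K t).X n) :=
    fun n => isColimitCofanMkObjOfIsColimit (HomologicalComplex.eval A (ComplexShape.up ℤ) n) K _
      (coproductIsCoproduct K)
  let hm : ∀ i j, (∐ K).X i ⟶ I.X j := fun i j => Cofan.IsColimit.desc (hc i) (fun t => (h t).hom i j)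
  have hι : ∀ t i j, (Sigma.ι K t).f i ≫ hm i j = (h t).hom i j :=
    fun t i j => Cofan.IsColimit.fac (hc i) _ t
  refine ⟨{ hom := hm
            zero := fun i j hij => Cofan.IsColimit.hom_ext (hc i) _ _ fun t => by
              show (Sigma.ι K t).f i ≫ hm i j = (Sigma.ι K t).f i ≫ 0
              rw [hι, (h t).zero i j hij, comp_zero]
            comm := fun i => Cofan.IsColimit.hom_ext (hc i) _ _ fun t => ?_ }⟩
  show (Sigma.ι K t).f i ≫ f.f i = (Sigma.ι K t).f i ≫ _
  have hn : (ComplexShape.up ℤ).Rel i (i + 1) := rfl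
  have hp : (ComplexShape.up ℤ).Rel (i - 1) i := sub_add_cancel i 1
  rw [dNext_eq hm hn, prevD_eq hm hp, ← HomologicalComplex.comp_f, (h t).comm i,
    dNext_eq _ hn, prevD_eq _ hp, HomologicalComplex.zero_f, add_zero, Preadditive.comp_add,
    Preadditive.comp_add, HomologicalComplex.Hom.comm_assoc, hι, reassoc_of% hι, HomologicalComplex.zero_f, comp_zero,
    add_zero]

lemma isColimit_Q_cofan
    (hKinj : ∀ K : CochainComplex A ℤ, ∃ (I : CochainComplex A ℤ) (f : K ⟶ I),
      I.IsKInjective ∧ QuasiIso f)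
    {T : Type t} (K : T → CochainComplex A ℤ) [HasCoproduct K]
    [∀ n, PreservesColimit (Discrete.functor K) (HomologicalComplex.eval A (ComplexShape.up ℤ) n)] :
    Nonempty (IsColimit (Cofan.mk (DerivedCategory.Q.obj (∐ K))
      (fun t => DerivedCategory.Q.map (Sigma.ι K t)))) := by
  have hd : ∀ (W : DerivedCategory A) (g : ∀ t, DerivedCategory.Q.obj (K t) ⟶ W),
      ∃! l : DerivedCategory.Q.obj (∐ K) ⟶ W,
        ∀ t, DerivedCategory.Q.map (Sigma.ι K t) ≫ l = g t := by
    intro W g
    obtain ⟨I, s, hI, hs⟩ := hKinj (DerivedCategory.Q.objPreimage W)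
    let e : DerivedCategory.Q.obj I ≅ W :=
      (asIso (DerivedCategory.Q.map s)).symm ≪≫ DerivedCategory.Q.objObjPreimageIso W
    choose a ha using fun t => Q_map_surjective_of_isKInjective (K t) I (g t ≫ e.inv)
    refine ⟨DerivedCategory.Q.map (Sigma.desc a) ≫ e.hom, fun t => ?_, fun l hl => ?_⟩
    · rw [← Category.assoc, ← Functor.map_comp, Sigma.ι_desc, ha, Category.assoc, Iso.inv_hom_id,
        Category.comp_id]
    · obtain ⟨b, hb⟩ := Q_map_surjective_of_isKInjective (∐ K) I (l ≫ e.inv)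
      rw [← Iso.comp_inv_eq, ← hb, ← sub_eq_zero, ← Functor.map_sub,
        Q_map_eq_zero_iff_of_isKInjective]
      refine nullHomotopic_of_forall_ι K _ fun t => ?_
      rw [← Q_map_eq_zero_iff_of_isKInjective]
      simp [hb, ha t, reassoc_of% (hl t)]
  exact ⟨mkCofanColimit _ (fun s => (hd s.pt (fun t => s.inj t)).choose)
    (fun s t => (hd s.pt (fun t => s.inj t)).choose_spec.1 t)
    (fun s m hm => (hd s.pt (fun t => s.inj t)).choose_spec.2 m hm)⟩

theorem hasCoproducts_derivedCategory {B : Type u} [Category.{v} B] [Abelian B]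
    [IsGrothendieckAbelian.{v} B] [HasDerivedCategory.{v} B] :
    HasCoproducts.{v} (DerivedCategory B) := fun T => by
  refine ⟨fun F => ?_⟩
  haveI : HasCoproducts.{v} B := fun J => inferInstance
  let K : T → CochainComplex B ℤ := fun t => DerivedCategory.Q.objPreimage (F.obj ⟨t⟩)
  obtain ⟨hc⟩ := isColimit_Q_cofan
    (fun M => (exists_kInjective_resolution M).imp fun I ⟨f, h1, h2, _⟩ => ⟨f, h1, h2⟩) K
  haveI : HasColimit (Discrete.functor fun t => DerivedCategory.Q.obj (K t)) := HasColimit.mk ⟨_, hc⟩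
  exact hasColimit_of_iso (G := F) (F := Discrete.functor fun t => DerivedCategory.Q.obj (K t))
    (Discrete.natIso fun ⟨t⟩ => (DerivedCategory.Q.objObjPreimageIso (F.obj ⟨t⟩)).symm)

end Groth.Agent.TriH
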