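import Mathlib.CategoryTheory.Limits.Constructions.Filtered
import Mathlib.CategoryTheory.Preadditive.AdditiveFunctor
import Mathlib.CategoryTheory.Limits.Preserves.Finite
import Mathlib.CategoryTheory.Abelian.Basic

/-!
# Additive functors preserving filtered colimits preserve coproducts
-/

set_option autoImplicit false
set_option linter.style.haveILetI false

open CategoryTheory CategoryTheory.Limits

namespace Groth.Agent.TriH

universe w v v' u u'

variable {A : Type u} [Category.{v} A] [Abelian A] {B : Type u'} [Category.{v'} B] [Abelian B]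
  (F : A ⥤ B) [F.Additive]

open CoproductsFromFiniteFiltered in
theorem preservesColimitsOfShape_discrete_of_filtered (α : Type w) [HasColimitsOfShape (Discrete α) A]
    [HasColimitsOfShape (Finset (Discrete α)) A]
    [PreservesColimitsOfShape (Finset (Discrete α)) F] : PreservesColimitsOfShape (Discrete α) F := by
  suffices ∀ f : α → A, PreservesColimit (Discrete.functor f) F from preservesColimitsOfShape_of_discrete _
  intro f
  haveI : PreservesFiniteCoproducts F :=
    ⟨fun _ => preservesCoproductsOfShape_of_preservesBiproductsOfShape F⟩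
  refine preservesColimit_of_preserves_colimit_cocone (coproductIsCoproduct f)
    ((isColimitMapCoconeCofanMkEquiv F _ _).symm ?_)
  let L := liftToFinsetObj (Discrete.functor f)
  let c : Cocone L := finiteSubcoproductsCocone f
  let incl : ∀ (S : Finset (Discrete α)) (s : S), f s.1.as ⟶ L.obj S := fun S s =>
    Sigma.ι (fun x : S => (Discrete.functor f).obj x) s
  have hι : ∀ (S : Finset (Discrete α)) (s : S), incl S s ≫ c.ι.app S = Sigma.ι f s.1.as :=
    fun S s => Sigma.ι_desc _ _
  have hmap : ∀ {S T : Finset (Discrete α)} (g : S ⟶ T) (s : S),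
      incl S s ≫ L.map g = incl T ⟨s.1, g.down.down s.2⟩ := fun g s => Sigma.ι_desc _ _
  have hfin : ∀ S : Finset (Discrete α),
      IsColimit (Cofan.mk (F.obj (L.obj S)) (fun s : S => F.map (incl S s))) := fun S =>
    haveI : PreservesColimitsOfShape (Discrete S) F :=
      preservesColimitsOfShape_of_equiv (Discrete.equivalence S.equivFin.symm) F
    isColimitCofanMkObjOfIsColimit F (fun x : S => (Discrete.functor f).obj x) _
      (coproductIsCoproduct fun x : S => (Discrete.functor f).obj x)
  have hC : IsColimit c := isColimitFiniteSubproductsCocone f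
  let hFC := isColimitOfPreserves F hC
  let mk : ∀ (t : Cofan fun a => F.obj (f a)), Cocone (L ⋙ F) := fun t =>
    { pt := t.pt
      ι :=
        { app := fun S => Cofan.IsColimit.desc (hfin S) fun s => t.inj s.1.as
          naturality := fun S T g => by
            refine Eq.trans ?_ (Category.comp_id _).symm
            refine Cofan.IsColimit.hom_ext (hfin S) _ _ fun s => ?_
            show F.map (incl S s) ≫ F.map (L.map g) ≫ _ = F.map (incl S s) ≫ _
            rw [← F.map_comp_assoc, hmap]
            exact (Cofan.IsColimit.fac (hfin T) _ _).trans (Cofan.IsColimit.fac (hfin S) (fun s => t.inj s.1.as) s).symm } }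
  refine Cofan.IsColimit.mk _ (fun t => hFC.desc (mk t)) (fun t a => ?_) (fun t m hm => ?_)
  · show F.map (Sigma.ι f a) ≫ hFC.desc (mk t) = t.inj a
    have h := congrArg F.map (hι {⟨a⟩} ⟨⟨a⟩, by simp⟩)
    rw [F.map_comp] at h
    exact (congrArg (· ≫ hFC.desc (mk t)) h.symm).trans ((Category.assoc _ _ _).trans
      ((congrArg (_ ≫ ·) (hFC.fac (mk t) {⟨a⟩})).trans
        (Cofan.IsColimit.fac (hfin {⟨a⟩}) (fun s => t.inj s.1.as) ⟨⟨a⟩, by simp⟩)))
  · refine hFC.uniq (mk t) m fun S => Cofan.IsColimit.hom_ext (hfin S) _ _ fun s => ?_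
    show F.map (incl S s) ≫ F.map (c.ι.app S) ≫ m = F.map (incl S s) ≫ _
    rw [← F.map_comp_assoc, hι]
    exact (hm s.1.as).trans (Cofan.IsColimit.fac (hfin S) (fun s => t.inj s.1.as) s).symm

end Groth.Agent.TriH
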