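import Mathlib.Algebra.Homology.Refinements
import Mathlib.Algebra.Homology.Embedding.CochainComplex
import Mathlib.CategoryTheory.Abelian.CommSq
import Mathlib.Algebra.Homology.DerivedCategory.Basic

/-!
# Resolutions of bounded complexes by objects of a class

Every complex vanishing below `a` maps by a termwise monomorphic quasi-isomorphism to a complex
with terms in a class into which every object embeds; and the dual statement.
-/

set_option autoImplicit false

open CategoryTheory CategoryTheory.Limits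

namespace Groth.Agent.TriH.RightRes

universe v u

variable {A : Type u} [Category.{v} A] [Abelian A] {I : A → Prop} {K : CochainComplex A ℤ}

/-- The cokernel of the incoming differential. -/
noncomputable abbrev O (K : CochainComplex A ℤ) (p : ℤ) : A := cokernel (K.d (p - 1) p)

variable (I K) in
/-- One degree of the resolution. -/
structure Data (p : ℤ) where
  /-- the term -/
  L : A
  mem : I L
  /-- the component of the morphism -/
  α : K.X p ⟶ L
  mono_α : Mono α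
  /-- the cokernel of the incoming differential of the resolution -/
  C : A
  /-- the projection -/
  e : L ⟶ C
  epi_e : Epi e
  /-- the map on cokernels -/
  β : O K p ⟶ C
  mono_β : Mono β
  fac : cokernel.π (K.d (p - 1) p) ≫ β = α ≫ e

/-- Two consecutive degrees of the resolution. -/
def Link {p q : ℤ} (D : Data I K p) (D' : Data I K q) : Prop :=
  ∃ (d : D.C ⟶ D'.L) (w : d ≫ D'.e = 0),
    (ShortComplex.mk d D'.e w).Exact ∧
    (K.d p q ≫ D'.α = D.α ≫ D.e ≫ d) ∧
    ∀ {T : A} (c : T ⟶ D.C), c ≫ d = 0 → ∃ o : T ⟶ O K p, o ≫ D.β = c ∧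
      ∀ (x : T ⟶ K.X p), x ≫ cokernel.π (K.d (p - 1) p) = o → x ≫ K.d p q = 0

lemma exists_next (hI : ∀ X : A, ∃ (Y : A) (ι : X ⟶ Y), I Y ∧ Mono ι) {p q : ℤ} (hpq : p + 1 = q)
    (D : Data I K p) : ∃ D' : Data I K q, Link D D' := by
  obtain rfl : p = q - 1 := by omega
  haveI := D.mono_β
  haveI := D.epi_e
  let dK : O K (q - 1) ⟶ K.X q := cokernel.desc _ (K.d (q - 1) q) (K.d_comp_d _ _ _)
  have hdK : cokernel.π (K.d (q - 1 - 1) (q - 1)) ≫ dK = K.d (q - 1) q := cokernel.π_desc _ _ _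
  let P := pushout dK D.β
  let i₁ : K.X q ⟶ P := pushout.inl dK D.β
  let i₂ : D.C ⟶ P := pushout.inr dK D.β
  have hP : IsPushout dK D.β i₁ i₂ := IsPushout.of_hasPushout _ _
  haveI : Mono i₁ := inferInstanceAs (Mono (pushout.inl dK D.β))
  obtain ⟨L, u, hL, hu⟩ := hI P
  haveI := hu
  let d := i₂ ≫ u
  let e := cokernel.π d
  have hex : ∀ {T : A} (x : T ⟶ K.X q) (c : T ⟶ D.C), x ≫ i₁ = c ≫ i₂ →
      ∃ o : T ⟶ O K (q - 1), o ≫ D.β = c ∧ o ≫ dK = x := by
    intro T x c hxc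
    haveI : Mono hP.shortComplex.f := by
      have : hP.shortComplex.f ≫ biprod.snd = -D.β := biprod.lift_snd _ _
      haveI : Mono (hP.shortComplex.f ≫ biprod.snd) := by
        rw [this]
        exact ⟨fun g h e => (cancel_mono D.β).1 (neg_injective ((Preadditive.comp_neg _ _).symm.trans (e.trans (Preadditive.comp_neg _ _))))⟩
      exact mono_of_mono hP.shortComplex.f biprod.snd
    have h0 : biprod.lift x (-c) ≫ hP.shortComplex.g = 0 := by
      show biprod.lift x (-c) ≫ biprod.desc i₁ i₂ = 0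
      rw [biprod.lift_desc, hxc, Preadditive.neg_comp, add_neg_cancel]
    have h := hP.exact_shortComplex.lift_f _ h0
    let o : T ⟶ O K (q - 1) := hP.exact_shortComplex.lift _ h0
    have h' : o ≫ biprod.lift dK (-D.β) = biprod.lift x (-c) := h
    have h1 := congrArg (· ≫ biprod.fst) h'
    have h2 := congrArg (· ≫ biprod.snd) h'
    simp only [Category.assoc, biprod.lift_fst, biprod.lift_snd, Preadditive.comp_neg, neg_inj] at h1 h2
    exact ⟨o, h2, h1⟩
  have hw : K.d (q - 1) q ≫ i₁ ≫ u ≫ e = 0 := by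
    rw [← hdK, Category.assoc, reassoc_of% hP.w]
    show _ ≫ D.β ≫ i₂ ≫ u ≫ e = 0
    rw [← Category.assoc i₂, cokernel.condition, comp_zero, comp_zero]
  let β : O K q ⟶ cokernel d := cokernel.desc _ (i₁ ≫ u ≫ e) hw
  have hβ : Mono β := by
    rw [Preadditive.mono_iff_cancel_zero]
    intro T z hz
    obtain ⟨T₁, π₁, hπ₁, x, hx⟩ :=
      surjective_up_to_refinements_of_epi (cokernel.π (K.d (q - 1) q)) z
    have hx0 : (x ≫ i₁ ≫ u) ≫ e = 0 := by
      have := congrArg (π₁ ≫ ·) hz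
      rw [reassoc_of% hx] at this
      simpa [β] using this
    obtain ⟨T₂, π₂, hπ₂, c, hc⟩ :=
      (ShortComplex.exact_cokernel d).exact_up_to_refinements (x ≫ i₁ ≫ u) hx0
    have hc' : (π₂ ≫ x) ≫ i₁ = c ≫ i₂ := by
      rw [← cancel_mono u]
      simpa [d] using hc
    obtain ⟨o, -, ho⟩ := hex _ _ hc'
    rw [← cancel_epi π₁, ← cancel_epi π₂, comp_zero, comp_zero, hx, ← Category.assoc, ← ho]
    obtain ⟨T₃, π₃, hπ₃, y, hy⟩ :=
      surjective_up_to_refinements_of_epi (cokernel.π (K.d (q - 1 - 1) (q - 1))) o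
    rw [← cancel_epi π₃, comp_zero, Category.assoc, reassoc_of% hy, reassoc_of% hdK,
      cokernel.condition, comp_zero]
  let D' : Data I K q := ⟨L, hL, i₁ ≫ u, mono_comp _ _, cokernel d, e, inferInstance, β, hβ,
    by simp [β]⟩
  refine ⟨D', d, cokernel.condition d, ShortComplex.exact_cokernel d, ?_, ?_⟩
  · show K.d (q - 1) q ≫ i₁ ≫ u = D.α ≫ D.e ≫ i₂ ≫ u
    rw [← hdK, Category.assoc, reassoc_of% hP.w, reassoc_of% D.fac]
  · intro T c hc
    obtain ⟨o, ho, ho'⟩ := hex (0 : T ⟶ K.X q) c (by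
      rw [zero_comp, ← cancel_mono u, zero_comp, Category.assoc]
      exact hc.symm)
    exact ⟨o, ho, fun x hx => by rw [← hdK, ← Category.assoc, hx, ho']⟩

lemma exists_seq (hI0 : ∃ Z : A, IsZero Z ∧ I Z) (hI : ∀ X : A, ∃ (Y : A) (ι : X ⟶ Y), I Y ∧ Mono ι)
    (a : ℤ) [K.IsStrictlyGE a] :
    ∃ D : ∀ p : ℤ, Data I K p, (∀ p, Link (D p) (D (p + 1))) ∧ ∀ p < a, IsZero (D p).L := by
  obtain ⟨Z, hZ, hIZ⟩ := hI0
  have hO : ∀ p < a, IsZero (O K p) := fun p hp =>
    IsZero.of_epi (cokernel.π (K.d (p - 1) p)) (K.isZero_of_isStrictlyGE a p hp)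
  let triv : ∀ p, p < a → Data I K p := fun p hp =>
    ⟨Z, hIZ, 0, ⟨fun g h _ => (K.isZero_of_isStrictlyGE a p hp).eq_of_tgt g h⟩, Z, 𝟙 Z,
      inferInstance, 0, ⟨fun g h _ => (hO p hp).eq_of_tgt g h⟩, by simp⟩
  have next_ : ∀ (p q : ℤ) (h : p + 1 = q) (D : Data I K p), ∃ D' : Data I K q, Link D D' :=
    fun p q h D => exists_next hI h D
  choose nxt hnxt using next_
  let seq : ∀ k : ℕ, Data I K (a - 1 + k) := fun k =>
    Nat.rec (motive := fun k => Data I K (a - 1 + k)) (triv _ (by simp))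
      (fun k D => nxt (a - 1 + (k : ℤ)) (a - 1 + ((k + 1 : ℕ) : ℤ)) (by omega) D) k
  let cast_ : ∀ {p q : ℤ}, p = q → Data I K p → Data I K q := fun h D => h ▸ D
  let D : ∀ p : ℤ, Data I K p := fun p =>
    if h : p < a then triv p h else cast_ (by omega) (seq (p - (a - 1)).toNat)
  have hD : ∀ (k : ℕ), D (a - 1 + k) = seq k := by
    intro k
    rcases k with _ | k
    · simp only [D]
      rw [dif_pos (by simp)]
      rfl
    · simp only [D]
      rw [dif_neg (by omega)]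
      have key : ∀ (m : ℕ) (e : a - 1 + (m : ℤ) = a - 1 + ((k + 1 : ℕ) : ℤ)), m = k + 1 →
          cast_ e (seq m) = seq (k + 1) := by
        rintro m e rfl
        rfl
      exact key _ _ (by omega)
  refine ⟨D, fun p => ?_, fun p hp => ?_⟩
  · by_cases hp : p + 1 < a
    · show Link (D p) (D (p + 1))
      simp only [D, dif_pos hp, dif_pos (show p < a by omega)]
      exact ⟨0, zero_comp, ShortComplex.exact_of_isZero_X₂ _ hZ,
        (K.isZero_of_isStrictlyGE a p (by omega)).eq_of_src _ _,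
        fun {T} c _ => ⟨0, hZ.eq_of_tgt _ _, fun x _ =>
          (K.isZero_of_isStrictlyGE a (p + 1) hp).eq_of_tgt _ _⟩⟩
    · obtain ⟨k, hk⟩ : ∃ k : ℕ, p = a - 1 + k := ⟨(p - (a - 1)).toNat, by omega⟩
      subst hk
      have h1 : a - 1 + (k : ℤ) + 1 = a - 1 + ((k + 1 : ℕ) : ℤ) := by omega
      rw [h1, hD, hD]
      exact hnxt _ _ _ _
  · simp only [D, dif_pos hp]
    exact hZ

theorem exists_right_resolution (hI0 : ∃ Z : A, IsZero Z ∧ I Z)
    (hI : ∀ X : A, ∃ (Y : A) (ι : X ⟶ Y), I Y ∧ Mono ι) (K : CochainComplex A ℤ) (a : ℤ)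
    [K.IsStrictlyGE a] :
    ∃ (L : CochainComplex A ℤ) (α : K ⟶ L), L.IsStrictlyGE a ∧ (∀ n, I (L.X n)) ∧
      (∀ n, Mono (α.f n)) ∧ QuasiIso α := by
  obtain ⟨D, hD, hD0⟩ := exists_seq (K := K) hI0 hI a
  choose d w hex hcomm hker using hD
  haveI he : ∀ p, Epi (D p).e := fun p => (D p).epi_e
  let L : CochainComplex A ℤ := CochainComplex.of (fun p => (D p).L) (fun p => (D p).e ≫ d p)
    (fun p => by rw [Category.assoc, reassoc_of% (w p), zero_comp, comp_zero])
  have hLd : ∀ p, L.d p (p + 1) = (D p).e ≫ d p := fun p =>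
    CochainComplex.of_d (fun p => (D p).L) (fun p => (D p).e ≫ d p) p
  let α : K ⟶ L :=
    { f := fun p => (D p).α
      comm' := fun i j hij => by
        change i + 1 = j at hij
        subst hij
        rw [hLd]
        exact (hcomm i).symm }
  refine ⟨L, α, (L.isStrictlyGE_iff a).2 (fun i hi => hD0 i hi), fun n => (D n).mem,
    fun n => (D n).mono_α, ?_⟩
  rw [quasiIso_iff]
  intro k
  obtain ⟨p, rfl⟩ : ∃ p, k = p + 1 := ⟨k - 1, by omega⟩
  rw [quasiIsoAt_iff_isIso_homologyMap]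
  -- a morphism killed by the projection is a boundary up to refinements
  have hb : ∀ {T : A} (y : T ⟶ (D (p + 1)).L), y ≫ (D (p + 1)).e = 0 →
      ∃ (T' : A) (π : T' ⟶ T) (_ : Epi π) (y₁ : T' ⟶ (D p).L), π ≫ y = y₁ ≫ L.d p (p + 1) := by
    intro T y hy
    obtain ⟨T₁, π₁, hπ₁, c, hc⟩ := (hex p).exact_up_to_refinements y hy
    obtain ⟨T₂, π₂, hπ₂, y₁, hy₁⟩ := surjective_up_to_refinements_of_epi (D p).e c
    refine ⟨T₂, π₂ ≫ π₁, epi_comp _ _, y₁, ?_⟩
    rw [hLd, Category.assoc, hc]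
    exact ((Category.assoc _ _ _).symm.trans (congrArg (· ≫ d p) hy₁)).trans (Category.assoc _ _ _)
  have hbe : L.d p (p + 1) ≫ (D (p + 1)).e = 0 := by
    rw [hLd, Category.assoc, w, comp_zero]
  haveI : Mono (HomologicalComplex.homologyMap α (p + 1)) := by
    rw [HomologicalComplex.mono_homologyMap_iff_up_to_refinements α p (p + 1) (p + 1 + 1)
      (by simp) (by simp)]
    intro T x hx y hy
    have h1 : (x ≫ cokernel.π (K.d (p + 1 - 1) (p + 1))) ≫ (D (p + 1)).β = 0 := by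
      rw [Category.assoc, (D (p + 1)).fac, ← Category.assoc]
      refine (congrArg (· ≫ (D (p + 1)).e) hy).trans ?_
      exact (Category.assoc _ _ _).trans ((congrArg (y ≫ ·) hbe).trans comp_zero)
    haveI := (D (p + 1)).mono_β
    have h2 : x ≫ cokernel.π (K.d (p + 1 - 1) (p + 1)) = 0 := zero_of_comp_mono _ h1
    obtain ⟨T', π, hπ, x₁, hx₁⟩ :=
      (ShortComplex.exact_cokernel (K.d (p + 1 - 1) (p + 1))).exact_up_to_refinements x h2
    refine ⟨T', π, hπ, x₁ ≫ (K.XIsoOfEq (show p + 1 - 1 = p by omega)).hom, ?_⟩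
    exact hx₁.trans (by simp [K.XIsoOfEq_hom_comp_d])
  haveI : Epi (HomologicalComplex.homologyMap α (p + 1)) := by
    rw [HomologicalComplex.epi_homologyMap_iff_up_to_refinements α p (p + 1) (p + 1 + 1)
      (by simp) (by simp)]
    intro T y hy
    obtain ⟨o, ho, ho'⟩ := hker (p + 1) (y ≫ (D (p + 1)).e) (by
      rw [Category.assoc]
      exact ((congrArg (y ≫ ·) (hLd (p + 1))).symm.trans hy))
    obtain ⟨T₁, π₁, hπ₁, x, hx⟩ :=
      surjective_up_to_refinements_of_epi (cokernel.π (K.d (p + 1 - 1) (p + 1))) o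
    have hxd : x ≫ K.d (p + 1) (p + 1 + 1) = 0 := by
      obtain ⟨o₁, ho₁, ho₁'⟩ := hker (p + 1) (π₁ ≫ y ≫ (D (p + 1)).e) (by
        rw [Category.assoc, Category.assoc]
        exact (congrArg (π₁ ≫ ·) ((congrArg (y ≫ ·) (hLd (p + 1))).symm.trans hy)).trans comp_zero)
      haveI := (D (p + 1)).mono_β
      refine ho₁' x ?_
      rw [← cancel_mono (D (p + 1)).β, ← hx, Category.assoc, ho, ho₁]
    have h0 : (π₁ ≫ y - x ≫ α.f (p + 1)) ≫ (D (p + 1)).e = 0 := by
      rw [Preadditive.sub_comp, sub_eq_zero, Category.assoc, Category.assoc, ← ho]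
      exact ((Category.assoc _ _ _).symm.trans ((congrArg (· ≫ (D (p + 1)).β) hx).trans
        (Category.assoc _ _ _))).trans (congrArg (x ≫ ·) (D (p + 1)).fac)
    obtain ⟨T₂, π₂, hπ₂, y₁, hy₁⟩ := hb _ h0
    refine ⟨T₂, π₂ ≫ π₁, epi_comp _ _, π₂ ≫ x, ?_, y₁, ?_⟩
    · rw [Category.assoc, hxd, comp_zero]
    · rw [← hy₁, Preadditive.comp_sub, Category.assoc, Category.assoc]
      exact (add_sub_cancel _ _).symm
  exact isIso_of_mono_of_epi _

theorem exists_right_resolution_of_isGE (hI0 : ∃ Z : A, IsZero Z ∧ I Z)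
    (hI : ∀ X : A, ∃ (Y : A) (ι : X ⟶ Y), I Y ∧ Mono ι) (K : CochainComplex A ℤ) (a : ℤ)
    (hK : ∀ n : ℤ, n < a → IsZero (K.homology n)) :
    ∃ (L : CochainComplex A ℤ) (α : K ⟶ L), L.IsStrictlyGE a ∧ (∀ n, I (L.X n)) ∧ QuasiIso α := by
  haveI : K.IsGE a := (K.isGE_iff a).2 fun i hi =>
    (HomologicalComplex.exactAt_iff_isZero_homology _ _).2 (hK i hi)
  obtain ⟨L, α, h1, h2, -, h4⟩ := exists_right_resolution hI0 hI (K.truncGE a) a
  haveI := h4
  haveI : QuasiIso (K.πTruncGE a) := (K.quasiIso_πTruncGE_iff a).2 inferInstance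
  exact ⟨L, K.πTruncGE a ≫ α, h1, h2, quasiIso_comp _ _⟩

lemma comp_eqToHom_eqToHom {X Y Z : A} (x : X ⟶ Y) (h : Y = Z) (h' : Z = Y) :
    (x ≫ eqToHom h) ≫ eqToHom h' = x := by
  cases h
  simp

/-- The opposite of a cochain complex. -/
@[simps]
def opCx (K : CochainComplex A ℤ) : CochainComplex Aᵒᵖ ℤ where
  X n := Opposite.op (K.X (-n))
  d i j := (K.d (-j) (-i)).op
  shape i j h := by
    rw [K.shape (-j) (-i) (fun h' => h (by change i + 1 = j; change -j + 1 = -i at h'; omega))]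
    rfl
  d_comp_d' i j k _ _ := by rw [← op_comp, K.d_comp_d]; rfl

/-- The complex associated with a complex in the opposite category. -/
@[simps]
def unopCx (K : CochainComplex Aᵒᵖ ℤ) : CochainComplex A ℤ where
  X n := (K.X (-n)).unop
  d i j := (K.d (-j) (-i)).unop
  shape i j h := by
    rw [K.shape (-j) (-i) (fun h' => h (by change i + 1 = j; change -j + 1 = -i at h'; omega))]
    rfl
  d_comp_d' i j k _ _ := by rw [← unop_comp, K.d_comp_d]; rfl

theorem exists_left_resolution {P : A → Prop} (hP0 : ∃ Z : A, IsZero Z ∧ P Z)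
    (hP : ∀ X : A, ∃ (Y : A) (π : Y ⟶ X), P Y ∧ Epi π) (K : CochainComplex A ℤ) (a : ℤ)
    [K.IsStrictlyLE a] :
    ∃ (Q : CochainComplex A ℤ) (α : Q ⟶ K), Q.IsStrictlyLE a ∧ (∀ n, P (Q.X n)) ∧
      (∀ n, Epi (α.f n)) ∧ QuasiIso α := by
  obtain ⟨Z, hZ, hPZ⟩ := hP0
  haveI : (opCx K).IsStrictlyGE (-a) := ((opCx K).isStrictlyGE_iff _).2 fun i hi =>
    (K.isZero_of_isStrictlyLE a (-i) (by omega)).op
  obtain ⟨L, β, h1, h2, h3, h4⟩ := exists_right_resolution (I := fun X : Aᵒᵖ => P X.unop)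
    ⟨Opposite.op Z, hZ.op, hPZ⟩ (fun X => by
      obtain ⟨Y, π, hY, hπ⟩ := hP X.unop
      exact ⟨Opposite.op Y, π.op, hY, inferInstance⟩) (opCx K) (-a)
  let c : ∀ n : ℤ, (L.X (-n)).unop ⟶ K.X n := fun n =>
    (β.f (-n)).unop ≫ eqToHom (by simp)
  let α : unopCx L ⟶ K :=
    { f := c
      comm' := fun i j _ => by
        have hd : eqToHom (show K.X (-(-i)) = K.X i by rw [neg_neg]) ≫ K.d i j =
            K.d (-(-i)) (-(-j)) ≫ eqToHom (show K.X (-(-j)) = K.X j by rw [neg_neg]) := by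
          have key : ∀ (x y : ℤ) (e1 : x = i) (e2 : y = j),
              eqToHom (congrArg K.X e1) ≫ K.d i j = K.d x y ≫ eqToHom (congrArg K.X e2) := by
            rintro x y rfl rfl
            simp
          exact key _ _ (neg_neg i) (neg_neg j)
        have h := congrArg Quiver.Hom.unop (β.comm (-j) (-i))
        simp only [unop_comp, opCx_d, Quiver.Hom.unop_op] at h
        show ((β.f (-i)).unop ≫ _) ≫ K.d i j = (L.d (-j) (-i)).unop ≫ (β.f (-j)).unop ≫ _
        refine (Category.assoc _ _ _).trans ((congrArg ((β.f (-i)).unop ≫ ·) hd).trans ?_)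
        exact (Category.assoc _ _ _).symm.trans ((congrArg (· ≫ eqToHom _) h.symm).trans
          (Category.assoc _ _ _)) }
  refine ⟨unopCx L, α, ((unopCx L).isStrictlyLE_iff a).2 fun i hi =>
    (L.isZero_of_isStrictlyGE (-a) (-i) (by omega)).unop, fun n => h2 (-n), fun n => ?_, ?_⟩
  · haveI := h3 (-n)
    exact @epi_comp _ _ _ _ _ _ (CategoryTheory.unop_epi_of_mono (β.f (-n))) _ inferInstance
  rw [quasiIso_iff]
  intro n
  haveI := h4
  have hq : QuasiIsoAt β (-n) := inferInstance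
  rw [quasiIsoAt_iff' β (-(n + 1)) (-n) (-(n - 1)) (by simp; omega) (by simp; omega)] at hq
  rw [quasiIsoAt_iff' α (n - 1) n (n + 1) (by simp) (by simp)]
  let e : K.sc' (n - 1) n (n + 1) ≅ K.sc' (-(-(n - 1))) (-(-n)) (-(-(n + 1))) :=
    ShortComplex.isoMk (K.XIsoOfEq (by simp)) (K.XIsoOfEq (by simp)) (K.XIsoOfEq (by simp))
      ((K.XIsoOfEq_hom_comp_d _ _).trans (K.d_comp_XIsoOfEq_hom _ _).symm)
      ((K.XIsoOfEq_hom_comp_d _ _).trans (K.d_comp_XIsoOfEq_hom _ _).symm)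
  haveI : ShortComplex.QuasiIso
      ((HomologicalComplex.shortComplexFunctor' A (ComplexShape.up ℤ) (n - 1) n (n + 1)).map α ≫ e.hom) := by
    let θ : (unopCx L).sc' (n - 1) n (n + 1) ⟶ K.sc' (-(-(n - 1))) (-(-n)) (-(-(n + 1))) :=
      ShortComplex.unopMap ((HomologicalComplex.shortComplexFunctor' Aᵒᵖ (ComplexShape.up ℤ)
        (-(n + 1)) (-n) (-(n - 1))).map β)
    have hθ : (HomologicalComplex.shortComplexFunctor' A (ComplexShape.up ℤ) (n - 1) n (n + 1)).map α
        ≫ e.hom = θ := by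
      ext <;> simp [θ, α, c, e, HomologicalComplex.XIsoOfEq] <;>
        exact comp_eqToHom_eqToHom _ _ _
    rw [hθ]
    haveI := hq
    exact ShortComplex.quasiIso_unopMap ((HomologicalComplex.shortComplexFunctor' Aᵒᵖ
      (ComplexShape.up ℤ) (-(n + 1)) (-n) (-(n - 1))).map β)
  exact ShortComplex.quasiIso_of_comp_right _ e.hom

theorem exists_left_resolution_of_isLE {P : A → Prop} (hP0 : ∃ Z : A, IsZero Z ∧ P Z)
    (hP : ∀ X : A, ∃ (Y : A) (π : Y ⟶ X), P Y ∧ Epi π) (K : CochainComplex A ℤ) (a : ℤ)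
    (hK : ∀ n : ℤ, a < n → IsZero (K.homology n)) :
    ∃ (Q : CochainComplex A ℤ) (α : Q ⟶ K), Q.IsStrictlyLE a ∧ (∀ n, P (Q.X n)) ∧ QuasiIso α := by
  haveI : K.IsLE a := (K.isLE_iff a).2 fun i hi =>
    (HomologicalComplex.exactAt_iff_isZero_homology _ _).2 (hK i hi)
  obtain ⟨Q, α, h1, h2, -, h4⟩ := exists_left_resolution hP0 hP (K.truncLE a) a
  haveI := h4
  haveI : QuasiIso (K.ιTruncLE a) := (K.quasiIso_ιTruncLE_iff a).2 inferInstance
  exact ⟨Q, α ≫ K.ιTruncLE a, h1, h2, quasiIso_comp _ _⟩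

end Groth.Agent.TriH.RightRes
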