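import Groth.Agent.TriH.StupidTower
import Groth.Agent.TriH.FilteredSum
import Groth.Agent.TriH.DerivedCoproducts
import Groth.Agent.TriH.Acyclic
import Groth.Agent.TriH.RightRes

/-!
# The unit of an unbounded derived functor preserving countable sums, at complexes of acyclics
-/

set_option autoImplicit false
set_option linter.style.haveILetI false
set_option linter.unusedSectionVars false

open CategoryTheory CategoryTheory.Limits CategoryTheory.Pretriangulated

namespace Groth.Agent.TriH.CountableSum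

universe w w' v v' u u'

variable {A : Type u} [Category.{v} A] [Abelian A] [HasDerivedCategory.{w} A]
  {B : Type u'} [Category.{v'} B] [Abelian B] [HasDerivedCategory.{w'} B]
  (F : A ⥤ B) [F.Additive]

/-- The functor to derive. -/
noncomputable abbrev Phi : HomotopyCategory A (ComplexShape.up ℤ) ⥤ DerivedCategory B :=
  F.mapHomotopyCategory (ComplexShape.up ℤ) ⋙ DerivedCategory.Qh

/-- Homotopically injective objects. -/
abbrev Inj (I : HomotopyCategory A (ComplexShape.up ℤ)) : Prop :=
  (HomotopyCategory.subcategoryAcyclic A).rightOrthogonal I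

lemma bij {I : HomotopyCategory A (ComplexShape.up ℤ)} (hI : Inj I)
    (X : HomotopyCategory A (ComplexShape.up ℤ)) :
    Function.Bijective (DerivedCategory.Qh.map : (X ⟶ I) → _) :=
  hI.map_bijective_of_isTriangulated DerivedCategory.Qh X

variable (hKinj : ∀ K : CochainComplex A ℤ, ∃ (I : CochainComplex A ℤ) (f : K ⟶ I),
      I.IsKInjective ∧ QuasiIso f)

include hKinj

lemma exists_res (Y : HomotopyCategory A (ComplexShape.up ℤ)) :
    ∃ (I : HomotopyCategory A (ComplexShape.up ℤ)) (s : Y ⟶ I), (HomotopyCategory.quasiIso A (ComplexShape.up ℤ)) s ∧ Inj I := by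
  obtain ⟨K, rfl⟩ := HomotopyCategory.quotient_obj_surjective Y
  obtain ⟨I, f, hI, hf⟩ := hKinj K
  exact ⟨_, (HomotopyCategory.quotient A (ComplexShape.up ℤ)).map f, (HomotopyCategory.quotient_map_mem_quasiIso_iff f).2 hf,
    CochainComplex.IsKInjective.rightOrthogonal I⟩

variable [(Phi F).HasRightDerivedFunctor (HomotopyCategory.quasiIso A (ComplexShape.up ℤ))]

/-- Its derived functor. -/
noncomputable abbrev RFun : DerivedCategory A ⥤ DerivedCategory B :=
  Functor.totalRightDerived (Phi F) DerivedCategory.Qh (HomotopyCategory.quasiIso A (ComplexShape.up ℤ))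

/-- Its unit. -/
noncomputable abbrev unit : Phi F ⟶ DerivedCategory.Qh ⋙ RFun F :=
  Functor.totalRightDerivedUnit (Phi F) DerivedCategory.Qh (HomotopyCategory.quasiIso A (ComplexShape.up ℤ))

lemma isIso_unit_inj {I : HomotopyCategory A (ComplexShape.up ℤ)} (hI : Inj I) : IsIso ((unit F).app I) := by
  haveI : (Phi F).HasPointwiseRightDerivedFunctor (HomotopyCategory.quasiIso A (ComplexShape.up ℤ)) :=
    hasPointwiseRightDerivedFunctor_of_bijective (L := DerivedCategory.Qh)
      (fun Y => let ⟨I, s, hs, hI⟩ := exists_res hKinj Y; ⟨I, s, hs, bij hI⟩) (Phi F)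
  exact isIso_unit_of_bijective (L := DerivedCategory.Qh) (W := (HomotopyCategory.quasiIso A (ComplexShape.up ℤ))) (Phi F) _ (unit F) _ (bij hI)

lemma isIso_unit_iff {X I : HomotopyCategory A (ComplexShape.up ℤ)} (s : X ⟶ I) (hs : (HomotopyCategory.quasiIso A (ComplexShape.up ℤ)) s) (hI : Inj I) :
    IsIso ((unit F).app X) ↔ IsIso ((Phi F).map s) := by
  haveI := isIso_unit_inj F hKinj hI
  haveI : IsIso (DerivedCategory.Qh.map s) := Localization.inverts DerivedCategory.Qh (HomotopyCategory.quasiIso A (ComplexShape.up ℤ)) s hs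
  have h := (unit F).naturality s
  constructor
  · intro hX
    haveI : IsIso ((Phi F).map s ≫ (unit F).app I) := by
      rw [h, Functor.comp_map]
      infer_instance
    exact IsIso.of_isIso_comp_right ((Phi F).map s) ((unit F).app I)
  · intro hs'
    haveI : IsIso ((unit F).app X ≫ (RFun F).map (DerivedCategory.Qh.map s)) := by
      rw [← Functor.comp_map, ← h]
      infer_instance
    exact IsIso.of_isIso_comp_right ((unit F).app X) ((RFun F).map (DerivedCategory.Qh.map s))

lemma isIso_unit_obj₃ (T : Triangle (HomotopyCategory A (ComplexShape.up ℤ))) (hT : T ∈ distTriang _)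
    (h₁ : IsIso ((unit F).app T.obj₁)) (h₂ : IsIso ((unit F).app T.obj₂)) : IsIso ((unit F).app T.obj₃) := by
  obtain ⟨I₁, s₁, hs₁, hI₁⟩ := exists_res hKinj T.obj₁
  obtain ⟨I₂, s₂, hs₂, hI₂⟩ := exists_res hKinj T.obj₂
  haveI := Localization.inverts DerivedCategory.Qh (HomotopyCategory.quasiIso A (ComplexShape.up ℤ)) s₁ hs₁
  haveI := Localization.inverts DerivedCategory.Qh (HomotopyCategory.quasiIso A (ComplexShape.up ℤ)) s₂ hs₂
  obtain ⟨f', hf'⟩ := (bij hI₂ I₁).2
    (inv (DerivedCategory.Qh.map s₁) ≫ DerivedCategory.Qh.map T.mor₁ ≫ DerivedCategory.Qh.map s₂)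
  have comm : T.mor₁ ≫ s₂ = s₁ ≫ f' := by
    refine (bij hI₂ _).1 ?_
    rw [Functor.map_comp, Functor.map_comp, hf', IsIso.hom_inv_id_assoc]
  obtain ⟨I₃, g', d', hT'⟩ := distinguished_cocone_triangle f'
  obtain ⟨r, hr₁, hr₂⟩ := complete_distinguished_triangle_morphism T (Triangle.mk f' g' d') hT hT' s₁ s₂ comm
  let φ : T ⟶ Triangle.mk f' g' d' := Triangle.homMk _ _ s₁ s₂ r comm hr₁ hr₂
  have hI₃ : Inj I₃ :=
    (HomotopyCategory.subcategoryAcyclic A).rightOrthogonal.ext_of_isTriangulatedClosed₃ _ hT' hI₁ hI₂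
  have hr : IsIso (DerivedCategory.Qh.map r) := isIso₃_of_isIso₁₂
    ((DerivedCategory.Qh).mapTriangle.map φ) (Functor.map_distinguished _ _ hT)
    (Functor.map_distinguished _ _ hT') ‹IsIso (DerivedCategory.Qh.map s₁)› ‹IsIso (DerivedCategory.Qh.map s₂)›
  have hr' : (HomotopyCategory.quasiIso A (ComplexShape.up ℤ)) r :=
    (DerivedCategory.isIso_Qh_map_iff r).1 hr
  rw [isIso_unit_iff F hKinj r hr' hI₃]
  exact isIso₃_of_isIso₁₂
    ((Phi F).mapTriangle.map φ) (Functor.map_distinguished _ _ hT) (Functor.map_distinguished _ _ hT')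
    ((isIso_unit_iff F hKinj s₁ hs₁ hI₁).1 h₁) ((isIso_unit_iff F hKinj s₂ hs₂ hI₂).1 h₂)

lemma isIso_unit_of_isStrictlyGE [EnoughInjectives A] [PreservesFiniteLimits F]
    (K : CochainComplex A ℤ) (a : ℤ) [K.IsStrictlyGE a] (hK : ∀ m, IsAcyclicObj F (K.X m)) :
    IsIso ((unit F).app ((HomotopyCategory.quotient A (ComplexShape.up ℤ)).obj K)) := by
  obtain ⟨L, f, _, hL, -, hf⟩ := RightRes.exists_right_resolution (I := fun X : A => Injective X)
    ⟨_, (isZero_zero A), Injective.zero_injective⟩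
    (fun X => ⟨Injective.under X, Injective.ι X, inferInstance, inferInstance⟩) K a
  haveI := hL
  haveI := CochainComplex.isKInjective_of_injective L a
  rw [isIso_unit_iff F hKinj ((HomotopyCategory.quotient A (ComplexShape.up ℤ)).map f) ((HomotopyCategory.quotient_map_mem_quasiIso_iff f).2 hf)
    (CochainComplex.IsKInjective.rightOrthogonal L)]
  exact Localization.inverts DerivedCategory.Qh _ _
    (quasiIso_map_of_acyclic F f a a hK (fun k => haveI := hL k; isAcyclicObj_of_injective F _))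

variable [HasColimitsOfShape (Discrete ℕ) A] [HasColimitsOfShape (Discrete ℕ) B]
  (hKinjB : ∀ K : CochainComplex B ℤ, ∃ (I : CochainComplex B ℤ) (f : K ⟶ I),
      I.IsKInjective ∧ QuasiIso f)
  [PreservesColimitsOfShape (Discrete ℕ) F] [PreservesColimitsOfShape (Discrete ℕ) (RFun F)]

include hKinjB

lemma isIso_unit_coproduct (K : ℕ → CochainComplex A ℤ) (h : ∀ n, IsIso ((unit F).app ((HomotopyCategory.quotient A (ComplexShape.up ℤ)).obj (K n)))) :
    IsIso ((unit F).app ((HomotopyCategory.quotient A (ComplexShape.up ℤ)).obj (∐ K))) := by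
  obtain ⟨hc⟩ := isColimit_Q_cofan hKinj K
  let hc₂ := isColimitCofanMkObjOfIsColimit (RFun F) _ _ hc
  let Fb := F.mapHomologicalComplex (ComplexShape.up ℤ)
  let M : ℕ → CochainComplex B ℤ := fun n => Fb.obj (K n)
  have hM : IsColimit (Cofan.mk (Fb.obj (∐ K)) (fun n => Fb.map (Sigma.ι K n)) : Cofan M) :=
    HomologicalComplex.isColimitOfEval _ _ fun m =>
      (isColimitMapCoconeCofanMkEquiv (HomologicalComplex.eval B (ComplexShape.up ℤ) m) M _).symm
        (isColimitCofanMkObjOfIsColimit (HomologicalComplex.eval A (ComplexShape.up ℤ) m ⋙ F) K _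
          (coproductIsCoproduct K))
  obtain ⟨hc₁⟩ := isColimit_Q_cofan hKinjB M
  let e : ∐ M ≅ Fb.obj (∐ K) := (coproductIsCoproduct M).coconePointUniqueUpToIso hM
  have he : ∀ n, Sigma.ι M n ≫ e.hom = Fb.map (Sigma.ι K n) := fun n =>
    (coproductIsCoproduct M).comp_coconePointUniqueUpToIso_hom hM ⟨n⟩
  have hc₁' : IsColimit (Cofan.mk ((Phi F).obj ((HomotopyCategory.quotient A (ComplexShape.up ℤ)).obj (∐ K)))
      (fun n => (Phi F).map ((HomotopyCategory.quotient A (ComplexShape.up ℤ)).map (Sigma.ι K n))) : Cofan fun n => (Phi F).obj ((HomotopyCategory.quotient A (ComplexShape.up ℤ)).obj (K n))) :=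
    IsColimit.ofIsoColimit hc₁ (Cofan.ext (DerivedCategory.Q.mapIso e) fun n => by
      show DerivedCategory.Q.map (Sigma.ι M n) ≫ DerivedCategory.Q.map e.hom = _
      rw [← Functor.map_comp, he]
      rfl)
  haveI := h
  have hc₂' : IsColimit (Cofan.mk ((RFun F).obj (DerivedCategory.Qh.obj ((HomotopyCategory.quotient A (ComplexShape.up ℤ)).obj (∐ K))))
      (fun n => (RFun F).map (DerivedCategory.Qh.map ((HomotopyCategory.quotient A (ComplexShape.up ℤ)).map (Sigma.ι K n)))) :
        Cofan fun n => (RFun F).obj (DerivedCategory.Qh.obj ((HomotopyCategory.quotient A (ComplexShape.up ℤ)).obj (K n)))) := hc₂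
  refine ⟨⟨Cofan.IsColimit.desc hc₂' (fun n => inv ((unit F).app ((HomotopyCategory.quotient A (ComplexShape.up ℤ)).obj (K n))) ≫ (Phi F).map ((HomotopyCategory.quotient A (ComplexShape.up ℤ)).map (Sigma.ι K n))),
    ?_, ?_⟩⟩
  · refine Cofan.IsColimit.hom_ext hc₁' _ _ fun n => ?_
    show (Phi F).map ((HomotopyCategory.quotient A (ComplexShape.up ℤ)).map (Sigma.ι K n)) ≫ _ ≫ _ = (Phi F).map ((HomotopyCategory.quotient A (ComplexShape.up ℤ)).map (Sigma.ι K n)) ≫ _
    rw [← Category.assoc, (unit F).naturality, Category.assoc]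
    exact (congrArg (_ ≫ ·) (Cofan.IsColimit.fac hc₂' _ n)).trans
      ((IsIso.hom_inv_id_assoc _ _).trans (Category.comp_id _).symm)
  · refine Cofan.IsColimit.hom_ext hc₂' _ _ fun n => ?_
    show (RFun F).map (DerivedCategory.Qh.map ((HomotopyCategory.quotient A (ComplexShape.up ℤ)).map (Sigma.ι K n))) ≫ _ ≫ _ = _ ≫ _
    rw [← Category.assoc]
    erw [Cofan.IsColimit.fac hc₂' _ n]
    rw [Category.assoc, (unit F).naturality, IsIso.inv_hom_id_assoc]
    exact (Category.comp_id _).symm

theorem isIso_unit_of_acyclic [EnoughInjectives A] [PreservesFiniteLimits F] (K : CochainComplex A ℤ)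
    (hK : ∀ m, IsAcyclicObj F (K.X m)) : IsIso ((unit F).app ((HomotopyCategory.quotient A (ComplexShape.up ℤ)).obj K)) := by
  have hσ : ∀ n, IsIso ((unit F).app ((HomotopyCategory.quotient A (ComplexShape.up ℤ)).obj (StupidTower.σ K n))) := fun n =>
    isIso_unit_of_isStrictlyGE F hKinj (StupidTower.σ K n) (-(n : ℤ)) fun m => by
      by_cases h : -(n : ℤ) ≤ m
      · intro i hi
        exact (hK m i hi).of_iso ((F.rightDerived i).mapIso (StupidTower.xIso K n m h))
      · exact isAcyclicObj_of_isZero F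
          ((StupidTower.σ K n).isZero_of_isStrictlyGE (-(n : ℤ)) m (by omega))
  have hP := isIso_unit_coproduct F hKinj hKinjB _ hσ
  exact isIso_unit_obj₃ F hKinj _ (StupidTower.tel_distinguished K) hP hP

end Groth.Agent.TriH.CountableSum
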