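import Groth.Prelude.Def_DeltaF
import Mathlib.CategoryTheory.Abelian.Exact
import Mathlib.CategoryTheory.Preadditive.Injective.Basic

/-!
# Effaceable delta-functors are universal
-/

set_option autoImplicit false

open CategoryTheory CategoryTheory.Limits DeltaF

namespace Groth.Agent.TriH.Delta

universe v u v' u'

variable {A : Type u} [Category.{v} A] [Abelian A] {B : Type u'} [Category.{v'} B] [Abelian B]

/-- The short exact sequence of a monomorphism. -/
noncomputable abbrev monoSES {X Y : A} (u : X ⟶ Y) : ShortComplex A :=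
  ShortComplex.mk u (cokernel.π u) (cokernel.condition u)

lemma monoSES_shortExact {X Y : A} (u : X ⟶ Y) [Mono u] : (monoSES u).ShortExact :=
  { exact := ShortComplex.exact_cokernel u }

/-- A morphism of sequences of monomorphisms extending a commutative square. -/
noncomputable def monoSESMap {X Y X' Y' : A} {u : X ⟶ Y} {u' : X' ⟶ Y'} (a : X ⟶ X') (b : Y ⟶ Y')
    (h : u ≫ b = a ≫ u') : monoSES u ⟶ monoSES u' where
  τ₁ := a
  τ₂ := b
  τ₃ := cokernel.map u u' a b h
  comm₁₂ := h.symm
  comm₂₃ := by simp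

variable (T T' : CohDeltaFunctor A B ℕ)

lemma exists_step (hT : T.IsEffaceable) (n : ℕ) (τ : T.F n ⟶ T'.F n) :
    ∃! σ : T.F (n + 1) ⟶ T'.F (n + 1), ∀ (S : ShortComplex A) (hS : S.ShortExact),
      T.δ S hS n (n + 1) rfl ≫ σ.app S.X₁ = τ.app S.X₃ ≫ T'.δ S hS n (n + 1) rfl := by
  have hepi : ∀ (S : ShortComplex A) (hS : S.ShortExact), (T.F (n + 1)).map S.f = 0 →
      Epi (T.δ S hS n (n + 1) rfl) := fun S hS h =>
    (T.exact₁ S hS n (n + 1) rfl).epi_f h
  have hdesc : ∀ (S : ShortComplex A) (hS : S.ShortExact), (T.F (n + 1)).map S.f = 0 →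
      ∃ d : (T.F (n + 1)).obj S.X₁ ⟶ (T'.F (n + 1)).obj S.X₁,
        T.δ S hS n (n + 1) rfl ≫ d = τ.app S.X₃ ≫ T'.δ S hS n (n + 1) rfl := fun S hS h => by
    have he := hepi S hS h
    refine ⟨(T.exact₃ S hS n (n + 1) rfl).desc (τ.app S.X₃ ≫ T'.δ S hS n (n + 1) rfl) ?_,
      (T.exact₃ S hS n (n + 1) rfl).g_desc _ _⟩
    show (T.F n).map S.g ≫ τ.app S.X₃ ≫ T'.δ S hS n (n + 1) rfl = 0
    rw [← Category.assoc, τ.naturality, Category.assoc, T'.comp_δ, comp_zero]
  -- transport of the property along a morphism of sequences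
  have htr : ∀ (S S' : ShortComplex A) (hS : S.ShortExact) (hS' : S'.ShortExact) (φ : S ⟶ S')
      (d' : (T.F (n + 1)).obj S'.X₁ ⟶ (T'.F (n + 1)).obj S'.X₁),
      T.δ S' hS' n (n + 1) rfl ≫ d' = τ.app S'.X₃ ≫ T'.δ S' hS' n (n + 1) rfl →
      T.δ S hS n (n + 1) rfl ≫ (T.F (n + 1)).map φ.τ₁ ≫ d' =
        τ.app S.X₃ ≫ T'.δ S hS n (n + 1) rfl ≫ (T'.F (n + 1)).map φ.τ₁ :=
    fun S S' hS hS' φ d' h => by
      rw [← Category.assoc, ← T.δ_natural hS hS' φ, Category.assoc, h, ← Category.assoc,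
        τ.naturality, Category.assoc, T'.δ_natural hS hS' φ]
  choose Y u hu hu0 using hT n
  have hS : ∀ X, (monoSES (u X)).ShortExact := fun X =>
    haveI := hu X; monoSES_shortExact (u X)
  choose s hs using fun X => hdesc (monoSES (u X)) (hS X) (hu0 X)
  have hnat : ∀ {X : A} (S : ShortComplex A) (hS' : S.ShortExact) (f : X ⟶ S.X₁)
      (_ : (T.F (n + 1)).map S.f = 0)
      (d : (T.F (n + 1)).obj S.X₁ ⟶ (T'.F (n + 1)).obj S.X₁),
      T.δ S hS' n (n + 1) rfl ≫ d = τ.app S.X₃ ≫ T'.δ S hS' n (n + 1) rfl →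
      (T.F (n + 1)).map f ≫ d = s X ≫ (T'.F (n + 1)).map f := by
    intro X S hS' f h0 d hd
    haveI := hu X
    -- a sequence out of `X` dominating the effacing one and the given one
    let W := biprod.lift (u X) (f ≫ S.f)
    haveI : Mono W := mono_of_mono_fac (biprod.lift_fst _ _)
    let p : monoSES W ⟶ monoSES (u X) := monoSESMap (𝟙 X) biprod.fst (by simp [W])
    let q : monoSES W ⟶ S :=
      { τ₁ := f
        τ₂ := biprod.snd
        τ₃ := cokernel.desc W (biprod.snd ≫ S.g) (by simp [W])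
        comm₁₂ := by simp [W]
        comm₂₃ := by simp }
    have hW0 : (T.F (n + 1)).map W = 0 := by
      simp only [W, biprod.lift_eq, Functor.map_add, Functor.map_comp]
      rw [hu0, h0]
      simp
    haveI := hepi (monoSES W) (monoSES_shortExact W) hW0
    rw [← cancel_epi (T.δ (monoSES W) (monoSES_shortExact W) n (n + 1) rfl)]
    have h₁ := htr _ _ (monoSES_shortExact W) (hS X) p (s X) (hs X)
    have h₂ := htr _ _ (monoSES_shortExact W) hS' q d hd
    simp only [p, monoSESMap, CategoryTheory.Functor.map_id, Category.id_comp, Category.comp_id]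
      at h₁
    refine h₂.trans ?_
    rw [reassoc_of% h₁]
  refine ⟨{ app := s, naturality := fun X X' f => ?_ }, fun S hS' => ?_, fun σ hσ => ?_⟩
  · exact hnat (monoSES (u X')) (hS X') f (hu0 X') (s X') (hs X')
  · -- an effacing sequence receiving `S`
    haveI := hS'.mono_f
    haveI := hS'.epi_g
    haveI := hu S.X₂
    let w := S.f ≫ u S.X₂
    haveI : Mono w := mono_comp _ _
    have hw0 : (T.F (n + 1)).map w = 0 := by rw [Functor.map_comp, hu0, comp_zero]
    let φ : S ⟶ monoSES w :=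
      { τ₁ := 𝟙 _
        τ₂ := u S.X₂
        τ₃ := hS'.exact.desc (u S.X₂ ≫ cokernel.π w)
          (by rw [← Category.assoc]; exact cokernel.condition w)
        comm₁₂ := by simp [w]
        comm₂₃ := by simp }
    obtain ⟨d, hd⟩ := hdesc _ (monoSES_shortExact w) hw0
    have e : d = s S.X₁ := by
      simpa using hnat (monoSES w) (monoSES_shortExact w) (𝟙 S.X₁) hw0 d hd
    have := htr S _ hS' (monoSES_shortExact w) φ d hd
    subst e
    simpa [φ] using this
  · ext X
    haveI := hepi _ (hS X) (hu0 X)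
    exact (cancel_epi (T.δ _ (hS X) n (n + 1) rfl)).1 ((hσ _ (hS X)).trans (hs X).symm)

/-- An effaceable delta-functor is universal. -/
theorem isUniversal_of_isEffaceable (hT : T.IsEffaceable) : T.IsUniversal := by
  intro T' t
  let next : ∀ n, (T.F n ⟶ T'.F n) → (T.F (n + 1) ⟶ T'.F (n + 1)) :=
    fun n τ => (exists_step T T' hT n τ).choose
  let τ : ∀ n, T.F n ⟶ T'.F n := fun n => Nat.rec t next n
  refine ⟨{ app := τ, comm := ?_ }, rfl, fun φ hφ => ?_⟩
  · rintro S hS n _ rfl
    exact (exists_step T T' hT n (τ n)).choose_spec.1 S hS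
  · apply CohDeltaFunctor.hom_ext
    intro n
    induction n with
    | zero => exact hφ
    | succ n ih =>
      exact (exists_step T T' hT n (τ n)).choose_spec.2 (φ.app (n + 1)) (fun S hS => by
        rw [φ.comm S hS n (n + 1) rfl, ih])

lemma isEffaceable_of_isZero_injective [EnoughInjectives A]
    (h : ∀ (n : ℕ) (I : A), Injective I → IsZero ((T.F (n + 1)).obj I)) : T.IsEffaceable :=
  fun n X => ⟨Injective.under X, Injective.ι X, inferInstance,
    (h n _ inferInstance).eq_of_tgt _ _⟩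

lemma isZero_injective_of_isEffaceable (hT : T.IsEffaceable) (n : ℕ) (I : A) (hI : Injective I) :
    IsZero ((T.F (n + 1)).obj I) := by
  obtain ⟨Y, u, hu, h0⟩ := hT n I
  rw [IsZero.iff_id_eq_zero, ← CategoryTheory.Functor.map_id, ← Injective.comp_factorThru (𝟙 I) u,
    Functor.map_comp, h0, zero_comp]

end Groth.Agent.TriH.Delta
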