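import Mathlib.CategoryTheory.Functor.Derived.PointwiseRightDerived
import Mathlib.CategoryTheory.Localization.CalculusOfFractions
import Mathlib.CategoryTheory.Limits.Shapes.IsTerminal

/-!
# Right derived functors through adapted objects
-/

set_option autoImplicit false
set_option linter.style.haveILetI false

open CategoryTheory CategoryTheory.Limits

namespace Groth.Agent.TriH.AdaptedDer

universe v v' v'' u u' u''

variable {C : Type u} [Category.{v} C] {D : Type u'} [Category.{v'} D] {H : Type u''}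
  [Category.{v''} H] (L : C ⥤ D) (W : MorphismProperty C) [L.IsLocalization W]
  [W.HasLeftCalculusOfFractions] (F : C ⥤ H) (G : C → Prop)

/-- `y` is the value of the cocone at `φ`. -/
def IsVal {X I : C} (φ : L.obj X ⟶ L.obj I) (y : F.obj X ⟶ F.obj I) : Prop :=
  ∃ (Z : C) (f : X ⟶ Z) (s : I ⟶ Z), G Z ∧ W s ∧ φ ≫ L.map s = L.map f ∧ F.map f = y ≫ F.map s

variable (hres : ∀ Y : C, ∃ (I : C) (s : Y ⟶ I), G I ∧ W s)
  (hF : ∀ ⦃I J : C⦄ (s : I ⟶ J), G I → G J → W s → IsIso (F.map s))

include hres hF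

lemma exists_val {X I : C} (hI : G I) (φ : L.obj X ⟶ L.obj I) : ∃ y, IsVal L W F G φ y := by
  obtain ⟨z, hz⟩ := Localization.exists_leftFraction L W φ
  obtain ⟨Z, r, hZ, hr⟩ := hres z.Y'
  have hs : W (z.s ≫ r) := W.comp_mem _ _ z.hs hr
  haveI := hF _ hI hZ hs
  refine ⟨F.map (z.f ≫ r) ≫ inv (F.map (z.s ≫ r)), Z, z.f ≫ r, z.s ≫ r, hZ, hs, ?_, by simp⟩
  rw [hz, Functor.map_comp, Functor.map_comp, MorphismProperty.LeftFraction.map_comp_map_s_assoc]

lemma val_unique {X I : C} (hI : G I) {φ : L.obj X ⟶ L.obj I} {y y' : F.obj X ⟶ F.obj I}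
    (h : IsVal L W F G φ y) (h' : IsVal L W F G φ y') : y = y' := by
  obtain ⟨Z, f, s, hZ, hs, h1, h2⟩ := h
  obtain ⟨Z', f', s', hZ', hs', h1', h2'⟩ := h'
  obtain ⟨ψ, hψ⟩ := (MorphismProperty.RightFraction.mk s hs s').exists_leftFraction
  have hψ' : s' ≫ ψ.s = s ≫ ψ.f := hψ
  have hL : L.map (f ≫ ψ.f) = L.map (f' ≫ ψ.s) := by
    rw [Functor.map_comp, Functor.map_comp, ← h1, ← h1', Category.assoc, Category.assoc,
      ← Functor.map_comp, ← Functor.map_comp, hψ']
  obtain ⟨T, w, hw, hfw⟩ := (MorphismProperty.map_eq_iff_postcomp L W _ _).1 hL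
  obtain ⟨T', r, hT', hr⟩ := hres T
  have hσ : W (s' ≫ ψ.s ≫ w ≫ r) :=
    W.comp_mem _ _ hs' (W.comp_mem _ _ ψ.hs (W.comp_mem _ _ hw hr))
  haveI := hF _ hI hT' hσ
  rw [← cancel_mono (F.map (s' ≫ ψ.s ≫ w ≫ r))]
  have e1 : y ≫ F.map (s' ≫ ψ.s ≫ w ≫ r) = F.map (f ≫ ψ.f ≫ w ≫ r) := by
    rw [reassoc_of% hψ', Functor.map_comp, ← Category.assoc, ← h2, ← Functor.map_comp]
  rw [e1, Functor.map_comp F s', ← Category.assoc y', ← h2', ← Functor.map_comp]
  simp only [Category.assoc] at hfw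
  rw [reassoc_of% hfw]

lemma val_comp {X' X I : C} (g : X' ⟶ X) {φ : L.obj X ⟶ L.obj I} {y : F.obj X ⟶ F.obj I}
    (h : IsVal L W F G φ y) : IsVal L W F G (L.map g ≫ φ) (F.map g ≫ y) := by
  obtain ⟨Z, f, s, hZ, hs, h1, h2⟩ := h
  exact ⟨Z, g ≫ f, s, hZ, hs, by rw [Category.assoc, h1, Functor.map_comp],
    by rw [Functor.map_comp, h2, Category.assoc]⟩

omit hres hF in
lemma val_id {I : C} (hI : G I) [W.ContainsIdentities] : IsVal L W F G (𝟙 (L.obj I)) (𝟙 (F.obj I)) :=
  ⟨I, 𝟙 I, 𝟙 I, hI, W.id_mem I, by simp, by simp⟩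

/-- The colimit cocone at an adapted object. -/
noncomputable def cocone {I : C} (hI : G I) :
    Cocone (CostructuredArrow.proj L (L.obj I) ⋙ F) where
  pt := F.obj I
  ι :=
    { app := fun j => (exists_val L W F G hres hF hI j.hom).choose
      naturality := fun j j' g => by
        refine Eq.trans ?_ (Category.comp_id _).symm
        refine val_unique L W F G hres hF hI (φ := j.hom) ?_
          (exists_val L W F G hres hF hI j.hom).choose_spec
        have := val_comp L W F G hres hF g.left (exists_val L W F G hres hF hI j'.hom).choose_spec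
        rwa [CostructuredArrow.w g] at this }

lemma cocone_ι_id {I : C} (hI : G I) :
    (cocone L W F G hres hF hI).ι.app (CostructuredArrow.mk (𝟙 (L.obj I))) = 𝟙 _ :=
  val_unique L W F G hres hF hI
    (exists_val L W F G hres hF hI (CostructuredArrow.mk (𝟙 (L.obj I))).hom).choose_spec
    (val_id L W F G hI)

/-- The cocone is colimit. -/
noncomputable def isColimit {I : C} (hI : G I) : IsColimit (cocone L W F G hres hF hI) where
  desc c := c.ι.app (CostructuredArrow.mk (𝟙 (L.obj I)))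
  fac c j := by
    obtain ⟨Z, f, s, hZ, hs, h1, h2⟩ := (exists_val L W F G hres hF hI j.hom).choose_spec
    haveI : IsIso (L.map s) := Localization.inverts L W s hs
    let o : CostructuredArrow L (L.obj I) := CostructuredArrow.mk (inv (L.map s))
    let a : j ⟶ o := CostructuredArrow.homMk f (by
      show L.map f ≫ inv (L.map s) = j.hom
      rw [← h1, Category.assoc, IsIso.hom_inv_id, Category.comp_id])
    let b : CostructuredArrow.mk (𝟙 (L.obj I)) ⟶ o := CostructuredArrow.homMk s (by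
      show L.map s ≫ inv (L.map s) = 𝟙 _
      simp)
    rw [← c.w a, ← c.w b]
    show (exists_val L W F G hres hF hI j.hom).choose ≫ F.map s ≫ c.ι.app o = F.map f ≫ c.ι.app o
    rw [h2, Category.assoc]
  uniq c m hm := by
    have := hm (CostructuredArrow.mk (𝟙 (L.obj I)))
    rw [cocone_ι_id] at this
    exact (Category.id_comp m).symm.trans this

theorem hasPointwiseRightDerivedFunctor : F.HasPointwiseRightDerivedFunctor W := by
  intro Y
  obtain ⟨I, s, hI, hs⟩ := hres Y
  rw [F.hasPointwiseRightDerivedFunctorAt_iff_of_mem W s hs, F.hasPointwiseRightDerivedFunctorAt_iff W.Q W]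
  exact ⟨⟨⟨_, isColimit W.Q W F G hres hF hI⟩⟩⟩

theorem isIso_unit [F.HasPointwiseRightDerivedFunctor W] (RF : D ⥤ H) (α : F ⟶ L ⋙ RF)
    [RF.IsRightDerivedFunctor α W] {I : C} (hI : G I) : IsIso (α.app I) := by
  have h := RF.isPointwiseLeftKanExtensionOfHasPointwiseRightDerivedFunctor α W (L.obj I)
  have h' := (isColimit L W F G hres hF hI).comp_coconePointUniqueUpToIso_hom h
    (CostructuredArrow.mk (𝟙 (L.obj I)))
  rw [cocone_ι_id] at h'
  have e : α.app I = ((Functor.LeftExtension.mk RF α).coconeAt (L.obj I)).ι.app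
      (CostructuredArrow.mk (𝟙 (L.obj I))) :=
    ((congrArg (α.app I ≫ ·) (RF.map_id (L.obj I))).trans (Category.comp_id _)).symm
  have e' := ((Category.id_comp _).symm.trans h').trans e.symm
  rw [← e']
  exact inferInstanceAs (IsIso ((isColimit L W F G hres hF hI).coconePointUniqueUpToIso h).hom)

end Groth.Agent.TriH.AdaptedDer
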