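import Groth.Agent.TriH.SESRes
import Mathlib.Algebra.Homology.Augment
import Mathlib.CategoryTheory.ObjectProperty.Basic

/-!
# Quasi-isomorphisms into complexes of a class of finite dimension (unbounded complexes)
-/

set_option autoImplicit false
set_option linter.style.haveILetI false

open CategoryTheory CategoryTheory.Limits ZeroObject

namespace Groth.Agent.TriH.ClassRes

universe v u

variable {A : Type u} [Category.{v} A] [Abelian A]

/-- The hypotheses on a class of objects. -/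
structure Hyp (P : ObjectProperty A) (n : ℕ) : Prop where
  h1 : ∀ X : A, ∃ (Y : A) (i : X ⟶ Y), P Y ∧ Mono i
  h2 : ∀ S : ShortComplex A, S.ShortExact → P S.X₁ → (P S.X₂ ↔ P S.X₃)
  hn : 1 ≤ n
  h3 : ∀ K : CochainComplex A ℕ, (∀ i : ℕ, 1 ≤ i → i ≤ n → K.ExactAt i) →
    (∀ i : ℕ, n < i → IsZero (K.X i)) → Epi (K.d (n - 1) n) → (∀ i : ℕ, i < n → P (K.X i)) → P (K.X n)

variable {P : ObjectProperty A} {n : ℕ} (H : Hyp P n)

include H

lemma of_isZero {Z : A} (hZ : IsZero Z) : P Z := by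
  obtain ⟨Y, i, hY, _⟩ := H.h1 Z
  exact (H.h2 (ShortComplex.mk (𝟙 Y) (0 : Y ⟶ Z) comp_zero)
    { exact := (ShortComplex.exact_iff_epi _ rfl).2 (inferInstanceAs (Epi (𝟙 Y)))
      epi_g := ⟨fun g h _ => hZ.eq_of_src g h⟩ } hY).1 hY

lemma of_iso {X Y : A} (e : X ≅ Y) (hX : P X) : P Y :=
  (H.h2 (ShortComplex.mk e.hom (0 : Y ⟶ (0 : A)) comp_zero)
    { exact := (ShortComplex.exact_iff_epi _ rfl).2 (inferInstanceAs (Epi e.hom))
      epi_g := ⟨fun g h _ => (isZero_zero A).eq_of_src g h⟩ } hX).2 (of_isZero H (isZero_zero A))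

lemma biprod_mem {X Y : A} (hX : P X) (hY : P Y) : P (X ⊞ Y) :=
  (H.h2 _ (ShortComplex.Splitting.ofHasBinaryBiproduct X Y).shortExact hX).2 hY

omit H in
/-- The finite complex attached to a sequence of short exact sequences. -/
lemma exists_finite_complex : ∀ (m : ℕ) (Q J : ℕ → A) (ι : ∀ i, Q i ⟶ J i) (π : ∀ i, J i ⟶ Q (i + 1))
    (w : ∀ i, ι i ≫ π i = 0) (_ : ∀ i, (ShortComplex.mk (ι i) (π i) (w i)).ShortExact),
    ∃ (K : CochainComplex A ℕ) (ε : Q 0 ⟶ K.X 0) (h : ε ≫ K.d 0 1 = 0),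
      Mono ε ∧ (ShortComplex.mk ε (K.d 0 1) h).Exact ∧ (∀ i, 1 ≤ i → i ≤ m → K.ExactAt i) ∧
      (∀ i, m < i → IsZero (K.X i)) ∧ (∀ i, i + 1 = m → Epi (K.d i m)) ∧ (m = 0 → Epi ε) ∧
      (∀ i, i < m → Nonempty (J i ≅ K.X i)) ∧ Nonempty (Q m ≅ K.X m) := by
  intro m
  induction m with
  | zero =>
    intro Q J ι π w hS
    let K : CochainComplex A ℕ := CochainComplex.of (fun i => if i = 0 then Q 0 else 0) (fun _ => 0) (fun _ => comp_zero)
    have hz : ∀ i, 0 < i → IsZero (K.X i) := fun i hi => by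
      simp only [K, CochainComplex.of_X, if_neg (show i ≠ 0 by omega)]
      exact isZero_zero A
    refine ⟨K, (𝟙 (Q 0)), (hz 1 Nat.one_pos).eq_of_tgt _ _, inferInstanceAs (Mono (𝟙 (Q 0))), ?_,
      fun i hi hi' => absurd hi' (by omega), hz, fun i hi => absurd hi (by omega),
      fun _ => inferInstanceAs (Epi (𝟙 (Q 0))), fun i hi => absurd hi (by omega), ⟨Iso.refl _⟩⟩
    exact (ShortComplex.exact_iff_epi _ ((hz 1 Nat.one_pos).eq_of_tgt _ _)).2 (inferInstanceAs (Epi (𝟙 (Q 0))))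
  | succ m ih =>
    intro Q J ι π w hS
    obtain ⟨K, ε, hε, hm, hex0, hex, hz, hepi, hepi0, hJ, ⟨eQ⟩⟩ :=
      ih (fun i => Q (i + 1)) (fun i => J (i + 1)) (fun i => ι (i + 1)) (fun i => π (i + 1))
        (fun i => w (i + 1)) (fun i => hS (i + 1))
    have hw' : (π 0 ≫ ε) ≫ K.d 0 1 = 0 := by rw [Category.assoc, hε, comp_zero]
    haveI := (hS 0).mono_f
    haveI : Epi (π 0) := (hS 0).epi_g
    refine ⟨CochainComplex.augment K (π 0 ≫ ε) hw', ι 0, ?_, inferInstanceAs (Mono (ι 0)), ?_, ?_,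
      ?_, ?_, fun h => absurd h (by omega), ?_, ⟨eQ⟩⟩
    · show ι 0 ≫ π 0 ≫ ε = 0
      rw [← Category.assoc, w, zero_comp]
    · haveI := hm
      let φ : ShortComplex.mk (ι 0) (π 0) (w 0) ⟶
          ShortComplex.mk (ι 0) (π 0 ≫ ε) (by rw [← Category.assoc, w, zero_comp]) :=
        { τ₁ := 𝟙 _, τ₂ := 𝟙 _, τ₃ := ε }
      haveI : Epi φ.τ₁ := inferInstanceAs (Epi (𝟙 _))
      haveI : IsIso φ.τ₂ := inferInstanceAs (IsIso (𝟙 _))
      haveI : Mono φ.τ₃ := hm
      exact (ShortComplex.exact_iff_of_epi_of_isIso_of_mono φ).1 (hS 0).exact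
    · intro i hi hi'
      obtain ⟨j, rfl⟩ : ∃ j, i = j + 1 := ⟨i - 1, by omega⟩
      rw [HomologicalComplex.exactAt_iff' _ j (j + 1) (j + 1 + 1) (by simp) (by simp)]
      rcases j with _ | j
      · let φ : ShortComplex.mk (π 0 ≫ ε) (K.d 0 1) hw' ⟶ ShortComplex.mk ε (K.d 0 1) hε :=
          { τ₁ := π 0, τ₂ := 𝟙 _, τ₃ := 𝟙 _ }
        haveI : Epi φ.τ₁ := (hS 0).epi_g
        haveI : IsIso φ.τ₂ := inferInstanceAs (IsIso (𝟙 _))
        haveI : Mono φ.τ₃ := inferInstanceAs (Mono (𝟙 _))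
        exact (ShortComplex.exact_iff_of_epi_of_isIso_of_mono φ).2 hex0
      · exact (HomologicalComplex.exactAt_iff' K j (j + 1) (j + 1 + 1) (by simp) (by simp)).1
          (hex (j + 1) (by omega) (by omega))
    · intro i hi
      obtain ⟨j, rfl⟩ : ∃ j, i = j + 1 := ⟨i - 1, by omega⟩
      exact hz j (by omega)
    · intro i hi
      rcases i with _ | i
      · obtain rfl : m = 0 := by omega
        haveI := hepi0 rfl
        exact inferInstanceAs (Epi (π 0 ≫ ε))
      · exact hepi i (by omega)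
    · intro i hi
      rcases i with _ | i
      · exact ⟨Iso.refl _⟩
      · exact hJ i (by omega)

lemma last_mem (Q J : ℕ → A) (ι : ∀ i, Q i ⟶ J i) (π : ∀ i, J i ⟶ Q (i + 1))
    (w : ∀ i, ι i ≫ π i = 0) (hS : ∀ i, (ShortComplex.mk (ι i) (π i) (w i)).ShortExact)
    (hJ : ∀ i, i < n → P (J i)) : P (Q n) := by
  obtain ⟨K, ε, _, -, -, hex, hz, hepi, -, hJK, ⟨e⟩⟩ := exists_finite_complex n Q J ι π w hS
  exact of_iso H e.symm (H.h3 K hex hz (hepi (n - 1) (by have := H.hn; omega))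
    (fun i hi => of_iso H (hJK i hi).some (hJ i hi)))

omit H

/-- A contractible complex on a family of objects. -/
noncomputable abbrev disk (W : ℤ → A) : CochainComplex A ℤ :=
  CochainComplex.of (fun p => W p ⊞ W (p + 1)) (fun _ => biprod.snd ≫ biprod.inl) (fun _ => by simp)

lemma disk_d (W : ℤ → A) (p : ℤ) : (disk W).d p (p + 1) = biprod.snd ≫ biprod.inl :=
  CochainComplex.of_d (fun p => W p ⊞ W (p + 1)) (fun _ => biprod.snd ≫ biprod.inl) p

lemma disk_acyclic (W : ℤ → A) : (disk W).Acyclic := by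
  intro k
  obtain ⟨p, rfl⟩ : ∃ p, k = p + 1 := ⟨k - 1, by omega⟩
  rw [HomologicalComplex.exactAt_iff' _ p (p + 1) (p + 1 + 1) (by simp) (by simp),
    ShortComplex.exact_iff_exact_up_to_refinements]
  intro T x hx
  refine ⟨T, 𝟙 T, inferInstance, x ≫ biprod.fst ≫ biprod.inr, ?_⟩
  change T ⟶ W (p + 1) ⊞ W (p + 1 + 1) at x
  change x ≫ (disk W).d (p + 1) (p + 1 + 1) = 0 at hx
  show 𝟙 T ≫ x = (x ≫ biprod.fst ≫ biprod.inr) ≫ (disk W).d p (p + 1)
  rw [disk_d] at hx ⊢
  have hx' : x ≫ biprod.snd = 0 := by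
    rw [← cancel_mono (biprod.inl : W (p + 1 + 1) ⟶ W (p + 1 + 1) ⊞ W (p + 1 + 1 + 1)), zero_comp, Category.assoc]
    exact hx
  apply biprod.hom_ext <;> simp [hx']

/-- A map to a disk. -/
noncomputable def toDisk {X : CochainComplex A ℤ} {W : ℤ → A} (ι : ∀ p, X.X p ⟶ W p) : X ⟶ disk W where
  f p := biprod.lift (ι p) (X.d p (p + 1) ≫ ι (p + 1))
  comm' i j hij := by
    change i + 1 = j at hij
    subst hij
    rw [disk_d]
    apply biprod.hom_ext <;> simp

/-- A map from a disk. -/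
noncomputable def fromDisk {I : CochainComplex A ℤ} {W : ℤ → A} (γ : ∀ p, W (p + 1) ⟶ I.X p) :
    disk W ⟶ I where
  f p := biprod.desc
    (eqToHom (congrArg W (show p = p - 1 + 1 by omega)) ≫ γ (p - 1) ≫ I.d (p - 1) p) (γ p)
  comm' i j hij := by
    change i + 1 = j at hij
    subst hij
    rw [disk_d]
    have key : ∀ (q r : ℤ) (hr : r = q + 1) (h : r = i + 1),
        eqToHom (congrArg W hr) ≫ γ q ≫ I.d q r =
          eqToHom (congrArg W h) ≫ γ i ≫ I.d i r := by
      rintro q r hr rfl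
      obtain rfl : q = i := by omega
      rfl
    apply biprod.hom_ext' <;> simp [key (i + 1 - 1) (i + 1) (by omega) rfl]

include H

lemma disk_mem (W : ℤ → A) (hW : ∀ p, P (W p)) (p : ℤ) : P ((disk W).X p) :=
  biprod_mem H (hW p) (hW (p + 1))

/-- `X` admits a quasi-isomorphism to a complex with terms in `P`. -/
def Ok (_ : Hyp P n) (X : CochainComplex A ℤ) : Prop :=
  ∃ (I : CochainComplex A ℤ) (f : X ⟶ I), QuasiIso f ∧ ∀ k : ℤ, P (I.X k)

lemma ok_step {X : CochainComplex A ℤ} (W : ℤ → A) (hW : ∀ p, P (W p)) (ι : ∀ p, X.X p ⟶ W p)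
    [Mono (toDisk ι)] (hok : Ok H (cokernel (toDisk ι))) : Ok H X := by
  obtain ⟨I, h, hh, hI⟩ := hok
  let g : disk W ⟶ I := cokernel.π (toDisk ι) ≫ h
  let V : ℤ → A := fun p => W p ⊞ I.X (p - 1)
  let τ : disk W ⟶ disk V :=
    { f := fun p => biprod.map biprod.inl biprod.inl
      comm' := fun i j hij => by
        change i + 1 = j at hij
        subst hij
        rw [disk_d, disk_d]
        apply biprod.hom_ext <;> simp }
  let c : ∀ p : ℤ, I.X (p + 1 - 1) ≅ I.X p := fun p => I.XIsoOfEq (show p + 1 - 1 = p by omega)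
  let γ : ∀ p, V (p + 1) ⟶ I.X p := fun p => biprod.desc (biprod.inr ≫ g.f p) (c p).hom
  let g' : disk V ⟶ I := fromDisk γ
  have hτ : τ ≫ g' = g := by
    apply HomologicalComplex.hom_ext
    intro p
    show biprod.map biprod.inl biprod.inl ≫ biprod.desc _ (γ p) = g.f p
    have key : ∀ (q : ℤ) (hq : p = q + 1),
        (biprod.inl : W p ⟶ V p) ≫ eqToHom (congrArg V hq) ≫ γ q ≫ I.d q p =
          biprod.inl ≫ g.f p := by
      rintro q rfl
      have hd : (biprod.inr : W (q + 1) ⟶ W q ⊞ W (q + 1)) ≫ (disk W).d q (q + 1) = biprod.inl := by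
        rw [disk_d, biprod.inr_snd_assoc]
      simp only [eqToHom_refl, Category.id_comp, γ, biprod.inl_desc_assoc, Category.assoc]
      rw [g.comm q (q + 1), reassoc_of% hd]
    apply biprod.hom_ext'
    · simpa using key (p - 1) (by omega)
    · simp [γ]
  haveI : Epi g' := HomologicalComplex.epi_of_epi_f _ fun p => by
    haveI : IsSplitEpi (g'.f p) := IsSplitEpi.mk'
      { section_ := (c p).inv ≫ biprod.inr ≫ (biprod.inr : V (p + 1) ⟶ V p ⊞ V (p + 1))
        id := by
          show ((c p).inv ≫ biprod.inr ≫ biprod.inr) ≫ biprod.desc _ (γ p) = 𝟙 _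
          simp [γ] }
    infer_instance
  have hK : ∀ p, P ((kernel g').X p) := fun p => by
    have hKp : IsLimit (KernelFork.ofι ((kernel.ι g').f p)
        (show (kernel.ι g').f p ≫ g'.f p = 0 by
          rw [← HomologicalComplex.comp_f, kernel.condition]; rfl)) :=
      KernelFork.mapIsLimit _ (kernelIsKernel g') (HomologicalComplex.eval A (ComplexShape.up ℤ) p)
    let α : V p ⟶ I.X p :=
      eqToHom (congrArg V (show p = p - 1 + 1 by omega)) ≫ γ (p - 1) ≫ I.d (p - 1) p
    let u : V p ⊞ W (p + 1) ⟶ I.X p := biprod.desc α (biprod.inr ≫ g.f p)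
    let k : V p ⊞ W (p + 1) ⟶ V p ⊞ V (p + 1) :=
      biprod.map (𝟙 _) biprod.inl - u ≫ (c p).inv ≫ biprod.inr ≫ biprod.inr
    have hk : k ≫ g'.f p = 0 := by
      show k ≫ biprod.desc α (γ p) = 0
      apply biprod.hom_ext' <;> simp [k, u, γ]
    have hr : k ≫ biprod.map (𝟙 _) biprod.fst = 𝟙 _ := by
      apply biprod.hom_ext' <;> apply biprod.hom_ext <;> simp [k]
    refine of_iso H ?_ (biprod_mem H (biprod_mem H (hW p) (hI (p - 1))) (hW (p + 1)))
    refine IsLimit.conePointUniqueUpToIso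
      (KernelFork.IsLimit.ofι k hk (fun {T} x _ => x ≫ biprod.map (𝟙 _) biprod.fst) ?_ ?_) hKp
    · intro T x hx
      change T ⟶ V p ⊞ V (p + 1) at x
      have hx' : x ≫ biprod.desc α (γ p) = 0 := hx
      have h1 : x ≫ biprod.snd ≫ biprod.snd =
          -((x ≫ biprod.fst) ≫ α + (x ≫ biprod.snd ≫ biprod.fst) ≫ biprod.inr ≫ g.f p) ≫ (c p).inv := by
        rw [← cancel_mono (c p).hom, Preadditive.neg_comp, Category.assoc _ (c p).inv, Iso.inv_hom_id, Category.comp_id,
          eq_neg_iff_add_eq_zero, ← hx']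
        simp [γ, biprod.desc_eq, Preadditive.comp_add, Category.assoc]
        abel
      apply biprod.hom_ext
      · simp [k, V]
      · apply biprod.hom_ext
        · simp [k, V]
        · simp [k, u, V, h1, biprod.desc_eq, Preadditive.comp_add, Preadditive.add_comp]
    · intro T x hx m hm
      rw [← hm, Category.assoc, hr, Category.comp_id]
  have hS₂ : (ShortComplex.mk (kernel.ι g') g' (kernel.condition _)).ShortExact :=
    { exact := ShortComplex.exact_of_f_is_kernel _ (kernelIsKernel _) }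
  have hS₁ : (ShortComplex.mk (toDisk ι) (cokernel.π (toDisk ι)) (cokernel.condition _)).ShortExact :=
    { exact := ShortComplex.exact_cokernel _ }
  let a : X ⟶ kernel g' := kernel.lift _ (toDisk ι ≫ τ) (by
    rw [Category.assoc, hτ, cokernel.condition_assoc, zero_comp])
  let φ : ShortComplex.mk (toDisk ι) (cokernel.π (toDisk ι)) (cokernel.condition _) ⟶
      ShortComplex.mk (kernel.ι g') g' (kernel.condition _) :=
    { τ₁ := a, τ₂ := τ, τ₃ := h
      comm₁₂ := kernel.lift_ι _ _ _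
      comm₂₃ := hτ }
  have hτq : QuasiIso τ := by
    rw [quasiIso_iff]
    intro i
    rw [quasiIsoAt_iff_isIso_homologyMap]
    exact ⟨⟨0, ((HomologicalComplex.exactAt_iff_isZero_homology _ _).1 (disk_acyclic W i)).eq_of_src _ _,
      ((HomologicalComplex.exactAt_iff_isZero_homology _ _).1 (disk_acyclic V i)).eq_of_src _ _⟩⟩
  exact ⟨kernel g', a, SESRes.quasiIso_τ₁ φ hS₁ hS₂ hτq hh, hK⟩

theorem exists_quasiIso (X : CochainComplex A ℤ) : Ok H X := by
  choose Y i hY hi using H.h1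
  haveI hd : ∀ Q : CochainComplex A ℤ, Mono (toDisk (X := Q) fun p => i (Q.X p)) := fun Q =>
    HomologicalComplex.mono_of_mono_f _ fun p => by
      haveI := hi (Q.X p)
      haveI : Mono ((toDisk (X := Q) fun p => i (Q.X p)).f p ≫ biprod.fst) := by
        show Mono (biprod.lift _ _ ≫ biprod.fst)
        rw [biprod.lift_fst]; infer_instance
      exact mono_of_mono _ biprod.fst
  let next : CochainComplex A ℤ → CochainComplex A ℤ := fun Q =>
    cokernel (toDisk (X := Q) fun p => i (Q.X p))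
  let seq : ℕ → CochainComplex A ℤ := fun m => next^[m] X
  have hs : ∀ m, seq (m + 1) = next (seq m) := fun m => Function.iterate_succ_apply' next m X
  have hlast : ∀ k, P ((seq n).X k) := by
    intro k
    let S : ℕ → ShortComplex (CochainComplex A ℤ) := fun m =>
      ShortComplex.mk (toDisk (X := seq m) fun p => i ((seq m).X p))
        (cokernel.π _ ≫ eqToHom (hs m).symm) (by rw [cokernel.condition_assoc, zero_comp])
    have hS : ∀ m, (S m).ShortExact := fun m => by
      let e : ShortComplex.mk (toDisk (X := seq m) fun p => i ((seq m).X p)) (cokernel.π _)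
          (cokernel.condition _) ≅ S m :=
        ShortComplex.isoMk (Iso.refl _) (Iso.refl _) (eqToIso (hs m).symm) (by simp [S]) (by simp [S])
      exact ShortComplex.shortExact_of_iso e { exact := ShortComplex.exact_cokernel _ }
    exact last_mem H (fun m => (seq m).X k) (fun m => (disk fun p => Y ((seq m).X p)).X k)
      (fun m => (S m).f.f k) (fun m => (S m).g.f k)
      (fun m => by rw [← HomologicalComplex.comp_f, (S m).zero]; rfl)
      (fun m => (hS m).map_of_exact (HomologicalComplex.eval A (ComplexShape.up ℤ) k))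
      (fun m _ => disk_mem H _ (fun p => hY _) k)
  have key : ∀ j m, m + j = n → Ok H (seq m) := by
    intro j
    induction j with
    | zero =>
      intro m hm
      obtain rfl : m = n := by omega
      exact ⟨seq m, 𝟙 _, inferInstance, hlast⟩
    | succ j ih =>
      intro m hm
      have h := ih (m + 1) (by omega)
      rw [hs] at h
      exact ok_step H _ (fun p => hY _) _ h
  exact key n 0 (by omega)

end Groth.Agent.TriH.ClassRes
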