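import Groth.Agent.TriH.Acyclic
import Groth.Agent.TriH.ClassRes
import Groth.Agent.TriH.AdaptedDer
import Mathlib.Algebra.Homology.DerivedCategory.HomologySequence
import Mathlib.Algebra.Homology.DerivedCategory.Fractions

/-!
# Unbounded right derived functors of functors of finite cohomological dimension
-/

set_option autoImplicit false
set_option linter.style.haveILetI false

open CategoryTheory CategoryTheory.Limits

namespace Groth.Agent.TriH.FinDim

universe w w' v v' u u'

variable {A : Type u} [Category.{v} A] [Abelian A]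

lemma enoughInjectives_of_hasInjectiveResolutions [HasInjectiveResolutions A] : EnoughInjectives A :=
  ⟨fun X => ⟨{
    J := (injectiveResolution X).cocomplex.X 0
    injective := (injectiveResolution X).injective 0
    f := (injectiveResolution X).ι.f 0
    mono := inferInstanceAs (Mono ((injectiveResolution X).ι.f 0)) }⟩⟩

/-- The sequence of cycles of a complex exact at `k + 1`. -/
lemma cycles_shortExact {ι : Type*} {c : ComplexShape ι} (M : HomologicalComplex A c) (i j k : ι)
    (h : (ShortComplex.mk (M.d i j) (M.d j k) (M.d_comp_d _ _ _)).Exact) :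
    (ShortComplex.mk (kernel.ι (M.d i j)) (kernel.lift (M.d j k) (M.d i j) (M.d_comp_d _ _ _))
      (by rw [← cancel_mono (kernel.ι _)]; simp)).ShortExact := by
  haveI : Epi (kernel.lift (M.d j k) (M.d i j) (M.d_comp_d _ _ _)) := h.epi_kernelLift
  exact
    { exact := ShortComplex.exact_of_f_is_kernel _
        (KernelFork.IsLimit.ofι' _ _ (fun x hx => ⟨kernel.lift _ x (by
          have := congrArg (fun y => y ≫ kernel.ι (M.d j k)) hx
          simpa using this), kernel.lift_ι _ _ _⟩)) }

variable [EnoughInjectives A] {B : Type u'} [Category.{v'} B] [Abelian B] (F : A ⥤ B) [F.Additive]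

lemma isZero_rightDerived_ge (n : ℕ) (hn : ∀ X : A, IsZero ((F.rightDerived n).obj X)) :
    ∀ (m : ℕ), n ≤ m → ∀ X : A, IsZero ((F.rightDerived m).obj X) := by
  intro m hm
  induction m, hm using Nat.le_induction with
  | base => exact hn
  | succ m hm ih =>
    intro X
    let S : ShortComplex A := ShortComplex.mk (Injective.ι X) (cokernel.π _) (cokernel.condition _)
    have hS : S.ShortExact := { exact := ShortComplex.exact_cokernel _ }
    exact ((RDer.derivedLES F).exact₁ S hS m (m + 1) rfl).isZero_X₂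
      ((ih S.X₃).eq_of_src _ _)
      ((isAcyclicObj_of_injective F (Injective.under X) (m + 1) (Nat.succ_pos m)).eq_of_tgt _ _)

lemma shift_dim (S : ShortComplex A) (hS : S.ShortExact) (h₂ : IsAcyclicObj F S.X₂) (j : ℕ) (hj : 0 < j)
    (h₁ : IsZero ((F.rightDerived (j + 1)).obj S.X₁)) : IsZero ((F.rightDerived j).obj S.X₃) :=
  ((RDer.derivedLES F).exact₃ S hS j (j + 1) rfl).isZero_X₂ ((h₂ j hj).eq_of_src _ _)
    (h₁.eq_of_tgt _ _)

variable (n : ℕ) (hn : ∀ X : A, IsZero ((F.rightDerived n).obj X))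

include hn

theorem hyp [PreservesFiniteLimits F] : ClassRes.Hyp (fun X => IsAcyclicObj F X) (n + 1) where
  h1 X := ⟨Injective.under X, Injective.ι X, isAcyclicObj_of_injective F _, inferInstance⟩
  h2 S hS h₁ := ⟨fun h₂ => isAcyclicObj_right F S hS h₁ h₂, fun h₃ => isAcyclicObj_middle F S hS h₁ h₃⟩
  hn := Nat.succ_pos n
  h3 K hex hz _ hK := by
    have key : ∀ (i : ℕ), i ≤ n + 1 → ∀ j, 0 < j → n ≤ i + j →
        IsZero ((F.rightDerived j).obj (kernel (K.d i (i + 1)))) := by
      intro i
      induction i with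
      | zero => intro _ j _ hnj; exact isZero_rightDerived_ge F n hn j (by omega) _
      | succ i ih =>
        intro hi j hj hnj
        have hS := cycles_shortExact K i (i + 1) (i + 1 + 1)
          ((HomologicalComplex.exactAt_iff' K i (i + 1) (i + 1 + 1) (by simp) (by simp)).1
            (hex (i + 1) (by omega) hi))
        exact shift_dim F _ hS (hK i (by omega)) j hj (ih (by omega) (j + 1) (by omega) (by omega))
    intro j hj
    haveI : IsIso (kernel.ι (K.d (n + 1) (n + 1 + 1))) := by
      rw [(hz (n + 1 + 1) (by omega)).eq_of_tgt (K.d (n + 1) (n + 1 + 1)) 0]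
      infer_instance
    exact (key (n + 1) le_rfl j hj (by omega)).of_iso
      ((F.rightDerived j).mapIso (asIso (kernel.ι (K.d (n + 1) (n + 1 + 1))))).symm

lemma cycles_acyclic (M : CochainComplex A ℤ) (hM : M.Acyclic) (hX : ∀ m, IsAcyclicObj F (M.X m))
    (k : ℤ) : IsAcyclicObj F (kernel (M.d k (k + 1))) := by
  have key : ∀ (i : ℕ) (k : ℤ) (j : ℕ), 0 < j → n ≤ i + j →
      IsZero ((F.rightDerived j).obj (kernel (M.d k (k + 1)))) := by
    intro i
    induction i with
    | zero => intro k j _ h; exact isZero_rightDerived_ge F n hn j (by omega) _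
    | succ i ih =>
      intro k j hj h
      obtain ⟨l, rfl⟩ : ∃ l, k = l + 1 := ⟨k - 1, by omega⟩
      have hS := cycles_shortExact M l (l + 1) (l + 1 + 1)
        ((HomologicalComplex.exactAt_iff' M l (l + 1) (l + 1 + 1) (by simp) (by simp)).1 (hM (l + 1)))
      exact shift_dim F _ hS (hX l) j hj (ih l (j + 1) (by omega) (by omega))
  exact fun j hj => key n k j hj (by omega)

theorem acyclic_map [PreservesFiniteLimits F] (M : CochainComplex A ℤ) (hM : M.Acyclic)
    (hX : ∀ m, IsAcyclicObj F (M.X m)) :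
    ((F.mapHomologicalComplex (ComplexShape.up ℤ)).obj M).Acyclic := by
  intro m
  obtain ⟨k, rfl⟩ : ∃ k, m = k + 1 := ⟨m - 1, by omega⟩
  rw [HomologicalComplex.exactAt_iff' _ k (k + 1) (k + 1 + 1) (by simp) (by simp)]
  have hS := cycles_shortExact M k (k + 1) (k + 1 + 1)
    ((HomologicalComplex.exactAt_iff' M k (k + 1) (k + 1 + 1) (by simp) (by simp)).1 (hM (k + 1)))
  have hs := map_shortExact_of_isZero_one F _ hS (cycles_acyclic F n hn M hM hX k 1 Nat.one_pos)
  let S₂ := ShortComplex.mk (F.map (M.d k (k + 1))) (F.map (M.d (k + 1) (k + 1 + 1)))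
    (by rw [← F.map_comp, M.d_comp_d, F.map_zero])
  let S₁ := ShortComplex.mk (F.map (kernel.ι (M.d (k + 1) (k + 1 + 1)))) (F.map (M.d (k + 1) (k + 1 + 1)))
    (by rw [← F.map_comp, kernel.condition, F.map_zero])
  have h₁ : S₁.Exact := ShortComplex.exact_of_f_is_kernel _
    ((KernelFork.mapIsLimit _ (kernelIsKernel (M.d (k + 1) (k + 1 + 1))) F))
  let ψ : S₂ ⟶ S₁ :=
    { τ₁ := F.map (kernel.lift (M.d (k + 1) (k + 1 + 1)) (M.d k (k + 1)) (M.d_comp_d _ _ _))
      τ₂ := 𝟙 _, τ₃ := 𝟙 _
      comm₁₂ := by simp [S₁, S₂, ← F.map_comp]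
      comm₂₃ := by simp [S₁, S₂] }
  haveI : Epi ψ.τ₁ := hs.epi_g
  haveI : IsIso ψ.τ₂ := inferInstanceAs (IsIso (𝟙 _))
  haveI : Mono ψ.τ₃ := inferInstanceAs (Mono (𝟙 _))
  show S₂.Exact
  exact (ShortComplex.exact_iff_of_epi_of_isIso_of_mono ψ).2 h₁

/-- The adapted objects. -/
def Good (I : HomotopyCategory A (ComplexShape.up ℤ)) : Prop := ∀ m, IsAcyclicObj F (I.as.X m)

theorem exists_good [PreservesFiniteLimits F] (Y : HomotopyCategory A (ComplexShape.up ℤ)) :
    ∃ (I : HomotopyCategory A (ComplexShape.up ℤ)) (s : Y ⟶ I),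
      Good F I ∧ HomotopyCategory.quasiIso A (ComplexShape.up ℤ) s := by
  obtain ⟨K, rfl⟩ := HomotopyCategory.quotient_obj_surjective Y
  obtain ⟨I, f, hf, hI⟩ := ClassRes.exists_quasiIso (hyp F n hn) K
  exact ⟨_, (HomotopyCategory.quotient _ _).map f, hI,
    (HomotopyCategory.quotient_map_mem_quasiIso_iff f).2 hf⟩

theorem inverts [PreservesFiniteLimits F] [HasDerivedCategory.{w'} B]
    ⦃I J : HomotopyCategory A (ComplexShape.up ℤ)⦄ (s : I ⟶ J) (hI : Good F I) (hJ : Good F J)
    (hs : HomotopyCategory.quasiIso A (ComplexShape.up ℤ) s) :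
    IsIso ((F.mapHomotopyCategory (ComplexShape.up ℤ) ⋙ DerivedCategory.Qh).map s) := by
  obtain ⟨K, rfl⟩ := HomotopyCategory.quotient_obj_surjective I
  obtain ⟨L, rfl⟩ := HomotopyCategory.quotient_obj_surjective J
  obtain ⟨φ, rfl⟩ := (HomotopyCategory.quotient A (ComplexShape.up ℤ)).map_surjective s
  let T := CochainComplex.mappingCone.triangleh φ
  have hT : T ∈ Pretriangulated.distinguishedTriangles :=
    HomotopyCategory.mappingCone_triangleh_distinguished φ
  have h₀ : HomotopyCategory.quasiIso A (ComplexShape.up ℤ) T.mor₁ := hs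
  rw [HomotopyCategory.quasiIso_eq_trW_subcategoryAcyclic,
    (HomotopyCategory.subcategoryAcyclic A).trW_iff_of_distinguished _ hT] at h₀
  have hM : ∀ k, IsAcyclicObj F ((CochainComplex.mappingCone φ).X k) := fun k => by
    have e : (CochainComplex.mappingCone φ).X k ≅ K.X (k + 1) ⊞ L.X k :=
      HomologicalComplex.homotopyCofiber.XIsoBiprod φ k (k + 1) (by simp)
    intro i hi
    haveI : PreservesBinaryBiproduct (K.X (k + 1)) (L.X k) (F.rightDerived i) :=
      preservesBinaryBiproduct_of_preservesBiproduct _ _ _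
    exact IsZero.of_iso (IsZero.of_iso ((biprod_isZero_iff _ _).2 ⟨(show IsAcyclicObj F (K.X (k + 1)) from hI (k + 1)) i hi, (show IsAcyclicObj F (L.X k) from hJ k) i hi⟩)
      ((F.rightDerived i).mapBiprod _ _)) ((F.rightDerived i).mapIso e)
  have hA := acyclic_map F n hn (CochainComplex.mappingCone φ)
    ((HomotopyCategory.quotient_obj_mem_subcategoryAcyclic_iff_acyclic _).1 h₀) hM
  have hq : HomotopyCategory.quasiIso B (ComplexShape.up ℤ)
      ((F.mapHomotopyCategory (ComplexShape.up ℤ)).map
        ((HomotopyCategory.quotient _ _).map φ)) := by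
    rw [HomotopyCategory.quasiIso_eq_trW_subcategoryAcyclic]
    exact ((HomotopyCategory.subcategoryAcyclic B).trW_iff_of_distinguished _
      ((F.mapHomotopyCategory (ComplexShape.up ℤ)).map_distinguished T hT)).2
      ((HomotopyCategory.quotient_obj_mem_subcategoryAcyclic_iff_acyclic _).2 hA)
  exact Localization.inverts DerivedCategory.Qh _ _ hq

theorem hasPointwiseRightDerivedFunctor [PreservesFiniteLimits F] [HasDerivedCategory.{w'} B] :
    (F.mapHomotopyCategory (ComplexShape.up ℤ) ⋙ DerivedCategory.Qh).HasPointwiseRightDerivedFunctor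
      (HomotopyCategory.quasiIso A (ComplexShape.up ℤ)) :=
  AdaptedDer.hasPointwiseRightDerivedFunctor _ _ (Good F) (exists_good F n hn) (inverts F n hn)

theorem isIso_unit [PreservesFiniteLimits F] [HasDerivedCategory.{w} A] [HasDerivedCategory.{w'} B]
    [(F.mapHomotopyCategory (ComplexShape.up ℤ) ⋙ DerivedCategory.Qh).HasRightDerivedFunctor
      (HomotopyCategory.quasiIso A (ComplexShape.up ℤ))]
    (K : CochainComplex A ℤ) (hK : ∀ m, IsAcyclicObj F (K.X m)) :
    IsIso (((F.mapHomotopyCategory (ComplexShape.up ℤ) ⋙ DerivedCategory.Qh).totalRightDerivedUnit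
      DerivedCategory.Qh (HomotopyCategory.quasiIso A (ComplexShape.up ℤ))).app
        ((HomotopyCategory.quotient A (ComplexShape.up ℤ)).obj K)) := by
  haveI := (hasPointwiseRightDerivedFunctor F n hn :
    (F.mapHomotopyCategory (ComplexShape.up ℤ) ⋙ DerivedCategory.Qh (C := B)).HasPointwiseRightDerivedFunctor _)
  exact AdaptedDer.isIso_unit DerivedCategory.Qh _ _ (Good F) (exists_good F n hn) (inverts F n hn) _ _ hK

end Groth.Agent.TriH.FinDim
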