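import Groth.Agent.TriH.Delta
import Mathlib.CategoryTheory.Abelian.Refinements
import Mathlib.CategoryTheory.Abelian.FunctorCategory
import Mathlib.CategoryTheory.Limits.FunctorCategory.EpiMono

/-!
# Criterion for morphisms of delta-functors out of an effaceable one
-/

set_option autoImplicit false

open CategoryTheory CategoryTheory.Limits DeltaF

namespace Groth.Agent.TriH.Delta

universe v u v' u'

variable {A : Type u} [Category.{v} A] [Abelian A] {B : Type u'} [Category.{v'} B] [Abelian B]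
  {T T' : CohDeltaFunctor A B ℕ}

lemma mono_succ_of_isIso (hT : T.IsEffaceable) (φ : T ⟶ T') (i : ℕ) (hi : IsIso (φ.app i)) :
    Mono (φ.app (i + 1)) := by
  rw [NatTrans.mono_iff_mono_app]
  intro X
  obtain ⟨Y, u, hu, hu0⟩ := hT i X
  haveI := hu
  have hS := monoSES_shortExact u
  have hepi : Epi (T.δ (monoSES u) hS i (i + 1) rfl) :=
    (T.exact₁ (monoSES u) hS i (i + 1) rfl).epi_f hu0
  rw [Preadditive.mono_iff_cancel_zero]
  intro W x hx
  obtain ⟨W₁, π₁, hπ₁, c, hc⟩ :=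
    surjective_up_to_refinements_of_epi (T.δ (monoSES u) hS i (i + 1) rfl) x
  have h2 : (c ≫ (φ.app i).app (cokernel u)) ≫ T'.δ (monoSES u) hS i (i + 1) rfl = 0 :=
    ((Category.assoc _ _ _).trans (congrArg (c ≫ ·) (φ.comm (monoSES u) hS i (i + 1) rfl).symm)).trans
      ((Category.assoc _ _ _).symm.trans (((congrArg (· ≫ (φ.app (i + 1)).app X) hc).symm.trans
        (Category.assoc _ _ _)).trans ((congrArg (π₁ ≫ ·) hx).trans comp_zero)))
  obtain ⟨W₂, π₂, hπ₂, y', hy'⟩ :=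
    (T'.exact₃ (monoSES u) hS i (i + 1) rfl).exact_up_to_refinements _ h2
  let y := y' ≫ inv ((φ.app i).app Y)
  have hy : π₂ ≫ c = y ≫ (T.F i).map (cokernel.π u) := by
    rw [← cancel_mono ((φ.app i).app (cokernel u))]
    simp only [y, Category.assoc, NatTrans.naturality, IsIso.inv_hom_id_assoc]
    exact hy'
  rw [← cancel_epi π₁, ← cancel_epi π₂, comp_zero, comp_zero, hc, ← Category.assoc, hy,
    Category.assoc]
  exact (congrArg (y ≫ ·) (T.comp_δ (monoSES u) hS i (i + 1) rfl)).trans comp_zero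

lemma epi_succ_of_effaceable (φ : T ⟶ T') (i : ℕ) (hi : Epi (φ.app i))
    (h' : ∀ X : A, ∃ (Y : A) (u : X ⟶ Y), Mono u ∧ (T'.F (i + 1)).map u = 0) :
    Epi (φ.app (i + 1)) := by
  rw [NatTrans.epi_iff_epi_app]
  intro X
  obtain ⟨Y, u, hu, hu0⟩ := h' X
  haveI := hu
  have hS := monoSES_shortExact u
  have hepi : Epi (T'.δ (monoSES u) hS i (i + 1) rfl) :=
    (T'.exact₁ (monoSES u) hS i (i + 1) rfl).epi_f hu0
  haveI := hi
  haveI : Epi ((φ.app i).app (monoSES u).X₃) := inferInstance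
  haveI : Epi ((φ.app i).app (monoSES u).X₃ ≫ T'.δ (monoSES u) hS i (i + 1) rfl) := epi_comp _ _
  exact epi_of_epi_fac (φ.comm (monoSES u) hS i (i + 1) rfl)

theorem iso_le_mono_succ_iff (hT : T.IsEffaceable) (φ : T ⟶ T') (n : ℕ) :
    ((∀ i : ℕ, i ≤ n → IsIso (φ.app i)) ∧ Mono (φ.app (n + 1)) ↔
      (Mono (φ.app 0) ∧ ∀ i : ℕ, i ≤ n → Epi (φ.app i))) ∧
    ((∀ i : ℕ, i ≤ n → IsIso (φ.app i)) ∧ Mono (φ.app (n + 1)) ↔
      (IsIso (φ.app 0) ∧
        ∀ i : ℕ, 0 < i → i ≤ n → ∀ X : A, ∃ (Y : A) (u : X ⟶ Y), Mono u ∧ (T'.F i).map u = 0)) := by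
  refine ⟨⟨fun ⟨h, _⟩ => ?_, fun ⟨h0, he⟩ => ?_⟩, ⟨fun ⟨h, _⟩ => ?_, fun ⟨h0, he⟩ => ?_⟩⟩
  · haveI := h 0 (Nat.zero_le _)
    exact ⟨inferInstance, fun i hi => by haveI := h i hi; infer_instance⟩
  · have key : ∀ i, i ≤ n → IsIso (φ.app i) := by
      intro i
      induction i with
      | zero =>
        intro hi
        haveI := h0
        haveI := he 0 hi
        exact isIso_of_mono_of_epi _
      | succ i ih =>
        intro hi
        haveI := mono_succ_of_isIso hT φ i (ih (by omega))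
        haveI := he (i + 1) hi
        exact isIso_of_mono_of_epi _
    exact ⟨key, mono_succ_of_isIso hT φ n (key n le_rfl)⟩
  · refine ⟨h 0 (Nat.zero_le _), fun i hi0 hin X => ?_⟩
    obtain ⟨j, rfl⟩ : ∃ j, i = j + 1 := ⟨i - 1, by omega⟩
    obtain ⟨Y, u, hu, hu0⟩ := hT j X
    haveI := h (j + 1) hin
    refine ⟨Y, u, hu, ?_⟩
    rw [← cancel_epi ((φ.app (j + 1)).app X), comp_zero, ← NatTrans.naturality, hu0, zero_comp]
  · have key : ∀ i, i ≤ n → IsIso (φ.app i) := by
      intro i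
      induction i with
      | zero => exact fun _ => h0
      | succ i ih =>
        intro hi
        haveI := ih (by omega)
        haveI := mono_succ_of_isIso hT φ i this
        haveI := epi_succ_of_effaceable φ i inferInstance (he (i + 1) (by omega) hi)
        exact isIso_of_mono_of_epi _
    exact ⟨key, mono_succ_of_isIso hT φ n (key n le_rfl)⟩

end Groth.Agent.TriH.Delta
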