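import Groth.Prelude.Def_RDerDelta
import Mathlib.CategoryTheory.Abelian.Injective.Resolution
import Mathlib.Algebra.Homology.ShortComplex.SnakeLemma
import Mathlib.Algebra.Homology.HomologySequenceLemmas
import Mathlib.CategoryTheory.Abelian.Refinements

/-!
# Horseshoe lemma, comparison of resolutions of short exact sequences, long exact sequence of `RⁿF`
-/

set_option autoImplicit false

open CategoryTheory CategoryTheory.Limits

namespace Groth.Agent.TriH.RDer

universe v u v' u'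

variable {C : Type u} [Category.{v} C] [Abelian C]

/-- Extension of morphisms of short exact sequences into a sequence with injective ends. -/
lemma exists_extension {P A J J' : ShortComplex C} (d : P ⟶ A) (e : A ⟶ J) (w : d ≫ e = 0)
    (hP : Epi P.g) (hA : A.Exact) (hJ : J.ShortExact) (hJ' : J'.ShortExact)
    [Injective J'.X₁] [Injective J'.X₃]
    (h₁ : ∀ z : d.τ₁ ≫ e.τ₁ = 0, (ShortComplex.mk d.τ₁ e.τ₁ z).Exact)
    (h₃ : ∀ z : d.τ₃ ≫ e.τ₃ = 0, (ShortComplex.mk d.τ₃ e.τ₃ z).Exact)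
    (u : A ⟶ J') (hu : d ≫ u = 0) :
    ∃ h : J ⟶ J', e ≫ h = u := by
  have w₁ : d.τ₁ ≫ e.τ₁ = 0 := congrArg ShortComplex.Hom.τ₁ w
  have w₂ : d.τ₂ ≫ e.τ₂ = 0 := congrArg ShortComplex.Hom.τ₂ w
  have w₃ : d.τ₃ ≫ e.τ₃ = 0 := congrArg ShortComplex.Hom.τ₃ w
  have hu₁ : d.τ₁ ≫ u.τ₁ = 0 := congrArg ShortComplex.Hom.τ₁ hu
  have hu₂ : d.τ₂ ≫ u.τ₂ = 0 := congrArg ShortComplex.Hom.τ₂ hu
  have hu₃ : d.τ₃ ≫ u.τ₃ = 0 := congrArg ShortComplex.Hom.τ₃ hu
  haveI := hJ.mono_f
  haveI := hJ'.mono_f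
  let a : J.X₁ ⟶ J'.X₁ := (h₁ w₁).descToInjective u.τ₁ hu₁
  have ha : e.τ₁ ≫ a = u.τ₁ := (h₁ w₁).comp_descToInjective _ _
  let c : J.X₃ ⟶ J'.X₃ := (h₃ w₃).descToInjective u.τ₃ hu₃
  have hc : e.τ₃ ≫ c = u.τ₃ := (h₃ w₃).comp_descToInjective _ _
  haveI := hJ'.epi_g
  let σ : J'.Splitting := ShortComplex.Splitting.ofExactOfRetraction J' hJ'.exact
    (Injective.factorThru (𝟙 _) J'.f) (by simp) inferInstance
  let φ : J.X₁ ⊞ A.X₂ ⟶ J.X₂ := biprod.desc J.f e.τ₂
  let ψ : J.X₁ ⊞ A.X₂ ⟶ J'.X₁ := biprod.desc a (u.τ₂ ≫ σ.r)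
  have hφ : (ShortComplex.mk (kernel.ι φ) φ (kernel.condition φ)).Exact :=
    ShortComplex.exact_kernel φ
  have key : ∀ {T : C} (x₁ : T ⟶ J.X₁) (y : T ⟶ A.X₂), x₁ ≫ J.f + y ≫ e.τ₂ = 0 →
      x₁ ≫ a + y ≫ u.τ₂ ≫ σ.r = 0 := fun {T} x₁ y hx => by
    have hy₃ : (y ≫ A.g) ≫ e.τ₃ = 0 := by
      have := congrArg (fun k => k ≫ J.g) hx
      simp only [Preadditive.add_comp, zero_comp, Category.assoc, J.zero, comp_zero, zero_add]
        at this
      rw [Category.assoc, ← e.comm₂₃]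
      exact this
    obtain ⟨T₁, π₁, _, w', hw'⟩ := (h₃ w₃).exact_up_to_refinements (y ≫ A.g) hy₃
    obtain ⟨T₂, π₂, _, v, hv⟩ := surjective_up_to_refinements_of_epi P.g w'
    have hz : ((π₂ ≫ π₁) ≫ y - v ≫ d.τ₂) ≫ A.g = 0 := by
      have : ((π₂ ≫ π₁) ≫ y) ≫ A.g = (v ≫ d.τ₂) ≫ A.g := by
        calc ((π₂ ≫ π₁) ≫ y) ≫ A.g = π₂ ≫ (π₁ ≫ y ≫ A.g) := by simp only [Category.assoc]
          _ = π₂ ≫ w' ≫ d.τ₃ := by rw [hw']
          _ = (π₂ ≫ w') ≫ d.τ₃ := by rw [Category.assoc]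
          _ = (v ≫ P.g) ≫ d.τ₃ := by rw [hv]
          _ = (v ≫ d.τ₂) ≫ A.g := by simp only [Category.assoc, d.comm₂₃]
      rw [Preadditive.sub_comp, this, sub_self]
    obtain ⟨T₃, π₃, _, z, hz'⟩ := hA.exact_up_to_refinements _ hz
    obtain ⟨p, hp, _⟩ : ∃ p : T₃ ⟶ T, p = π₃ ≫ π₂ ≫ π₁ ∧ Epi p := ⟨_, rfl, inferInstance⟩
    have hy' : p ≫ y = z ≫ A.f + π₃ ≫ v ≫ d.τ₂ := by
      rw [← hz', Preadditive.comp_sub, sub_add_cancel]
      simp only [hp, Category.assoc]
    have hx' : p ≫ x₁ = -(z ≫ e.τ₁) := by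
      rw [← cancel_mono J.f, Preadditive.neg_comp, Category.assoc, Category.assoc,
        eq_neg_of_add_eq_zero_left hx, Preadditive.comp_neg, ← Category.assoc p, hy']
      simp only [Preadditive.add_comp, Category.assoc, w₂, comp_zero, add_zero, e.comm₁₂]
    rw [← cancel_epi p, comp_zero, Preadditive.comp_add, ← Category.assoc p, ← Category.assoc p,
      hx', hy']
    simp only [Preadditive.neg_comp, Category.assoc, Preadditive.add_comp, ha]
    rw [← reassoc_of% u.comm₁₂, σ.f_r, Category.comp_id, reassoc_of% hu₂]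
    simp
  have hψ : kernel.ι φ ≫ ψ = 0 := by
    have := key (kernel.ι φ ≫ biprod.fst) (kernel.ι φ ≫ biprod.snd) (by
      simpa only [φ, biprod.desc_eq, Preadditive.comp_add, Category.assoc] using
        kernel.condition φ)
    simpa only [ψ, biprod.desc_eq, Preadditive.comp_add, Category.assoc] using this
  let m : J.X₂ ⟶ J'.X₁ := hφ.descToInjective ψ hψ
  have hm : φ ≫ m = ψ := hφ.comp_descToInjective _ _
  have hfm : J.f ≫ m = a := by
    have := congrArg (fun k => biprod.inl ≫ k) hm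
    simpa [φ, ψ] using this
  have hem : e.τ₂ ≫ m = u.τ₂ ≫ σ.r := by
    have := congrArg (fun k => biprod.inr ≫ k) hm
    simpa [φ, ψ] using this
  refine ⟨{ τ₁ := a, τ₂ := m ≫ J'.f + J.g ≫ c ≫ σ.s, τ₃ := c, comm₁₂ := ?_, comm₂₃ := ?_ }, ?_⟩
  · simp only [Preadditive.comp_add, reassoc_of% hfm, J.zero_assoc, zero_comp, add_zero]
  · simp only [Preadditive.add_comp, Category.assoc, J'.zero, comp_zero, zero_add, σ.s_g,
      Category.comp_id]
  · apply ShortComplex.hom_ext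
    · exact ha
    · simp only [ShortComplex.comp_τ₂, Preadditive.comp_add, reassoc_of% hem,
        reassoc_of% e.comm₂₃, reassoc_of% hc]
      rw [← reassoc_of% u.comm₂₃, ← Preadditive.comp_add, σ.id, Category.comp_id]
    · exact hc

open _root_.RDer

section Chain

variable (C) in
/-- An augmented resolution of a short exact sequence, seen as a sequence of short complexes. -/
structure Chain where
  E : ℕ → ShortComplex C
  d : ∀ n, E n ⟶ E (n + 1)
  d_zero : d 0 = 0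
  dd : ∀ n, d n ≫ d (n + 1) = 0
  epi : ∀ n, Epi (E n).g
  shortExact : ∀ n, (E (n + 1)).ShortExact
  exact₁ : ∀ n (w : (d n).τ₁ ≫ (d (n + 1)).τ₁ = 0), (ShortComplex.mk _ _ w).Exact
  exact₃ : ∀ n (w : (d n).τ₃ ≫ (d (n + 1)).τ₃ = 0), (ShortComplex.mk _ _ w).Exact
  inj₁ : ∀ n, Injective (E (n + 2)).X₁
  inj₃ : ∀ n, Injective (E (n + 2)).X₃

lemma chain_step (K K' : Chain C) (n : ℕ) (a : K.E n ⟶ K'.E n) (b : K.E (n + 1) ⟶ K'.E (n + 1))
    (h : K.d n ≫ b = a ≫ K'.d n) :
    ∃ c : K.E (n + 2) ⟶ K'.E (n + 2), K.d (n + 1) ≫ c = b ≫ K'.d (n + 1) := by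
  haveI := K'.inj₁ n
  haveI := K'.inj₃ n
  refine exists_extension (K.d n) (K.d (n + 1)) (K.dd n) (K.epi n) (K.shortExact n).exact
    (K.shortExact (n + 1)) (K'.shortExact (n + 1)) (K.exact₁ n) (K.exact₃ n)
    (b ≫ K'.d (n + 1)) ?_
  rw [reassoc_of% h, K'.dd, comp_zero]

lemma exists_chain_lift (K K' : Chain C) (φ : K.E 1 ⟶ K'.E 1) :
    ∃ f : ∀ n, K.E n ⟶ K'.E n, f 1 = φ ∧ ∀ n, K.d n ≫ f (n + 1) = f n ≫ K'.d n := by
  let P : ℕ → Type v := fun n =>
    { ab : (K.E n ⟶ K'.E n) × (K.E (n + 1) ⟶ K'.E (n + 1)) //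
      K.d n ≫ ab.2 = ab.1 ≫ K'.d n }
  let p₀ : P 0 := ⟨(0, φ), by simp [K.d_zero]⟩
  let next : ∀ n, P n → P (n + 1) := fun n x =>
    ⟨(x.1.2, (chain_step K K' n x.1.1 x.1.2 x.2).choose),
      (chain_step K K' n x.1.1 x.1.2 x.2).choose_spec⟩
  let p : ∀ n, P n := fun n => Nat.rec p₀ next n
  refine ⟨fun n => (p n).1.1, rfl, fun n => (p n).2⟩

end Chain

section Horseshoe

/-- The split short complex `J₁ ⟶ J₁ ⊞ J₃ ⟶ J₃`. -/
noncomputable abbrev splitSC (J₁ J₃ : C) : ShortComplex C :=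
  ShortComplex.mk (biprod.inl : J₁ ⟶ J₁ ⊞ J₃) biprod.snd biprod.inl_snd

lemma splitSC_shortExact (J₁ J₃ : C) : (splitSC J₁ J₃).ShortExact :=
  (ShortComplex.Splitting.ofHasBinaryBiproduct J₁ J₃).shortExact

variable [EnoughInjectives C]

lemma horseshoe_step (S : ShortComplex C) (hS : S.ShortExact) :
    ∃ (J₁ J₃ : C) (i : S ⟶ splitSC J₁ J₃), Injective J₁ ∧ Injective J₃ ∧
      Mono i.τ₁ ∧ Mono i.τ₂ ∧ Mono i.τ₃ ∧ (cokernel i).ShortExact := by
  haveI := hS.mono_f
  haveI := hS.epi_g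
  let J₁ := Injective.under S.X₁
  let J₃ := Injective.under S.X₃
  let i : S ⟶ splitSC J₁ J₃ :=
    { τ₁ := Injective.ι S.X₁
      τ₂ := biprod.lift (Injective.factorThru (Injective.ι S.X₁) S.f) (S.g ≫ Injective.ι S.X₃)
      τ₃ := Injective.ι S.X₃
      comm₁₂ := by dsimp; ext <;> simp
      comm₂₃ := by simp }
  haveI : Mono i.τ₁ := (inferInstance : Mono (Injective.ι S.X₁))
  haveI : Mono i.τ₃ := (inferInstance : Mono (Injective.ι S.X₃))
  haveI : Mono i.τ₂ := ShortComplex.mono_τ₂_of_exact_of_mono i hS.exact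
  let T : ShortComplex.SnakeInput C :=
    { L₀ := kernel i
      L₁ := S
      L₂ := splitSC J₁ J₃
      L₃ := cokernel i
      v₀₁ := kernel.ι i
      v₁₂ := i
      v₂₃ := cokernel.π i
      w₀₂ := kernel.condition i
      w₁₃ := cokernel.condition i
      h₀ := kernelIsKernel i
      h₃ := cokernelIsCokernel i
      L₁_exact := hS.exact
      epi_L₁_g := inferInstance
      L₂_exact := (splitSC_shortExact J₁ J₃).exact
      mono_L₂_f := (splitSC_shortExact J₁ J₃).mono_f }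
  haveI : Epi T.L₂.g := (splitSC_shortExact J₁ J₃).epi_g
  have h0 : IsZero T.L₀.X₃ := by
    haveI : Mono T.v₀₁.τ₃ := T.mono_v₀₁_τ₃
    refine IsZero.of_mono_eq_zero T.v₀₁.τ₃ ?_
    rw [← cancel_mono i.τ₃, zero_comp]
    exact congrArg ShortComplex.Hom.τ₃ T.w₀₂
  haveI : Mono T.L₃.f := T.L₂'_exact.mono_g (h0.eq_of_src _ _)
  have hg : Epi T.L₃.g := by
    haveI := T.epi_v₂₃_τ₃
    exact epi_of_epi_fac T.v₂₃.comm₂₃
  exact ⟨J₁, J₃, i, inferInstance, inferInstance, inferInstance, inferInstance, inferInstance,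
    { exact := T.L₃_exact, mono_f := inferInstanceAs (Mono T.L₃.f)
      epi_g := hg }⟩

lemma shortExact_cokernel_π (S J : C) (i : S ⟶ J) [Mono i] :
    (ShortComplex.mk i (cokernel.π i) (cokernel.condition i)).ShortExact :=
  { exact := ShortComplex.exact_cokernel i }

end Horseshoe

section Resolution

variable {Q J : ℕ → C} (i : ∀ n, Q n ⟶ J n) (p : ∀ n, J n ⟶ Q (n + 1))
  (w : ∀ n, i n ≫ p n = 0)

/-- The complex obtained by splicing short exact sequences `Qₙ ⟶ Jₙ ⟶ Qₙ₊₁`. -/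
def spliced : CochainComplex C ℕ :=
  CochainComplex.of J (fun n => p n ≫ i (n + 1)) (fun n => by
    simp [reassoc_of% (w (n + 1))])

@[simp]
lemma spliced_d (n : ℕ) : (spliced i p w).d n (n + 1) = p n ≫ i (n + 1) :=
  CochainComplex.of_d (α := ℕ) J (fun n => p n ≫ i (n + 1)) n

lemma spliced_exact (h : ∀ n, (ShortComplex.mk (i n) (p n) (w n)).ShortExact) (n : ℕ) :
    (ShortComplex.mk (p n ≫ i (n + 1)) (p (n + 1) ≫ i (n + 2))
      (by simp [reassoc_of% (w (n + 1))])).Exact := by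
  haveI := (h n).epi_g
  haveI := (h (n + 2)).mono_f
  let S₀ := ShortComplex.mk (i (n + 1)) (p (n + 1)) (w (n + 1))
  let S₁ := ShortComplex.mk (p n ≫ i (n + 1)) (p (n + 1)) (by simp [w (n + 1)])
  let S₂ := ShortComplex.mk (p n ≫ i (n + 1)) (p (n + 1) ≫ i (n + 2))
    (by simp [reassoc_of% (w (n + 1))])
  have h₁ : S₁.Exact := (ShortComplex.exact_iff_of_epi_of_isIso_of_mono
    ({ τ₁ := p n, τ₂ := 𝟙 _, τ₃ := 𝟙 _ } : S₁ ⟶ S₀)).2 (h (n + 1)).exact
  exact (ShortComplex.exact_iff_of_epi_of_isIso_of_mono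
    ({ τ₁ := 𝟙 _, τ₂ := 𝟙 _, τ₃ := i (n + 2) } : S₁ ⟶ S₂)).1 h₁

/-- The injective resolution obtained by splicing. -/
noncomputable def splicedResolution (hJ : ∀ n, Injective (J n))
    (h : ∀ n, (ShortComplex.mk (i n) (p n) (w n)).ShortExact) : InjectiveResolution (Q 0) where
  cocomplex := spliced i p w
  injective := hJ
  ι := (CochainComplex.fromSingle₀Equiv (spliced i p w) (Q 0)).symm
    ⟨i 0, by
      rw [spliced_d]
      exact (Category.assoc _ _ _).symm.trans ((congrArg (· ≫ i (0 + 1)) (w 0)).trans zero_comp)⟩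
  quasiIso := ⟨fun n => by
    cases n
    · rw [CochainComplex.quasiIsoAt₀_iff, ShortComplex.quasiIso_iff_of_zeros]
      · haveI := (h 1).mono_f
        haveI := (h 0).mono_f
        let S₀ := ShortComplex.mk (i 0) (p 0) (w 0)
        let S₁ := ShortComplex.mk (i 0) (p 0 ≫ i 1) (by simp [reassoc_of% (w 0)])
        have h₁ : S₁.Exact := (ShortComplex.exact_iff_of_epi_of_isIso_of_mono
          ({ τ₁ := 𝟙 _, τ₂ := 𝟙 _, τ₃ := i 1 } : S₀ ⟶ S₁)).1 (h 0).exact
        refine (ShortComplex.exact_and_mono_f_iff_of_iso (S₂ := S₁) ?_).2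
          ⟨h₁, (h 0).mono_f⟩
        refine ShortComplex.isoMk (Iso.refl _) (Iso.refl _) (Iso.refl _) ?_ ?_ <;> simp [S₁] <;>
          exact (Category.id_comp _).trans (Category.comp_id _).symm
      all_goals rfl
    · rename_i m
      rw [quasiIsoAt_iff_exactAt]
      · rw [HomologicalComplex.exactAt_iff' _ m (m + 1) (m + 1 + 1) (by simp) (by simp)]
        refine (ShortComplex.exact_iff_of_iso ?_).1 (spliced_exact i p w h m)
        refine ShortComplex.isoMk (Iso.refl _) (Iso.refl _) (Iso.refl _) ?_ ?_ <;> simp <;>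
          exact (Category.id_comp _).trans
            (((Category.assoc _ _ _).symm.trans (Category.comp_id _))).symm
      · apply CochainComplex.exactAt_succ_single_obj⟩

end Resolution

section Existence

variable [EnoughInjectives C]

/-- The horseshoe lemma. -/
theorem nonempty_sesRes (S : ShortComplex C) (hS : S.ShortExact) :
    Nonempty (_root_.RDer.SESRes S) := by
  choose J₁ J₃ i hJ₁ hJ₃ hm₁ hm₂ hm₃ hc using fun (T : { S : ShortComplex C // S.ShortExact }) =>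
    horseshoe_step T.1 T.2
  let Q : ℕ → { S : ShortComplex C // S.ShortExact } :=
    fun n => Nat.rec ⟨S, hS⟩ (fun _ T => ⟨cokernel (i T), hc T⟩) n
  let J : ℕ → ShortComplex C := fun n => splitSC (J₁ (Q n)) (J₃ (Q n))
  let j : ∀ n, (Q n).1 ⟶ J n := fun n => i (Q n)
  let q : ∀ n, J n ⟶ (Q (n + 1)).1 := fun n => cokernel.π (i (Q n))
  have w : ∀ n, j n ≫ q n = 0 := fun n => cokernel.condition _
  haveI : ∀ n, Injective (J₁ (Q n)) := fun n => hJ₁ _
  haveI : ∀ n, Injective (J₃ (Q n)) := fun n => hJ₃ _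
  have w₁ : ∀ n, (j n).τ₁ ≫ (q n).τ₁ = 0 := fun n => congrArg ShortComplex.Hom.τ₁ (w n)
  have w₂ : ∀ n, (j n).τ₂ ≫ (q n).τ₂ = 0 := fun n => congrArg ShortComplex.Hom.τ₂ (w n)
  have w₃ : ∀ n, (j n).τ₃ ≫ (q n).τ₃ = 0 := fun n => congrArg ShortComplex.Hom.τ₃ (w n)
  have ex : ∀ (π : ShortComplex C ⥤ C) [π.PreservesZeroMorphisms] [PreservesColimitsOfShape WalkingParallelPair π] (n : ℕ)
      (_ : Mono (π.map (j n))) (z : π.map (j n) ≫ π.map (q n) = 0),
      (ShortComplex.mk (π.map (j n)) (π.map (q n)) z).ShortExact := fun π _ _ n hm z =>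
    { exact := ShortComplex.exact_of_g_is_cokernel _
        (CokernelCofork.mapIsColimit _ (cokernelIsCokernel (i (Q n))) π)
      mono_f := hm
      epi_g := Cofork.IsColimit.epi (CokernelCofork.mapIsColimit _ (cokernelIsCokernel (i (Q n))) π) }
  let R₁ : InjectiveResolution S.X₁ := splicedResolution (Q := fun n => (Q n).1.X₁)
    (J := fun n => (J n).X₁) (fun n => (j n).τ₁) (fun n => (q n).τ₁) w₁ (fun n => hJ₁ _)
    (fun n => ex ShortComplex.π₁ n (hm₁ _) (w₁ n))
  let R₂ : InjectiveResolution S.X₂ := splicedResolution (Q := fun n => (Q n).1.X₂)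
    (J := fun n => (J n).X₂) (fun n => (j n).τ₂) (fun n => (q n).τ₂) w₂
    (fun n => (inferInstance : Injective (J₁ (Q n) ⊞ J₃ (Q n))))
    (fun n => ex ShortComplex.π₂ n (hm₂ _) (w₂ n))
  let R₃ : InjectiveResolution S.X₃ := splicedResolution (Q := fun n => (Q n).1.X₃)
    (J := fun n => (J n).X₃) (fun n => (j n).τ₃) (fun n => (q n).τ₃) w₃ (fun n => hJ₃ _)
    (fun n => ex ShortComplex.π₃ n (hm₃ _) (w₃ n))
  let f : R₁.cocomplex ⟶ R₂.cocomplex :=
    { f := fun n => (J n).f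
      comm' := by
        rintro a b rfl
        show (J a).f ≫ (spliced _ _ w₂).d a (a + 1) = (spliced _ _ w₁).d a (a + 1) ≫ (J (a + 1)).f
        rw [spliced_d, spliced_d]
        exact ((q a) ≫ j (a + 1)).comm₁₂.symm }
  let g : R₂.cocomplex ⟶ R₃.cocomplex :=
    { f := fun n => (J n).g
      comm' := by
        rintro a b rfl
        show (J a).g ≫ (spliced _ _ w₃).d a (a + 1) = (spliced _ _ w₂).d a (a + 1) ≫ (J (a + 1)).g
        rw [spliced_d, spliced_d]
        exact ((q a) ≫ j (a + 1)).comm₂₃.symm }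
  refine ⟨{ I₁ := R₁, I₂ := R₂, I₃ := R₃, f := f, g := g
            zero := HomologicalComplex.hom_ext _ _ (fun n => (J n).zero)
            ι_f := ?_, ι_g := ?_
            shortExact := HomologicalComplex.shortExact_of_degreewise_shortExact _
              (fun n => splitSC_shortExact _ _) }⟩
  · apply HomologicalComplex.from_single_hom_ext
    simp only [HomologicalComplex.comp_f, CochainComplex.single₀_map_f_zero]
    simp only [R₁, R₂, splicedResolution, CochainComplex.fromSingle₀Equiv_symm_apply_f_zero]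
    exact (j 0).comm₁₂
  · apply HomologicalComplex.from_single_hom_ext
    simp only [HomologicalComplex.comp_f, CochainComplex.single₀_map_f_zero]
    simp only [R₂, R₃, splicedResolution, CochainComplex.fromSingle₀Equiv_symm_apply_f_zero]
    exact (j 0).comm₂₃

end Existence

section ToChain

variable {S : ShortComplex C}

lemma sesRes_mono_f (T : _root_.RDer.SESRes S) : Mono S.f := by
  haveI : Mono (T.f.f 0) := (T.shortExact.map_of_exact (HomologicalComplex.eval C _ 0)).mono_f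
  haveI : Mono (T.I₁.ι.f 0) := inferInstance
  have hm : Mono (T.I₁.ι.f 0 ≫ T.f.f 0) :=
    mono_comp' (inferInstanceAs (Mono (T.I₁.ι.f 0))) (inferInstanceAs (Mono (T.f.f 0)))
  have h := congrArg (fun k => HomologicalComplex.Hom.f k 0) T.ι_f
  simp only [HomologicalComplex.comp_f, CochainComplex.single₀_map_f_zero] at h
  exact @mono_of_mono_fac _ _ _ _ _ _ _ _ hm h.symm

/-- The map of short complexes of complexes from the singles to a resolution. -/
noncomputable def augMap (T : _root_.RDer.SESRes S) :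
    S.map (CochainComplex.single₀ C) ⟶ T.cx where
  τ₁ := T.I₁.ι
  τ₂ := T.I₂.ι
  τ₃ := T.I₃.ι
  comm₁₂ := T.ι_f
  comm₂₃ := T.ι_g

/-- A short complex which has an injective resolution is short exact. -/
lemma sesRes_shortExact (T : _root_.RDer.SESRes S) : S.ShortExact := by
  let H := HomologicalComplex.homologyFunctor C (ComplexShape.up ℕ) 0
  let φ := H.mapShortComplex.map (augMap T)
  haveI : IsIso φ.τ₁ := inferInstanceAs (IsIso (HomologicalComplex.homologyMap T.I₁.ι 0))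
  haveI : IsIso φ.τ₂ := inferInstanceAs (IsIso (HomologicalComplex.homologyMap T.I₂.ι 0))
  haveI : IsIso φ.τ₃ := inferInstanceAs (IsIso (HomologicalComplex.homologyMap T.I₃.ι 0))
  have hφ : IsIso φ := ShortComplex.isIso_of_isIso φ
  let e : S ≅ T.cx.map H := (ShortComplex.isoMk (S₁ := S) (S₂ := (S.map (CochainComplex.single₀ C)).map H)
    ((HomologicalComplex.homologyFunctorSingleIso C (ComplexShape.up ℕ) 0).app S.X₁).symm
    ((HomologicalComplex.homologyFunctorSingleIso C (ComplexShape.up ℕ) 0).app S.X₂).symm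
    ((HomologicalComplex.homologyFunctorSingleIso C (ComplexShape.up ℕ) 0).app S.X₃).symm
    ((HomologicalComplex.homologyFunctorSingleIso C (ComplexShape.up ℕ) 0).inv.naturality S.f).symm
    ((HomologicalComplex.homologyFunctorSingleIso C (ComplexShape.up ℕ) 0).inv.naturality S.g).symm)
      ≪≫ @asIso _ _ _ _ φ hφ
  haveI := sesRes_mono_f T
  refine { exact := (ShortComplex.exact_iff_of_iso e).2 (T.shortExact.homology_exact₂ 0)
           epi_g := ?_ }
  have h1 : IsZero (T.I₁.cocomplex.homology 1) :=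
    (T.I₁.cocomplex.exactAt_iff_isZero_homology 1).1 (T.I₁.cocomplex_exactAt_succ 0)
  haveI : Epi (T.cx.map H).g := (T.shortExact.homology_exact₃ 0 1 rfl).epi_f (h1.eq_of_tgt _ _)
  haveI : Epi (e.hom.τ₂ ≫ (T.cx.map H).g) := epi_comp _ _
  haveI : Epi (S.g ≫ e.hom.τ₃) := by rw [← e.hom.comm₂₃]; infer_instance
  have : S.g = (S.g ≫ e.hom.τ₃) ≫ inv e.hom.τ₃ := by simp
  rw [this]
  infer_instance

/-- The objects of the chain attached to a resolution. -/
noncomputable def chainE (T : _root_.RDer.SESRes S) : ℕ → ShortComplex C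
  | 0 => ShortComplex.mk (0 : (kernel (𝟙 S.X₁)) ⟶ (kernel (𝟙 S.X₁)))
      (0 : (kernel (𝟙 S.X₁)) ⟶ (kernel (𝟙 S.X₁))) zero_comp
  | 1 => S
  | n + 2 => T.cx.map (HomologicalComplex.eval C _ n)

/-- The differentials of the chain attached to a resolution. -/
noncomputable def chainD (T : _root_.RDer.SESRes S) : ∀ n, chainE T n ⟶ chainE T (n + 1)
  | 0 => 0
  | 1 =>
    { τ₁ := T.I₁.ι.f 0
      τ₂ := T.I₂.ι.f 0
      τ₃ := T.I₃.ι.f 0
      comm₁₂ := by
        have h := congrArg (fun k => HomologicalComplex.Hom.f k 0) T.ι_f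
        simp only [HomologicalComplex.comp_f, CochainComplex.single₀_map_f_zero] at h
        exact h
      comm₂₃ := by
        have h := congrArg (fun k => HomologicalComplex.Hom.f k 0) T.ι_g
        simp only [HomologicalComplex.comp_f, CochainComplex.single₀_map_f_zero] at h
        exact h }
  | n + 2 =>
    { τ₁ := T.I₁.cocomplex.d n (n + 1)
      τ₂ := T.I₂.cocomplex.d n (n + 1)
      τ₃ := T.I₃.cocomplex.d n (n + 1)
      comm₁₂ := (T.f.comm n (n + 1)).symm
      comm₂₃ := (T.g.comm n (n + 1)).symm }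

lemma chain_exact_aux {X : C} (I : InjectiveResolution X) (Z : C) (hZ : IsZero Z)
    (f : Z ⟶ X) (w : f ≫ I.ι.f 0 = 0) : (ShortComplex.mk f (I.ι.f 0) w).Exact :=
  (ShortComplex.exact_iff_mono _ (hZ.eq_of_src _ _)).2 (inferInstanceAs (Mono (I.ι.f 0)))

lemma chain_exact₀ {X : C} (I : InjectiveResolution X)
    (w : I.ι.f 0 ≫ I.cocomplex.d 0 1 = 0) :
    (ShortComplex.mk (I.ι.f 0) (I.cocomplex.d 0 1) w).Exact :=
  ShortComplex.exact_of_f_is_kernel _ I.isLimitKernelFork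

/-- The chain attached to a resolution. -/
noncomputable def toChain (T : _root_.RDer.SESRes S) : Chain C where
  E := chainE T
  d := chainD T
  d_zero := rfl
  dd n := match n with
    | 0 => zero_comp
    | 1 => ShortComplex.hom_ext _ _ T.I₁.ι_f_zero_comp_complex_d T.I₂.ι_f_zero_comp_complex_d
        T.I₃.ι_f_zero_comp_complex_d
    | n + 2 => ShortComplex.hom_ext _ _ (T.I₁.cocomplex.d_comp_d _ _ _)
        (T.I₂.cocomplex.d_comp_d _ _ _) (T.I₃.cocomplex.d_comp_d _ _ _)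
  epi n := match n with
    | 0 => (isZero_kernel_of_mono (𝟙 S.X₁)).epi _
    | 1 => (sesRes_shortExact T).epi_g
    | n + 2 => (T.shortExact.map_of_exact (HomologicalComplex.eval C _ n)).epi_g
  shortExact n := match n with
    | 0 => sesRes_shortExact T
    | n + 1 => T.shortExact.map_of_exact (HomologicalComplex.eval C _ n)
  exact₁ n w := match n with
    | 0 => chain_exact_aux T.I₁ _ (isZero_kernel_of_mono (𝟙 S.X₁)) _ w
    | 1 => chain_exact₀ T.I₁ w
    | n + 2 => T.I₁.exact_succ n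
  exact₃ n w := match n with
    | 0 => chain_exact_aux T.I₃ _ (isZero_kernel_of_mono (𝟙 S.X₁)) _ w
    | 1 => chain_exact₀ T.I₃ w
    | n + 2 => T.I₃.exact_succ n
  inj₁ n := T.I₁.injective n
  inj₃ n := T.I₃.injective n

lemma exists_sesRes_map {S' : ShortComplex C} (T : _root_.RDer.SESRes S)
    (T' : _root_.RDer.SESRes S') (φ : S ⟶ S') :
    ∃ ψ : T.cx ⟶ T'.cx, T.I₁.ι.f 0 ≫ ψ.τ₁.f 0 = φ.τ₁ ≫ T'.I₁.ι.f 0 ∧
      T.I₂.ι.f 0 ≫ ψ.τ₂.f 0 = φ.τ₂ ≫ T'.I₂.ι.f 0 ∧
      T.I₃.ι.f 0 ≫ ψ.τ₃.f 0 = φ.τ₃ ≫ T'.I₃.ι.f 0 := by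
  obtain ⟨h, h1, hc⟩ := exists_chain_lift (toChain T) (toChain T') φ
  refine ⟨{ τ₁ := { f := fun n => (h (n + 2)).τ₁, comm' := ?_ }
            τ₂ := { f := fun n => (h (n + 2)).τ₂, comm' := ?_ }
            τ₃ := { f := fun n => (h (n + 2)).τ₃, comm' := ?_ }
            comm₁₂ := HomologicalComplex.hom_ext _ _ (fun n => (h (n + 2)).comm₁₂)
            comm₂₃ := HomologicalComplex.hom_ext _ _ (fun n => (h (n + 2)).comm₂₃) }, ?_, ?_, ?_⟩
  · rintro a b rfl
    exact (congrArg ShortComplex.Hom.τ₁ (hc (a + 2))).symm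
  · rintro a b rfl
    exact (congrArg ShortComplex.Hom.τ₂ (hc (a + 2))).symm
  · rintro a b rfl
    exact (congrArg ShortComplex.Hom.τ₃ (hc (a + 2))).symm
  · exact (congrArg ShortComplex.Hom.τ₁ (hc 1)).trans
      (congrArg (fun k => ShortComplex.Hom.τ₁ k ≫ T'.I₁.ι.f 0) h1)
  · exact (congrArg ShortComplex.Hom.τ₂ (hc 1)).trans
      (congrArg (fun k => ShortComplex.Hom.τ₂ k ≫ T'.I₂.ι.f 0) h1)
  · exact (congrArg ShortComplex.Hom.τ₃ (hc 1)).trans
      (congrArg (fun k => ShortComplex.Hom.τ₃ k ≫ T'.I₃.ι.f 0) h1)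

end ToChain

section Delta

variable [HasInjectiveResolutions C] {D : Type u'} [Category.{v'} D] [Abelian D]
  (F : C ⥤ D) [F.Additive] {S : ShortComplex C}

lemma delta_natural {S' : ShortComplex C} (T : _root_.RDer.SESRes S)
    (T' : _root_.RDer.SESRes S') (φ : S ⟶ S') (n₀ n₁ : ℕ) (h : n₀ + 1 = n₁) :
    (F.rightDerived n₀).map φ.τ₃ ≫ T'.delta F n₀ n₁ h =
      T.delta F n₀ n₁ h ≫ (F.rightDerived n₁).map φ.τ₁ := by
  obtain ⟨ψ, h₁, -, h₃⟩ := exists_sesRes_map T T' φ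
  have e₁ := InjectiveResolution.isoRightDerivedObj_hom_naturality φ.τ₁ T.I₁ T'.I₁ ψ.τ₁ h₁ F n₁
  have e₃ := InjectiveResolution.isoRightDerivedObj_hom_naturality φ.τ₃ T.I₃ T'.I₃ ψ.τ₃ h₃ F n₀
  have e₂ := HomologicalComplex.HomologySequence.δ_naturality
    ((F.mapHomologicalComplex (ComplexShape.up ℕ)).mapShortComplex.map ψ)
    (T.map_shortExact F) (T'.map_shortExact F) n₀ n₁ h
  rw [← cancel_mono (T'.I₁.isoRightDerivedObj F n₁).hom, Category.assoc, Category.assoc,
    T'.delta_comp_isoRightDerivedObj_hom, e₁]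
  refine (Category.assoc _ _ _).symm.trans ((congrArg (· ≫ _) e₃).trans
    ((Category.assoc _ _ _).trans ?_))
  refine (congrArg ((T.I₃.isoRightDerivedObj F n₀).hom ≫ ·) e₂.symm).trans ?_
  refine Eq.trans ?_ ((congrArg (· ≫ _) (T.delta_comp_isoRightDerivedObj_hom F n₀ n₁ h).symm).trans
    (Category.assoc _ _ _))
  exact (Category.assoc _ _ _).symm

theorem delta_eq (T T' : _root_.RDer.SESRes S) (n₀ n₁ : ℕ) (h : n₀ + 1 = n₁) :
    T.delta F n₀ n₁ h = T'.delta F n₀ n₁ h := by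
  have := delta_natural F T T' (𝟙 S) n₀ n₁ h
  simpa using this.symm

/-- The comparison between the sequence of `RⁿF` and the homology of a resolution. -/
noncomputable def compIso (T : _root_.RDer.SESRes S) (n : ℕ) :
    ShortComplex.mk ((F.rightDerived n).map S.f) ((F.rightDerived n).map S.g)
      (by rw [← Functor.map_comp, S.zero, Functor.map_zero]) ≅
    (T.cx.map (F.mapHomologicalComplex (ComplexShape.up ℕ))).map
      (HomologicalComplex.homologyFunctor D (ComplexShape.up ℕ) n) :=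
  ShortComplex.isoMk (T.I₁.isoRightDerivedObj F n) (T.I₂.isoRightDerivedObj F n)
    (T.I₃.isoRightDerivedObj F n)
    (InjectiveResolution.isoRightDerivedObj_hom_naturality S.f T.I₁ T.I₂ T.f (by
      have h := congrArg (fun k => HomologicalComplex.Hom.f k 0) T.ι_f
      simp only [HomologicalComplex.comp_f, CochainComplex.single₀_map_f_zero] at h
      exact h) F n).symm
    (InjectiveResolution.isoRightDerivedObj_hom_naturality S.g T.I₂ T.I₃ T.g (by
      have h := congrArg (fun k => HomologicalComplex.Hom.f k 0) T.ι_g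
      simp only [HomologicalComplex.comp_f, CochainComplex.single₀_map_f_zero] at h
      exact h) F n).symm

variable (T : _root_.RDer.SESRes S) (n₀ n₁ : ℕ) (h : n₀ + 1 = n₁)

lemma map_comp_delta : (F.rightDerived n₀).map S.g ≫ T.delta F n₀ n₁ h = 0 := by
  have e := (compIso F T n₀).hom.comm₂₃
  rw [← cancel_mono (T.I₁.isoRightDerivedObj F n₁).hom, Category.assoc,
    T.delta_comp_isoRightDerivedObj_hom, zero_comp]
  refine (Category.assoc _ _ _).symm.trans ?_
  refine (congrArg (· ≫ (T.map_shortExact F).δ n₀ n₁ h) e.symm).trans ?_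
  exact (Category.assoc _ _ _).trans
    ((congrArg ((compIso F T n₀).hom.τ₂ ≫ ·) ((T.map_shortExact F).comp_δ n₀ n₁ h)).trans comp_zero)

lemma delta_comp_map : T.delta F n₀ n₁ h ≫ (F.rightDerived n₁).map S.f = 0 := by
  have e := (compIso F T n₁).hom.comm₁₂
  rw [← cancel_mono (T.I₂.isoRightDerivedObj F n₁).hom, Category.assoc, zero_comp]
  refine (congrArg (T.delta F n₀ n₁ h ≫ ·) e.symm).trans ?_
  refine (Category.assoc _ _ _).symm.trans ?_
  refine (congrArg (· ≫ _) (T.delta_comp_isoRightDerivedObj_hom F n₀ n₁ h)).trans ?_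
  exact (Category.assoc _ _ _).trans
    ((congrArg ((T.I₃.isoRightDerivedObj F n₀).hom ≫ ·)
      ((T.map_shortExact F).δ_comp n₀ n₁ h)).trans comp_zero)

include T in
lemma exact₂' (n : ℕ) : (ShortComplex.mk ((F.rightDerived n).map S.f) ((F.rightDerived n).map S.g)
    (by rw [← Functor.map_comp, S.zero, Functor.map_zero])).Exact := by
  exact (ShortComplex.exact_iff_of_iso (compIso F T n)).2
    ((T.map_shortExact F).homology_exact₂ n)

lemma exact₃' : (ShortComplex.mk _ _ (map_comp_delta F T n₀ n₁ h)).Exact :=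
  (ShortComplex.exact_iff_of_iso (ShortComplex.isoMk (T.I₂.isoRightDerivedObj F n₀)
    (T.I₃.isoRightDerivedObj F n₀) (T.I₁.isoRightDerivedObj F n₁)
    (compIso F T n₀).hom.comm₂₃ (T.delta_comp_isoRightDerivedObj_hom F n₀ n₁ h).symm)).2
    ((T.map_shortExact F).homology_exact₃ n₀ n₁ h)

lemma exact₁' : (ShortComplex.mk _ _ (delta_comp_map F T n₀ n₁ h)).Exact :=
  (ShortComplex.exact_iff_of_iso (ShortComplex.isoMk (T.I₃.isoRightDerivedObj F n₀)
    (T.I₁.isoRightDerivedObj F n₁) (T.I₂.isoRightDerivedObj F n₁)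
    (T.delta_comp_isoRightDerivedObj_hom F n₀ n₁ h).symm (compIso F T n₁).hom.comm₁₂)).2
    ((T.map_shortExact F).homology_exact₁ n₀ n₁ h)

end Delta

section LES

variable [EnoughInjectives C] {D : Type u'} [Category.{v'} D] [Abelian D]
  (F : C ⥤ D) [F.Additive]

/-- A chosen resolution of a short exact sequence. -/
noncomputable def chosenRes (S : ShortComplex C) (hS : S.ShortExact) : _root_.RDer.SESRes S :=
  (nonempty_sesRes S hS).some

/-- The connecting morphisms and long exact sequence of the right derived functors. -/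
noncomputable def derivedLES : _root_.RDer.DerivedLES F where
  δ S hS n₀ n₁ h := (chosenRes S hS).delta F n₀ n₁ h
  δ_eq _ _ T n₀ n₁ h := delta_eq F _ T n₀ n₁ h
  δ_natural _ _ φ n₀ n₁ h := delta_natural F _ _ φ n₀ n₁ h
  exact₂ S hS n := exact₂' F (chosenRes S hS) n
  comp_δ S hS n₀ n₁ h := map_comp_delta F (chosenRes S hS) n₀ n₁ h
  exact₃ S hS n₀ n₁ h := exact₃' F (chosenRes S hS) n₀ n₁ h
  δ_comp S hS n₀ n₁ h := delta_comp_map F (chosenRes S hS) n₀ n₁ h
  exact₁ S hS n₀ n₁ h := exact₁' F (chosenRes S hS) n₀ n₁ h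

end LES

end Groth.Agent.TriH.RDer
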