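import Mathlib.Algebra.Homology.DerivedCategory.KInjective
import Mathlib.CategoryTheory.Functor.Derived.PointwiseRightDerived

/-!
# Right derived functors through objects which see the localization as bijective
-/

set_option autoImplicit false

open CategoryTheory CategoryTheory.Limits

namespace Groth.Agent.TriH

universe w v v' v'' u u' u''

section General

variable {C : Type u} [Category.{v} C] {D : Type u'} [Category.{v'} D] {H : Type u''}
  [Category.{v''} H] (L : C ⥤ D) (W : MorphismProperty C) [L.IsLocalization W]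

/-- A costructured arrow with bijective transition maps is terminal. -/
noncomputable def isTerminalOfBijective {Y : C} {I : C} (φ : L.obj I ⟶ L.obj Y) [IsIso φ]
    (hI : ∀ X : C, Function.Bijective (L.map : (X ⟶ I) → _)) :
    IsTerminal (CostructuredArrow.mk φ) :=
  IsTerminal.ofUniqueHom
    (fun g => CostructuredArrow.homMk ((hI g.left).2 (g.hom ≫ inv φ)).choose (by
      rw [((hI g.left).2 (g.hom ≫ inv φ)).choose_spec]
      simp))
    (fun g m => by
      refine CostructuredArrow.hom_ext _ _ ((hI g.left).1 ?_)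
      show L.map m.left = L.map _
      refine Eq.trans ?_ ((hI g.left).2 (g.hom ≫ inv φ)).choose_spec.symm
      rw [IsIso.eq_comp_inv]
      exact CostructuredArrow.w m)

variable {L W}

lemma hasPointwiseRightDerivedFunctor_of_bijective
    (hres : ∀ Y : C, ∃ (I : C) (s : Y ⟶ I), W s ∧
      ∀ X : C, Function.Bijective (L.map : (X ⟶ I) → _)) (F : C ⥤ H) :
    F.HasPointwiseRightDerivedFunctor W := by
  intro Y
  obtain ⟨I, s, hs, hI⟩ := hres Y
  rw [F.hasPointwiseRightDerivedFunctorAt_iff L W]
  haveI : IsIso (L.map s) := Localization.inverts L W s hs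
  exact ⟨⟨⟨_, colimitOfDiagramTerminal (isTerminalOfBijective L (inv (L.map s)) hI) _⟩⟩⟩

lemma isIso_unit_of_bijective (F : C ⥤ H) [F.HasPointwiseRightDerivedFunctor W] (RF : D ⥤ H)
    (α : F ⟶ L ⋙ RF) [RF.IsRightDerivedFunctor α W] (I : C)
    (hI : ∀ X : C, Function.Bijective (L.map : (X ⟶ I) → _)) : IsIso (α.app I) := by
  have h := RF.isPointwiseLeftKanExtensionOfHasPointwiseRightDerivedFunctor α W (L.obj I)
  have h' := IsColimit.isIso_ι_app_of_isTerminal h (CostructuredArrow.mk (𝟙 (L.obj I)))
    (isTerminalOfBijective L (𝟙 _) hI)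
  have e : α.app I = ((Functor.LeftExtension.mk RF α).coconeAt (L.obj I)).ι.app
      (CostructuredArrow.mk (𝟙 (L.obj I))) :=
    ((congrArg (α.app I ≫ ·) (RF.map_id (L.obj I))).trans (Category.comp_id _)).symm
  exact e.symm ▸ h'

end General

variable {A : Type u} [Category.{v} A] [Abelian A] [HasDerivedCategory.{w} A]

lemma Qh_bijective_of_isKInjective (L : CochainComplex A ℤ) [L.IsKInjective]
    (X : HomotopyCategory A (ComplexShape.up ℤ)) :
    Function.Bijective (DerivedCategory.Qh.map :
      (X ⟶ (HomotopyCategory.quotient A (ComplexShape.up ℤ)).obj L) → _) :=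
  CochainComplex.IsKInjective.Qh_map_bijective X L

lemma exists_kInjective_homotopy
    (hKinj : ∀ K : CochainComplex A ℤ, ∃ (I : CochainComplex A ℤ) (f : K ⟶ I),
      I.IsKInjective ∧ QuasiIso f) (Y : HomotopyCategory A (ComplexShape.up ℤ)) :
    ∃ (I : HomotopyCategory A (ComplexShape.up ℤ)) (s : Y ⟶ I),
      HomotopyCategory.quasiIso A (ComplexShape.up ℤ) s ∧
      ∀ X, Function.Bijective (DerivedCategory.Qh.map : (X ⟶ I) → _) := by
  obtain ⟨K, rfl⟩ := HomotopyCategory.quotient_obj_surjective Y
  obtain ⟨I, f, hI, hf⟩ := hKinj K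
  exact ⟨_, (HomotopyCategory.quotient _ _).map f,
    (HomotopyCategory.quotient_map_mem_quasiIso_iff f).2 (by simpa using hf),
    fun X => Qh_bijective_of_isKInjective I X⟩

end Groth.Agent.TriH
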