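import Groth.Agent.TriH.KInjExist
import Groth.Agent.TriH.DerivedKInj

/-!
# Products in the derived category
-/

set_option autoImplicit false

open CategoryTheory CategoryTheory.Limits

namespace Groth.Agent.TriH

universe w v u t

variable {A : Type u} [Category.{v} A] [Abelian A] [HasDerivedCategory.{w} A]

lemma Q_map_surjective_of_isKInjective (K L : CochainComplex A ℤ) [L.IsKInjective]
    (g : DerivedCategory.Q.obj K ⟶ DerivedCategory.Q.obj L) :
    ∃ f : K ⟶ L, DerivedCategory.Q.map f = g := by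
  obtain ⟨a, ha⟩ := (Qh_bijective_of_isKInjective L _).2
    ((DerivedCategory.quotientCompQhIso A).hom.app K ≫ g ≫
      (DerivedCategory.quotientCompQhIso A).inv.app L)
  obtain ⟨f, rfl⟩ := (HomotopyCategory.quotient A (ComplexShape.up ℤ)).map_surjective a
  refine ⟨f, ?_⟩
  have h := DerivedCategory.quotientCompQhIso_hom_naturality f
  rw [← cancel_epi ((DerivedCategory.quotientCompQhIso A).hom.app K), ← h]
  erw [ha]
  simp

lemma Q_map_eq_zero_iff_of_isKInjective {K L : CochainComplex A ℤ} [L.IsKInjective]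
    (f : K ⟶ L) : DerivedCategory.Q.map f = 0 ↔ Nonempty (Homotopy f 0) := by
  have h := DerivedCategory.quotientCompQhIso_hom_naturality f
  constructor
  · intro hf
    refine ⟨HomotopyCategory.homotopyOfEq _ _ ?_⟩
    apply (Qh_bijective_of_isKInjective L _).1
    rw [Functor.map_zero, Functor.map_zero]
    rw [hf, comp_zero] at h
    exact (cancel_mono ((DerivedCategory.quotientCompQhIso A).hom.app L)).1
      (h.trans zero_comp.symm)
  · rintro ⟨hh⟩
    rw [← cancel_epi ((DerivedCategory.quotientCompQhIso A).hom.app K), ← h,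
      HomotopyCategory.eq_of_homotopy f 0 hh]
    simp

lemma hasProduct_Q_of_isKInjective {T : Type t} (I : T → CochainComplex A ℤ) [HasProduct I]
    (hI : ∀ t, (I t).IsKInjective) : HasProduct fun t => DerivedCategory.Q.obj (I t) := by
  haveI := isKInjective_pi I hI
  haveI := hI
  have hlift : ∀ (W : DerivedCategory A) (g : ∀ t, W ⟶ DerivedCategory.Q.obj (I t)),
      ∃! l : W ⟶ DerivedCategory.Q.obj (∏ᶜ I),
        ∀ t, l ≫ DerivedCategory.Q.map (Pi.π I t) = g t := by
    intro W g
    obtain ⟨X, ⟨e⟩⟩ : ∃ X, Nonempty (DerivedCategory.Q.obj X ≅ W) :=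
      ⟨_, ⟨DerivedCategory.Q.objObjPreimageIso W⟩⟩
    choose a ha using fun t => Q_map_surjective_of_isKInjective X (I t) (e.hom ≫ g t)
    refine ⟨e.inv ≫ DerivedCategory.Q.map (Pi.lift a), fun t => ?_, fun l hl => ?_⟩
    · rw [Category.assoc, ← Functor.map_comp, Pi.lift_π, ha, Iso.inv_hom_id_assoc]
    · obtain ⟨b, hb⟩ := Q_map_surjective_of_isKInjective X (∏ᶜ I) (e.hom ≫ l)
      rw [Iso.eq_inv_comp, ← hb, ← sub_eq_zero, ← Functor.map_sub,
        Q_map_eq_zero_iff_of_isKInjective, nullHomotopic_iff_exists_extension]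
      have : ∀ t, Nonempty (Homotopy ((b - Pi.lift a) ≫ Pi.π I t) 0) := fun t => by
        rw [← Q_map_eq_zero_iff_of_isKInjective]
        simp [hb, hl t, ha t]
      choose ψ hψ using fun t => (nullHomotopic_iff_exists_extension _).1 (this t)
      exact ⟨Pi.lift ψ, Pi.hom_ext _ _ fun t => by simp [hψ]⟩
  exact HasLimit.mk ⟨Fan.mk (DerivedCategory.Q.obj (∏ᶜ I))
      (fun t => DerivedCategory.Q.map (Pi.π I t)),
    mkFanLimit _ (fun s => (hlift s.pt (fun t => s.proj t)).choose)
      (fun s t => (hlift s.pt (fun t => s.proj t)).choose_spec.1 t)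
      (fun s m hm => (hlift s.pt (fun t => s.proj t)).choose_spec.2 m hm)⟩

theorem hasProducts_derivedCategory {B : Type u} [Category.{v} B] [Abelian B]
    [IsGrothendieckAbelian.{v} B] [HasDerivedCategory.{v} B] :
    HasProducts.{v} (DerivedCategory B) := fun T => by
  refine ⟨fun F => ?_⟩
  haveI : HasProducts.{v} B := fun J => inferInstance
  choose I f hI hf _ _ using fun t => exists_kInjective_resolution
    (DerivedCategory.Q.objPreimage (F.obj ⟨t⟩))
  haveI := hasProduct_Q_of_isKInjective I hI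
  haveI := hf
  refine hasLimit_of_iso (F := Discrete.functor fun t => DerivedCategory.Q.obj (I t)) (G := F)
    (Discrete.natIso fun ⟨t⟩ =>
      (asIso (DerivedCategory.Q.map (f t))).symm ≪≫
        DerivedCategory.Q.objObjPreimageIso (F.obj ⟨t⟩))

end Groth.Agent.TriH
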