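import Mathlib.Algebra.Homology.GrothendieckAbelian
import Mathlib.Algebra.Homology.Double
import Mathlib.Algebra.Homology.HomotopyCategory.KInjective
import Mathlib.CategoryTheory.Abelian.GrothendieckCategory.Monomorphisms
import Mathlib.CategoryTheory.Abelian.Refinements
import Mathlib.CategoryTheory.Functor.OfSequence
import Mathlib.Algebra.Homology.HomologicalComplexLimits
import Mathlib.Algebra.Homology.HomologicalComplexAbelian

/-!
# Small acyclic subcomplexes in Grothendieck abelian categories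

There is a complex `bigGen G` depending only on a separator `G` such that every non-zero acyclic
quotient of a complex `Y` receives, from a morphism `bigGen G ⟶ Y`, a non-zero acyclic image.
-/

set_option autoImplicit false

open CategoryTheory CategoryTheory.Limits

namespace Groth.Agent.TriH.Closure

universe v u

variable {A : Type u} [Category.{v} A] [Abelian A] [IsGrothendieckAbelian.{v} A] (G : A)

lemma rel_succ (m : ℤ) : (ComplexShape.up ℤ).Rel m (m + 1) := rfl

/-- The free complex on generators `G` indexed by `I m` in degree `m`. -/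
noncomputable def gen (I : ℤ → Type v) : CochainComplex A ℤ :=
  ∐ fun m : ULift.{v} ℤ => HomologicalComplex.double (𝟙 (∐ fun _ : I m.down => G)) (rel_succ m.down)

variable {G} {I : ℤ → Type v} {Q : CochainComplex A ℤ}

/-- The morphism out of `gen G I` defined by images of generators. -/
noncomputable def genDesc (s : ∀ m, I m → (G ⟶ Q.X m)) : gen G I ⟶ Q :=
  Sigma.desc fun m => ((HomologicalComplex.evalCompCoyonedaCorepresentableByDoubleId
    (rel_succ m.down) (by omega) (∐ fun _ : I m.down => G)).homEquiv).symm (Sigma.desc (s m.down))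

/-- The generators. -/
noncomputable def γ (m : ℤ) (i : I m) : G ⟶ (gen G I).X m :=
  Sigma.ι (fun _ : I m => G) i ≫
    (HomologicalComplex.doubleXIso₀ (𝟙 (∐ fun _ : I m => G)) (rel_succ m)).inv ≫
      (Sigma.ι (fun m : ULift.{v} ℤ =>
        HomologicalComplex.double (𝟙 (∐ fun _ : I m.down => G)) (rel_succ m.down)) ⟨m⟩).f m

@[reassoc]
lemma γ_genDesc (s : ∀ m, I m → (G ⟶ Q.X m)) (m : ℤ) (i : I m) :
    γ m i ≫ (genDesc s).f m = s m i := by
  simp only [γ, genDesc, Category.assoc]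
  erw [← HomologicalComplex.comp_f, Sigma.ι_desc]
  have h := ((HomologicalComplex.evalCompCoyonedaCorepresentableByDoubleId
    (rel_succ m) (by omega) (∐ fun _ : I m => G)).homEquiv).apply_symm_apply (Sigma.desc (s m))
  refine (congrArg (Sigma.ι (fun _ : I m => G) i ≫ ·) h).trans ?_
  exact Sigma.ι_desc _ _

lemma gen_hom_ext {f g : gen G I ⟶ Q} (h : ∀ m i, γ m i ≫ f.f m = γ m i ≫ g.f m) : f = g := by
  refine Sigma.hom_ext _ _ fun m => ?_
  apply ((HomologicalComplex.evalCompCoyonedaCorepresentableByDoubleId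
    (rel_succ m.down) (by omega) (∐ fun _ : I m.down => G)).homEquiv).injective
  refine Sigma.hom_ext _ _ fun i => ?_
  have := h m.down i
  simp only [γ, Category.assoc] at this
  exact this

set_option backward.defeqAttrib.useBackward true in
set_option backward.isDefEq.respectTransparency false in
/-- Colimits of pullbacks along a colimit of subobjects are jointly epimorphic. -/
lemma pullback_jointly_epi {J : Type} [SmallCategory J] [IsFiltered J] [HasColimitsOfShape J A]
    [HasExactColimitsOfShape J A] {Y : J ⥤ A} {c : Cocone Y} (hc : IsColimit c) {X : A}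
    (z : X ⟶ c.pt) {Z : A} (f : X ⟶ Z)
    (hf : ∀ j, (pullback.snd c.ι ((Functor.const J).map z)).app j ≫ f = 0) : f = 0 := by
  haveI : IsConnected J := IsFiltered.isConnected J
  let g : colimit (pullback c.ι ((Functor.const J).map z)) ⟶ X :=
    colimit.desc _ (Cocone.mk X
      { app j := (pullback.snd c.ι ((Functor.const J).map z)).app j })
  have hg : IsIso g := by
    refine ((MorphismProperty.isomorphisms A).arrow_mk_iso_iff ?_).1
      (MorphismProperty.of_isPullback
        ((IsPullback.of_hasPullback c.ι ((Functor.const J).map z)).map colim) ?_)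
    · refine Arrow.isoMk (Iso.refl _)
        (IsColimit.coconePointUniqueUpToIso (colimit.isColimit _) (isColimitConstCocone J X)) ?_
      dsimp
      ext j
      rw [Category.id_comp, ι_colimMap_assoc, colimit.comp_coconePointUniqueUpToIso_hom,
        constCocone_ι, NatTrans.id_app, Category.comp_id]
      exact colimit.ι_desc _ _
    · refine ((MorphismProperty.isomorphisms A).arrow_mk_iso_iff ?_).2
        ((inferInstance : IsIso (𝟙 c.pt)))
      exact Arrow.isoMk (IsColimit.coconePointUniqueUpToIso (colimit.isColimit Y) hc)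
        (IsColimit.coconePointUniqueUpToIso (colimit.isColimit _)
          (isColimitConstCocone J c.pt))
  rw [← cancel_epi g, comp_zero]
  ext j
  rw [comp_zero, colimit.ι_desc_assoc]
  exact hf j

instance hasExactColimitsOfShape_nat : HasExactColimitsOfShape ℕ A := by
  have : AB5OfSize.{0, 0} A := AB5OfSize_shrink A
  infer_instance

variable (G)

/-- Indices of the successive closures. -/
def Idx (I₀ : ℤ → Type v) : ℕ → ℤ → Type v
  | 0, m => I₀ m
  | k + 1, m => Idx I₀ k m ⊕ (G ⟶ (gen G (Idx I₀ k)).X (m + 1))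

/-- Indices of the final family of generators. -/
def BigIdx (I₀ : ℤ → Type v) (m : ℤ) : Type v := Σ k : ℕ, (G ⟶ (gen G (Idx G I₀ k)).X m)

/-- A complex depending only on `G`. -/
noncomputable def bigGen : CochainComplex A ℤ := gen G (BigIdx G fun _ => PUnit.{v + 1})

variable {G}

/-- The successive families of generators in an acyclic complex. -/
noncomputable def fam {I₀ : ℤ → Type v} (Q : CochainComplex A ℤ)
    (a₀ : ∀ m, I₀ m → (G ⟶ Q.X m)) :
    ∀ (k : ℕ) (m : ℤ), Idx G I₀ k m → (G ⟶ Q.X m)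
  | 0, m, i => a₀ m i
  | k + 1, m, i => by
    classical
    exact match i with
      | Sum.inl i => fam Q a₀ k m i
      | Sum.inr a =>
        if h : ∃ c : G ⟶ Q.X m, c ≫ Q.d m (m + 1) = a ≫ (genDesc (fam Q a₀ k)).f (m + 1)
          then h.choose else 0

section

variable {I₀ : ℤ → Type v} (hG : IsSeparator G) (Q : CochainComplex A ℤ)
  (a₀ : ∀ m, I₀ m → (G ⟶ Q.X m))

/-- The stages. -/
noncomputable abbrev φ (k : ℕ) : gen G (Idx G I₀ k) ⟶ Q := genDesc (fam Q a₀ k)

lemma φ_factor (k : ℕ) : ∃ t : gen G (Idx G I₀ k) ⟶ gen G (Idx G I₀ (k + 1)),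
    t ≫ φ Q a₀ (k + 1) = φ Q a₀ k :=
  ⟨genDesc fun m i => γ m (Sum.inl i : Idx G I₀ (k + 1) m), gen_hom_ext fun m i => by
    rw [HomologicalComplex.comp_f, γ_genDesc_assoc, γ_genDesc, γ_genDesc]
    simp [fam]⟩

/-- The maps between the successive images. -/
noncomputable def step (k : ℕ) :
    Abelian.image (φ Q a₀ k) ⟶ Abelian.image (φ Q a₀ (k + 1)) :=
  kernel.lift _ (Abelian.image.ι (φ Q a₀ k)) (by
    obtain ⟨t, ht⟩ := φ_factor Q a₀ k
    rw [← cancel_epi (Abelian.factorThruImage (φ Q a₀ k)), comp_zero, kernel.lift_ι_assoc,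
      ← ht, Category.assoc, cokernel.condition, comp_zero])

lemma step_ι (k : ℕ) : step Q a₀ k ≫ Abelian.image.ι (φ Q a₀ (k + 1)) =
    Abelian.image.ι (φ Q a₀ k) :=
  kernel.lift_ι _ _ _

/-- The sequence of images. -/
noncomputable abbrev imgSeq : ℕ ⥤ CochainComplex A ℤ := Functor.ofSequence (step Q a₀)

/-- The inclusions of the images. -/
noncomputable def imgSeqι : imgSeq Q a₀ ⟶ (Functor.const ℕ).obj Q :=
  NatTrans.ofSequence (fun k => Abelian.image.ι (φ Q a₀ k)) (fun k => by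
    show (Functor.ofSequence (step Q a₀)).map (homOfLE (Nat.le_succ k)) ≫ _ = _
    rw [Functor.ofSequence_map_homOfLE_succ]
    exact (step_ι Q a₀ k).trans (Category.comp_id _).symm)

/-- The closure. -/
noncomputable abbrev clos : CochainComplex A ℤ := colimit (imgSeq Q a₀)

/-- The inclusion of the closure. -/
noncomputable def closι : clos Q a₀ ⟶ Q :=
  colimit.desc _ (Cocone.mk Q (imgSeqι Q a₀))

/-- The maps to the closure. -/
noncomputable def toClos (k : ℕ) : gen G (Idx G I₀ k) ⟶ clos Q a₀ :=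
  Abelian.factorThruImage (φ Q a₀ k) ≫ colimit.ι (imgSeq Q a₀) k

@[reassoc]
lemma toClos_closι (k : ℕ) : toClos Q a₀ k ≫ closι Q a₀ = φ Q a₀ k := by
  rw [toClos, Category.assoc, closι]
  erw [colimit.ι_desc]
  exact kernel.lift_ι _ _ _

/-- The cocone computing a degree of the closure. -/
noncomputable abbrev closCocone (m : ℤ) :
    Cocone (imgSeq Q a₀ ⋙ HomologicalComplex.eval A (ComplexShape.up ℤ) m) :=
  (HomologicalComplex.eval A (ComplexShape.up ℤ) m).mapCocone (colimit.cocone (imgSeq Q a₀))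

/-- It is a colimit cocone. -/
noncomputable def isColimitClosCocone (m : ℤ) : IsColimit (closCocone Q a₀ m) :=
  isColimitOfPreserves _ (colimit.isColimit _)

lemma mono_closι_f (m : ℤ) : Mono ((closι Q a₀).f m) := by
  let α : imgSeq Q a₀ ⋙ HomologicalComplex.eval A (ComplexShape.up ℤ) m ⟶
      (Functor.const ℕ).obj (Q.X m) :=
    { app k := (Abelian.image.ι (φ Q a₀ k)).f m
      naturality k k' h := by
        have := congrArg (fun x => HomologicalComplex.Hom.f x m) ((imgSeqι Q a₀).naturality h)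
        exact this }
  haveI : ∀ k, Mono (α.app k) := fun k =>
    (HomologicalComplex.eval A (ComplexShape.up ℤ) m).map_mono (Abelian.image.ι (φ Q a₀ k))
  haveI := NatTrans.mono_of_mono_app α
  haveI : IsConnected ℕ := IsFiltered.isConnected ℕ
  exact colim.map_mono' α (isColimitClosCocone Q a₀ m) (isColimitConstCocone ℕ (Q.X m)) _
    (fun k => by
      refine Eq.trans ?_ (Category.comp_id _).symm
      show (colimit.ι (imgSeq Q a₀) k).f m ≫ (closι Q a₀).f m = (Abelian.image.ι (φ Q a₀ k)).f m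
      rw [← HomologicalComplex.comp_f, closι, colimit.ι_desc]
      rfl)

lemma clos_hom_ext_zero {m : ℤ} {Z : A} (f : (clos Q a₀).X m ⟶ Z)
    (h : ∀ (k : ℕ), (toClos Q a₀ k).f m ≫ f = 0) : f = 0 := by
  refine (isColimitClosCocone Q a₀ m).hom_ext fun k => ?_
  show (colimit.ι (imgSeq Q a₀) k).f m ≫ f = (colimit.ι (imgSeq Q a₀) k).f m ≫ 0
  haveI : Epi ((Abelian.factorThruImage (φ Q a₀ k)).f m) :=
    (HomologicalComplex.eval A (ComplexShape.up ℤ) m).map_epi (Abelian.factorThruImage (φ Q a₀ k))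
  have h' : (Abelian.factorThruImage (φ Q a₀ k)).f m ≫ ((colimit.ι (imgSeq Q a₀) k).f m ≫ f) = 0 :=
    (Category.assoc _ _ _).symm.trans (h k)
  exact ((cancel_epi ((Abelian.factorThruImage (φ Q a₀ k)).f m)).1
    (h'.trans comp_zero.symm)).trans comp_zero.symm

include hG in
/-- The closure is acyclic. -/
lemma acyclic_clos (hQ : Q.Acyclic) : (clos Q a₀).Acyclic := by
  classical
  intro m
  obtain ⟨n, rfl⟩ : ∃ n, m = n + 1 := ⟨m - 1, by omega⟩
  rw [HomologicalComplex.exactAt_iff' _ n (n + 1) (n + 1 + 1) (by simp) (by simp),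
    ShortComplex.exact_iff_exact_up_to_refinements]
  intro W z hz
  change W ⟶ (clos Q a₀).X (n + 1) at z
  change z ≫ (clos Q a₀).d (n + 1) (n + 1 + 1) = 0 at hz
  haveI := mono_closι_f Q a₀ n
  haveI := mono_closι_f Q a₀ (n + 1)
  let c := closCocone Q a₀ (n + 1)
  let P := fun k => (pullback c.ι ((Functor.const ℕ).map z)).obj k
  let snd := fun k => (pullback.snd c.ι ((Functor.const ℕ).map z)).app k
  let L := { b : Σ k, G ⟶ P k //
    ∃ y : G ⟶ (clos Q a₀).X n, y ≫ (clos Q a₀).d n (n + 1) = b.2 ≫ snd b.1 ≫ z }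
  haveI : HasCoproduct fun _ : L => G := inferInstance
  refine ⟨∐ fun _ : L => G, Sigma.desc fun b => b.1.2 ≫ snd b.1.1, ?_,
    Sigma.desc fun b => b.2.choose, Sigma.hom_ext _ _ fun b => ?_⟩
  swap
  · rw [Sigma.ι_desc_assoc, Category.assoc]
    refine Eq.trans b.2.choose_spec.symm ?_
    refine Eq.symm ?_
    refine (Category.assoc _ _ _).symm.trans ?_
    refine congrArg (fun x => x ≫ (clos Q a₀).d n (n + 1)) ?_
    exact Sigma.ι_desc _ _
  rw [Preadditive.epi_iff_cancel_zero]
  intro Z f hf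
  refine pullback_jointly_epi (isColimitClosCocone Q a₀ (n + 1)) z f fun k => ?_
  refine hG.def _ _ fun b => ?_
  rw [comp_zero]
  -- refine `b` to make it liftable
  haveI : Epi ((Abelian.factorThruImage (φ Q a₀ k)).f (n + 1)) :=
    (HomologicalComplex.eval A (ComplexShape.up ℤ) (n + 1)).map_epi (Abelian.factorThruImage (φ Q a₀ k))
  let s := (pullback.fst c.ι ((Functor.const ℕ).map z)).app k
  have hcond : s ≫ (colimit.ι (imgSeq Q a₀) k).f (n + 1) = snd k ≫ z :=
    congrArg (fun x => x.app k) (pullback.condition (f := c.ι) (g := (Functor.const ℕ).map z))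
  obtain ⟨T₁, π₁, hπ₁, t, ht⟩ :=
    surjective_up_to_refinements_of_epi ((Abelian.factorThruImage (φ Q a₀ k)).f (n + 1)) (b ≫ s)
  have ht' : π₁ ≫ b ≫ snd k ≫ z = t ≫ (toClos Q a₀ k).f (n + 1) := by
    refine (congrArg (fun x => π₁ ≫ b ≫ x) hcond.symm).trans ?_
    refine Eq.trans ?_ (Category.assoc _ _ _)
    refine Eq.trans ?_ (congrArg (· ≫ (colimit.ι (imgSeq Q a₀) k).f (n + 1)) ht)
    exact (congrArg (π₁ ≫ ·) (Category.assoc _ _ _).symm).trans (Category.assoc _ _ _).symm
  have hcyc : (t ≫ (φ Q a₀ k).f (n + 1)) ≫ Q.d (n + 1) (n + 1 + 1) = 0 := by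
    have hz0 : z ≫ (clos Q a₀).d (n + 1) (n + 1 + 1) = 0 := hz
    rw [← toClos_closι Q a₀ k, HomologicalComplex.comp_f, ← Category.assoc, ← ht']
    have hz1 : z ≫ (closι Q a₀).f (n + 1) ≫ Q.d (n + 1) (n + 1 + 1) = 0 := by
      rw [HomologicalComplex.Hom.comm]
      exact (Category.assoc _ _ _).symm.trans
        ((congrArg (· ≫ (closι Q a₀).f (n + 1 + 1)) hz0).trans zero_comp)
    refine (Category.assoc _ _ _).trans ?_
    exact ((Category.assoc _ _ _).trans (congrArg (π₁ ≫ ·) ((Category.assoc _ _ _).trans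
      (congrArg (b ≫ ·) ((Category.assoc _ _ _).trans
        ((congrArg (snd k ≫ ·) hz1).trans comp_zero)))))).trans (by simp)
  have hex := (HomologicalComplex.exactAt_iff' Q n (n + 1) (n + 1 + 1) (by simp) (by simp)).1
    (hQ (n + 1))
  obtain ⟨T₂, π₂, hπ₂, cc, hcc⟩ :=
    hex.exact_up_to_refinements (t ≫ (φ Q a₀ k).f (n + 1)) hcyc
  rw [← cancel_epi π₁, ← cancel_epi π₂, comp_zero, comp_zero]
  refine hG.def _ _ fun e => ?_
  rw [comp_zero]
  let a : G ⟶ (gen G (Idx G I₀ k)).X (n + 1) := e ≫ π₂ ≫ t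
  have hex' : ∃ c' : G ⟶ Q.X n, c' ≫ Q.d n (n + 1) = a ≫ (φ Q a₀ k).f (n + 1) := ⟨e ≫ cc, by
    simp only [a, Category.assoc]
    exact congrArg (e ≫ ·) hcc.symm⟩
  let y : G ⟶ (clos Q a₀).X n :=
    γ n (Sum.inr a : Idx G I₀ (k + 1) n) ≫ (toClos Q a₀ (k + 1)).f n
  have hy : y ≫ (clos Q a₀).d n (n + 1) = (e ≫ π₂ ≫ π₁ ≫ b) ≫ snd k ≫ z := by
    rw [← cancel_mono ((closι Q a₀).f (n + 1)), Category.assoc,
      ← HomologicalComplex.Hom.comm]
    simp only [y, Category.assoc]
    rw [← HomologicalComplex.comp_f_assoc, toClos_closι, γ_genDesc_assoc]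
    have : fam Q a₀ (k + 1) n (Sum.inr a) = hex'.choose := by
      simp only [fam]
      exact dif_pos hex'
    rw [this, hex'.choose_spec]
    simp only [a, Category.assoc]
    rw [← toClos_closι Q a₀ k, HomologicalComplex.comp_f, ← Category.assoc t]
    refine Eq.trans (congrArg (fun x => e ≫ π₂ ≫ x ≫ (closι Q a₀).f (n + 1)) ht'.symm) ?_
    simp only [Category.assoc]
  have := congrArg (Sigma.ι (fun _ : L => G) ⟨⟨k, e ≫ π₂ ≫ π₁ ≫ b⟩, y, hy⟩ ≫ ·) hf
  simpa using this

variable {Y : CochainComplex A ℤ} (q : Y ⟶ Q) [Epi q]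

include hG in
/-- The closure is the image of a morphism from `bigGen G` which lifts to `Y`. -/
lemma exists_lift : ∃ (f : gen G (BigIdx G I₀) ⟶ Y) (e : gen G (BigIdx G I₀) ⟶ clos Q a₀), Epi e ∧
    e ≫ closι Q a₀ = f ≫ q := by
  classical
  have hc : ∀ (m : ℤ) (i : BigIdx G I₀ m), ∃ (c : G ⟶ Y.X m) (d : G ⟶ (clos Q a₀).X m),
      d ≫ (closι Q a₀).f m = c ≫ q.f m ∧
      ((∃ c' : G ⟶ Y.X m, c' ≫ q.f m = i.2 ≫ (φ Q a₀ i.1).f m) →
        d = i.2 ≫ (toClos Q a₀ i.1).f m) := fun m i => by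
    by_cases h : ∃ c' : G ⟶ Y.X m, c' ≫ q.f m = i.2 ≫ (φ Q a₀ i.1).f m
    · refine ⟨h.choose, i.2 ≫ (toClos Q a₀ i.1).f m, ?_, fun _ => rfl⟩
      rw [h.choose_spec, Category.assoc, ← HomologicalComplex.comp_f, toClos_closι]
    · exact ⟨0, 0, by rw [zero_comp, zero_comp], fun h' => absurd h' h⟩
  choose c d hcd hd using hc
  refine ⟨genDesc c, genDesc d, ?_, gen_hom_ext fun m i => ?_⟩
  swap
  · rw [HomologicalComplex.comp_f, HomologicalComplex.comp_f]
    refine (Category.assoc _ _ _).symm.trans (Eq.trans ?_ (Category.assoc _ _ _))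
    exact (congrArg (· ≫ (closι Q a₀).f m) (γ_genDesc d m i)).trans
      ((hcd m i).trans (congrArg (· ≫ q.f m) (γ_genDesc c m i)).symm)
  refine HomologicalComplex.epi_of_epi_f _ fun m => ?_
  rw [Preadditive.epi_iff_cancel_zero]
  intro Z f hf
  refine clos_hom_ext_zero Q a₀ f fun k => ?_
  refine hG.def _ _ fun a => ?_
  rw [comp_zero]
  haveI : Epi (q.f m) :=
    (HomologicalComplex.eval A (ComplexShape.up ℤ) m).map_epi q
  obtain ⟨T₁, π₁, hπ₁, c₁, hc₁⟩ :=
    surjective_up_to_refinements_of_epi (q.f m) (a ≫ (φ Q a₀ k).f m)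
  rw [← cancel_epi π₁, comp_zero]
  refine hG.def _ _ fun e => ?_
  rw [comp_zero]
  let i : BigIdx G I₀ m := ⟨k, e ≫ π₁ ≫ a⟩
  have hi : d m i = (e ≫ π₁ ≫ a) ≫ (toClos Q a₀ k).f m := hd m i ⟨e ≫ c₁, by
    show (e ≫ c₁) ≫ q.f m = (e ≫ π₁ ≫ a) ≫ (φ Q a₀ k).f m
    simp only [Category.assoc]
    exact congrArg (e ≫ ·) hc₁.symm⟩
  have h1 : γ m i ≫ (genDesc d).f m ≫ f = 0 := (congrArg (γ m i ≫ ·) hf).trans comp_zero
  have h2 := (congrArg (· ≫ f) ((γ_genDesc d m i).trans hi)).symm.trans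
    ((Category.assoc _ _ _).trans h1)
  simpa only [Category.assoc] using h2

end

variable (G)

/-- Main result of this file. -/
theorem exists_acyclic_image (hG : IsSeparator G) {Y Q : CochainComplex A ℤ} (q : Y ⟶ Q) [Epi q]
    (hQ : Q.Acyclic) (hQ' : ¬ IsZero Q) :
    ∃ (S : CochainComplex A ℤ) (ι : S ⟶ Q) (f : bigGen G ⟶ Y) (e : bigGen G ⟶ S),
      Mono ι ∧ Epi e ∧ S.Acyclic ∧ e ≫ ι = f ≫ q ∧ f ≫ q ≠ 0 := by
  classical
  obtain ⟨n, a, ha⟩ : ∃ (n : ℤ) (a : G ⟶ Q.X n), a ≠ 0 := by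
    by_contra h
    push Not at h
    refine hQ' ?_
    rw [IsZero.iff_id_eq_zero]
    ext m
    refine hG.def _ _ fun b => ?_
    rw [h m b]
    simp
  let a₀ : ∀ m : ℤ, PUnit.{v + 1} → (G ⟶ Q.X m) := fun m _ => if h : m = n then h ▸ a else 0
  have ha₀ : a₀ n PUnit.unit = a := by simp [a₀]
  obtain ⟨f, e, he, hfe⟩ := exists_lift hG Q a₀ q
  haveI : Mono (closι Q a₀) := HomologicalComplex.mono_of_mono_f _ (mono_closι_f Q a₀)
  refine ⟨clos Q a₀, closι Q a₀, f, e, inferInstance, he, acyclic_clos hG Q a₀ hQ, hfe,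
    fun h0 => ha ?_⟩
  haveI := he
  have h1 : closι Q a₀ = 0 :=
    (cancel_epi e).1 ((hfe.trans h0).trans comp_zero.symm)
  have h2 : φ Q a₀ 0 = 0 := by rw [← toClos_closι Q a₀ 0, h1, comp_zero]
  have h3 := congrArg (fun x => γ n (PUnit.unit : Idx G (fun _ => PUnit.{v + 1}) 0 n) ≫ HomologicalComplex.Hom.f x n) h2
  simp only [γ_genDesc, HomologicalComplex.zero_f, comp_zero] at h3
  rw [← ha₀]
  exact h3

end Groth.Agent.TriH.Closure
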