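import Groth.Agent.TriH.KInj
import Groth.Agent.TriH.KInjClosure
import Mathlib.CategoryTheory.Abelian.GrothendieckCategory.EnoughInjectives

/-!
# Existence of K-injective resolutions in Grothendieck abelian categories
-/

set_option autoImplicit false

open CategoryTheory CategoryTheory.Limits ZeroObject

namespace Groth.Agent.TriH

universe v u

variable {A : Type u} [Category.{v} A] [Abelian A] [IsGrothendieckAbelian.{v} A]

/-- Subobjects with acyclic cokernel. -/
def AcCoker {Y : CochainComplex A ℤ} (X : Subobject Y) : Prop :=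
  HomologicalComplex.Acyclic (cokernel X.arrow)

variable (G : A)

/-- A small family of monomorphisms with acyclic cokernels. -/
noncomputable def acyclicGenMonos : MorphismProperty (CochainComplex A ℤ) :=
  MorphismProperty.ofHoms (fun X : {X : Subobject (Closure.bigGen G) // AcCoker X} => X.1.arrow)

lemma acyclicGenMonos_le : acyclicGenMonos G ≤ MorphismProperty.monomorphisms _ := by
  rintro _ _ _ ⟨X⟩
  exact inferInstanceAs (Mono _)

instance : MorphismProperty.IsSmall.{v} (acyclicGenMonos G) := by
  dsimp [acyclicGenMonos]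
  infer_instance

instance : MorphismProperty.HasSmallObjectArgument.{v} (acyclicGenMonos G) := by
  obtain ⟨κ, hκ', hκ⟩ := HasCardinalLT.exists_regular_cardinal.{v} (Subobject (Closure.bigGen G))
  have : Fact κ.IsRegular := ⟨hκ'⟩
  have : Nonempty κ.ord.ToType := by simpa using hκ'.ne_zero
  have := WellFoundedLT.toOrderBot κ.ord.ToType
  exact ⟨κ, inferInstance, inferInstance,
    { preservesColimit {A B X Y} i hi f hf := by
        let hf' : (MorphismProperty.monomorphisms _).TransfiniteCompositionOfShape κ.ord.ToType f :=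
          { toTransfiniteCompositionOfShape := hf.toTransfiniteCompositionOfShape
            map_mem j hj := by
              have := (hf.attachCells j hj).pushouts_coproducts
              simp only [MorphismProperty.ofHoms_homFamily] at this
              refine (?_ : _ ≤ MorphismProperty.monomorphisms _) _ this
              simp only [MorphismProperty.pushouts_le_iff, MorphismProperty.coproducts_le_iff]
              exact acyclicGenMonos_le G }
        have (j j' : κ.ord.ToType) (φ : j ⟶ j') : Mono (hf'.F.map φ) := hf'.mem_map φ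
        apply IsGrothendieckAbelian.preservesColimit_coyoneda_obj_of_mono (Y := hf'.F) (κ := κ)
        obtain ⟨S⟩ := hi
        exact Subobject.hasCardinalLT_of_mono hκ S.1.arrow }⟩

variable {G}

lemma isZero_homology_of_acyclic {K : CochainComplex A ℤ} (hK : K.Acyclic) (n : ℤ) :
    IsZero (K.homology n) :=
  (HomologicalComplex.exactAt_iff_isZero_homology _ _).1 (hK n)

lemma acyclic_X₃ {S : ShortComplex (CochainComplex A ℤ)} (hS : S.ShortExact) (h₁ : S.X₁.Acyclic)
    (h₂ : S.X₂.Acyclic) : S.X₃.Acyclic := fun k => by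
  rw [HomologicalComplex.exactAt_iff_isZero_homology]
  exact (hS.homology_exact₃ k (k + 1) rfl).isZero_X₂
    ((isZero_homology_of_acyclic h₂ k).eq_of_src _ _)
    ((isZero_homology_of_acyclic h₁ (k + 1)).eq_of_tgt _ _)

lemma acyclic_of_iso {K L : CochainComplex A ℤ} (e : K ≅ L) (h : K.Acyclic) : L.Acyclic :=
  fun n => (h n).of_iso e

variable (hG : IsSeparator G)

include hG in
lemma exists_larger {Y : CochainComplex A ℤ} (X : Subobject Y) (hX : AcCoker X) (hX' : X ≠ ⊤) :
    ∃ (X' : Subobject Y) (h : X < X'), AcCoker X' ∧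
      (acyclicGenMonos G).pushouts (Subobject.ofLE X X' h.le) := by
  let p := X.arrow
  let q := cokernel.π p
  have hQ' : ¬ IsZero (cokernel p) := fun h => hX' (by
    haveI : Epi p := Preadditive.epi_of_isZero_cokernel _ h
    haveI : IsIso p := isIso_of_mono_of_epi _
    exact Subobject.eq_top_of_isIso_arrow X)
  obtain ⟨S, ι, f, e, hι, he, hS, hef, hne⟩ := Closure.exists_acyclic_image G hG q hX hQ'
  let P := pullback p f
  let s : P ⟶ Closure.bigGen G := pullback.snd p f
  have hse : s ≫ e = 0 := by
    rw [← cancel_mono ι, zero_comp, Category.assoc, hef, ← Category.assoc, ← pullback.condition,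
      Category.assoc, cokernel.condition, comp_zero]
  have hker : (ShortComplex.mk s e hse).ShortExact := by
    haveI : Mono (ShortComplex.mk s e hse).f := inferInstanceAs (Mono s)
    haveI : Epi (ShortComplex.mk s e hse).g := he
    refine ⟨ShortComplex.exact_of_f_is_kernel _ ?_⟩
    refine KernelFork.IsLimit.ofι' _ _ fun {W} k hk => ?_
    have h0 : (k ≫ f) ≫ q = 0 := by
      rw [Category.assoc, ← hef]
      exact (Category.assoc _ _ _).symm.trans ((congrArg (· ≫ ι) hk).trans zero_comp)
    haveI : Mono (ShortComplex.mk p q (cokernel.condition p)).f := inferInstanceAs (Mono p)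
    exact ⟨pullback.lift
      ((ShortComplex.exact_cokernel p).lift (k ≫ f) h0) k
      ((ShortComplex.exact_cokernel p).lift_f (k ≫ f) h0), pullback.lift_snd _ _ _⟩
  let p' : pushout (pullback.fst p f) s ⟶ Y := pushout.desc p f pullback.condition
  haveI : Mono p' := (IsPushout.of_hasPushout _ _).mono_of_isPullback_of_mono
    (IsPullback.of_hasPullback p f) _ (pushout.inl_desc _ _ _) (pushout.inr_desc _ _ _)
  have hac : AcCoker (Subobject.mk p') := by
    let W := cokernel ι
    let π : Y ⟶ W := q ≫ cokernel.π ι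
    have hp'π : p' ≫ π = 0 := by
      apply pushout.hom_ext
      · rw [comp_zero, pushout.inl_desc_assoc]
        simp [π, q]
      · have h0 : e ≫ ι ≫ cokernel.π ι = 0 := by rw [cokernel.condition, comp_zero]
        rw [comp_zero, pushout.inr_desc_assoc]
        simp only [π]
        rw [← reassoc_of% hef, h0]
    have hcok : IsColimit (CokernelCofork.ofπ π hp'π) :=
      CokernelCofork.IsColimit.ofπ' _ _ fun {Z} k hk => by
        have h1 : p ≫ k = 0 := by
          rw [← pushout.inl_desc p f pullback.condition, Category.assoc, hk, comp_zero]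
        have h2 : ι ≫ cokernel.desc p k h1 = 0 := by
          rw [← cancel_epi e, comp_zero, reassoc_of% hef]
          show f ≫ cokernel.π p ≫ _ = 0
          rw [cokernel.π_desc, ← pushout.inr_desc p f pullback.condition, Category.assoc, hk,
            comp_zero]
        exact ⟨cokernel.desc ι (cokernel.desc p k h1) h2, by simp [π, q]⟩
    have hW : W.Acyclic := acyclic_X₃
      (S := ShortComplex.mk ι (cokernel.π ι) (cokernel.condition ι))
      { exact := ShortComplex.exact_cokernel ι } hS hX
    refine acyclic_of_iso ?_ hW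
    let i1 := IsColimit.coconePointUniqueUpToIso hcok (cokernelIsCokernel p')
    exact i1 ≪≫ (cokernelEpiComp (Subobject.underlyingIso p').hom p').symm ≪≫
      cokernelIsoOfEq (Subobject.underlyingIso_hom_comp_eq_mk p')
  have hnot : ¬ IsIso (pushout.inl (pullback.fst p f) s) := fun hi => hne (by
    haveI := hi
    have hf : f = (pushout.inr _ _ ≫ inv (pushout.inl (pullback.fst p f) s)) ≫ p :=
      calc f = pushout.inr (pullback.fst p f) s ≫ p' := (pushout.inr_desc _ _ _).symm
        _ = _ := by
          rw [Category.assoc]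
          refine congrArg (pushout.inr (pullback.fst p f) s ≫ ·) ?_
          rw [IsIso.eq_inv_comp]
          exact pushout.inl_desc _ _ _
    have h0 : p ≫ q = 0 := cokernel.condition p
    rw [hf, Category.assoc, h0, comp_zero])
  have hlt : X < Subobject.mk p' := by
    have := Subobject.mk_lt_mk_of_comm (i₁ := p) (i₂ := p') (pushout.inl _ _)
      (pushout.inl_desc _ _ _) hnot
    rwa [Subobject.mk_arrow] at this
  refine ⟨Subobject.mk p', hlt, hac, ?_⟩
  have hmem : (acyclicGenMonos G).pushouts (pushout.inl (pullback.fst p f) s) := by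
    have hX2 : AcCoker (Subobject.mk s) := by
      refine acyclic_of_iso ?_ hS
      let i2 := IsColimit.coconePointUniqueUpToIso hker.gIsCokernel (cokernelIsCokernel s)
      exact i2 ≪≫ (cokernelEpiComp (Subobject.underlyingIso s).hom s).symm ≪≫
        cokernelIsoOfEq (Subobject.underlyingIso_hom_comp_eq_mk s)
    have hgen : acyclicGenMonos G (Subobject.mk s).arrow :=
      MorphismProperty.ofHoms.mk
        (⟨Subobject.mk s, hX2⟩ : {X : Subobject (Closure.bigGen G) // AcCoker X})
    have hpo : IsPushout ((Subobject.underlyingIso s).hom ≫ pullback.fst p f)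
        (Subobject.mk s).arrow (pushout.inl (pullback.fst p f) s) (pushout.inr _ _) :=
      (IsPushout.of_hasPushout (pullback.fst p f) s).of_iso
        (Subobject.underlyingIso s).symm (Iso.refl _) (Iso.refl _) (Iso.refl _)
        (by simp) (by simp) (by simp) (by simp)
    exact ⟨_, _, _, _, _, hgen, hpo⟩
  refine (MorphismProperty.arrow_mk_iso_iff _ ?_).1 hmem
  refine Arrow.isoMk (Iso.refl _) (Subobject.underlyingIso p').symm ?_
  rw [← cancel_mono (Subobject.mk p').arrow]
  simp [p', p]
  exact (pushout.inl_desc _ _ _).symm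

open Classical in
/-- The successor step of the filtration. -/
noncomputable def larger {Y : CochainComplex A ℤ} (X : Subobject Y) : Subobject Y :=
  if h : AcCoker X ∧ X ≠ ⊤ then (exists_larger hG X h.1 h.2).choose else ⊤

lemma larger_top (Y : CochainComplex A ℤ) : larger hG (⊤ : Subobject Y) = ⊤ :=
  dif_neg (by simp)

lemma lt_larger {Y : CochainComplex A ℤ} (X : Subobject Y) (hX : X ≠ ⊤) : X < larger hG X := by
  by_cases h : AcCoker X
  · rw [larger, dif_pos ⟨h, hX⟩]
    exact (exists_larger hG X h hX).choose_spec.choose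
  · rw [larger, dif_neg (fun h' => h h'.1)]
    exact lt_top_iff_ne_top.2 hX

lemma le_larger {Y : CochainComplex A ℤ} (X : Subobject Y) : X ≤ larger hG X := by
  by_cases hX : X = ⊤
  · subst hX; rw [larger_top]
  · exact (lt_larger hG X hX).le

lemma acCoker_of_isIso {Y : CochainComplex A ℤ} (X : Subobject Y) [IsIso X.arrow] : AcCoker X :=
  fun n => ShortComplex.exact_of_isZero_X₂ _
    ((HomologicalComplex.eval A (ComplexShape.up ℤ) n).map_isZero (isZero_cokernel_of_epi X.arrow))

lemma acCoker_larger {Y : CochainComplex A ℤ} (X : Subobject Y) : AcCoker (larger hG X) := by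
  unfold larger
  split_ifs with h
  · exact (exists_larger hG X h.1 h.2).choose_spec.choose_spec.1
  · haveI := (Subobject.isIso_arrow_iff_eq_top (⊤ : Subobject Y)).2 rfl
    exact acCoker_of_isIso _

/-- Acyclicity of a cokernel passes to filtered colimits of subobjects. -/
lemma acyclic_cokernel_of_isColimit {J : Type v} [SmallCategory J] [IsFiltered J]
    {Y : CochainComplex A ℤ} {F : J ⥤ CochainComplex A ℤ} {c : Cocone F} (hc : IsColimit c)
    (f : c.pt ⟶ Y) [Mono f] (h : ∀ j, (cokernel (c.ι.app j ≫ f)).Acyclic) :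
    (cokernel f).Acyclic := by
  haveI : IsConnected J := IsFiltered.isConnected J
  intro n
  let α : F ⟶ (Functor.const J).obj Y := c.ι ≫ (Functor.const J).map f
  let T : ShortComplex (J ⥤ CochainComplex A ℤ) :=
    ShortComplex.mk α (cokernel.π α) (cokernel.condition α)
  let ev := HomologicalComplex.eval A (ComplexShape.up ℤ)
  let R : J ⥤ CochainComplex A ℤ := cokernel α
  -- each stage of the cokernel diagram is acyclic
  have hR : ∀ j, (R.obj j).Acyclic := fun j => by
    refine acyclic_of_iso ?_ (h j)
    exact (PreservesCokernel.iso ((evaluation J (CochainComplex A ℤ)).obj j) α).symm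
  -- the colimit of the cokernels is acyclic
  have hcolim : (colimit R).Acyclic := fun m => by
    let d₁ : ev (m - 1) ⟶ ev m :=
      { app := fun K => K.d (m - 1) m, naturality := fun _ _ g => g.comm (m - 1) m }
    let d₂ : ev m ⟶ ev (m + 1) :=
      { app := fun K => K.d m (m + 1), naturality := fun _ _ g => g.comm m (m + 1) }
    let sc : ShortComplex (J ⥤ A) := ShortComplex.mk
      (Functor.whiskerLeft R d₁) (Functor.whiskerLeft R d₂)
      (by ext j; exact (R.obj j).d_comp_d _ _ _)
    have hsc : sc.Exact := (ShortComplex.exact_iff_isZero_homology _).2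
      (Functor.isZero _ fun j => IsZero.of_iso ((ShortComplex.exact_iff_isZero_homology _).1
        ((HomologicalComplex.exactAt_iff' _ (m - 1) m (m + 1) (by simp) (by simp)).1 (hR j m)))
        (sc.mapHomologyIso ((evaluation J A).obj j)).symm)
    have hsc' : (sc.map colim).Exact := hsc.map colim
    rw [HomologicalComplex.exactAt_iff' _ (m - 1) m (m + 1) (by simp) (by simp)]
    refine (ShortComplex.exact_iff_of_iso (ShortComplex.isoMk
      (preservesColimitIso (ev (m - 1)) R).symm (preservesColimitIso (ev m) R).symm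
      (preservesColimitIso (ev (m + 1)) R).symm ?_ ?_)).1 hsc'
    · refine colimit.hom_ext fun j => ?_
      simp [sc, ev]
      erw [ι_colimMap_assoc, ι_preservesColimitIso_inv_assoc, ι_preservesColimitIso_inv]
      simp [d₁, ev]
      exact (colimit.ι R j).comm _ _
    · refine colimit.hom_ext fun j => ?_
      simp [sc, ev]
      erw [ι_colimMap_assoc, ι_preservesColimitIso_inv_assoc, ι_preservesColimitIso_inv]
      simp [d₂, ev]
      exact (colimit.ι R j).comm _ _
  -- identification with the cokernel of `f`
  let e₁ : colimit F ≅ c.pt := IsColimit.coconePointUniqueUpToIso (colimit.isColimit F) hc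
  let e₂ : colimit ((Functor.const J).obj Y) ≅ Y :=
    IsColimit.coconePointUniqueUpToIso (colimit.isColimit _) (isColimitConstCocone J Y)
  have he : colim.map α ≫ e₂.hom = e₁.hom ≫ f := by
    refine colimit.hom_ext fun j => ?_
    simp [e₁, e₂, α]
    erw [colimit.comp_coconePointUniqueUpToIso_hom]
    exact congrArg (c.ι.app j ≫ ·) (Category.comp_id f)
  exact (acyclic_of_iso
    ((PreservesCokernel.iso (colim : (J ⥤ CochainComplex A ℤ) ⥤ _) α) ≪≫
      cokernel.mapIso _ _ e₁ e₂ he) hcolim) n

variable {Y : CochainComplex A ℤ} (X₀ : Subobject Y) (J : Type v) [LinearOrder J] [OrderBot J]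
  [SuccOrder J] [WellFoundedLT J]

/-- The filtration. -/
noncomputable abbrev filt (j : J) : Subobject Y := transfiniteIterate (larger hG) j X₀

/-- The filtration, as a functor to `MonoOver Y`. -/
@[simps]
noncomputable def filtMonoOver : J ⥤ MonoOver Y where
  obj j := MonoOver.mk (filt hG X₀ J j).arrow
  map {j j'} f := MonoOver.homMk (Subobject.ofLE _ _
      (monotone_transfiniteIterate _ _ (le_larger hG) (leOfHom f)))

/-- The filtration, as a functor. -/
noncomputable abbrev filtFunctor : J ⥤ CochainComplex A ℤ :=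
  filtMonoOver hG X₀ J ⋙ MonoOver.forget _ ⋙ Over.forget _

set_option backward.defeqAttrib.useBackward true in
instance : (filtFunctor hG X₀ J).IsWellOrderContinuous where
  nonempty_isColimit m hm := ⟨by
    have := hm.nonempty_Iio.to_subtype
    let c := (Set.principalSegIio m).cocone (filtMonoOver hG X₀ J ⋙ MonoOver.forget _)
    have : Mono c.pt.hom := by dsimp [c]; infer_instance
    apply IsGrothendieckAbelian.isColimitMapCoconeOfSubobjectMkEqISup
      ((Set.principalSegIio m).monotone.functor ⋙ filtMonoOver hG X₀ J) c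
    dsimp [c]
    simp only [Subobject.mk_arrow]
    exact transfiniteIterate_limit (larger hG) X₀ m hm⟩

set_option backward.defeqAttrib.useBackward true in
lemma acCoker_filt (h₀ : AcCoker X₀) (j : J) : AcCoker (filt hG X₀ J j) := by
  induction j using SuccOrder.limitRecOn with
  | isMin j hj =>
    obtain rfl := hj.eq_bot
    rw [filt, transfiniteIterate_bot]
    exact h₀
  | succ j hj _ =>
    rw [filt, transfiniteIterate_succ _ _ _ hj]
    exact acCoker_larger hG _
  | isSuccLimit m hm ih =>
    have := hm.nonempty_Iio.to_subtype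
    haveI : IsFiltered (Set.Iio m) := inferInstance
    let c := (Set.principalSegIio m).cocone (filtFunctor hG X₀ J)
    have hc : IsColimit c := (filtFunctor hG X₀ J).isColimitOfIsWellOrderContinuous m hm
    let fm : c.pt ⟶ Y := (filt hG X₀ J m).arrow
    haveI : Mono fm := Subobject.arrow_mono _
    refine acyclic_cokernel_of_isColimit hc fm fun x => ?_
    refine acyclic_of_iso (cokernelIsoOfEq ?_) (ih x.1 x.2)
    exact (Subobject.ofLE_arrow _).symm

include hG in
/-- Any monomorphism with acyclic cokernel lifts against `rlp (acyclicGenMonos G)`. -/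
lemma llp_rlp_of_acyclic_cokernel {X : CochainComplex A ℤ} (i : X ⟶ Y) [Mono i]
    (hi : (cokernel i).Acyclic) : (acyclicGenMonos G).rlp.llp i := by
  have h₀ : AcCoker (Subobject.mk i) := acyclic_of_iso
    ((cokernelEpiComp (Subobject.underlyingIso i).hom i).symm ≪≫
      cokernelIsoOfEq (Subobject.underlyingIso_hom_comp_eq_mk i)) hi
  let κ := Order.succ (Cardinal.mk (Shrink.{v} (Subobject Y)))
  let J := κ.ord.ToType
  have : Nonempty J := by simp [J, κ]
  have := WellFoundedLT.toOrderBot J
  obtain ⟨j, hj⟩ : ∃ j : J, filt hG (Subobject.mk i) J j = ⊤ :=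
    top_mem_range_transfiniteIterate (larger hG) _ (lt_larger hG) (larger_top hG Y)
      (fun h => by
        have hJ : HasCardinalLT (Subobject Y) (Cardinal.mk J) :=
          lt_of_lt_of_le (Order.lt_succ _) (by simp [J, κ])
        simpa [hasCardinalLT_iff_cardinal_mk_lt] using hJ.of_injective _ h)
  let Fj := filtFunctor hG (Subobject.mk i) J
  let hcomp : (acyclicGenMonos G).pushouts.TransfiniteCompositionOfShape (Set.Iic j)
      (Fj.map (homOfLE bot_le : ⊥ ⟶ j)) :=
    { F := (Set.initialSegIic j).monotone.functor ⋙ Fj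
      isoBot := Iso.refl _
      fac := Category.id_comp _
      incl :=
        { app k := Fj.map (homOfLE k.2)
          naturality k k' h := by
            simp only [Functor.comp_map, Functor.const_obj_map, ← Fj.map_comp]
            exact (congrArg Fj.map (Subsingleton.elim _ _)).trans (Category.comp_id _).symm }
      isColimit := colimitOfDiagramTerminal isTerminalTop _
      map_mem k hk := by
        have hk' : ¬ IsMax k.1 := Set.not_isMax_coe _ hk
        let Z := filt hG (Subobject.mk i) J k.1
        have hZ : AcCoker Z := acCoker_filt hG _ J h₀ k.1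
        have key : (acyclicGenMonos G).pushouts (Subobject.ofLE Z (larger hG Z) (le_larger hG Z)) := by
          by_cases htop : Z = ⊤
          · have hs : larger hG Z = Z := by rw [htop, larger_top]
            refine (MorphismProperty.arrow_mk_iso_iff _
              (Arrow.isoMk (Iso.refl (Z : CochainComplex A ℤ)) (Subobject.isoOfEq _ _ hs.symm)
                ?_)).1 (?_ : (acyclicGenMonos G).pushouts (𝟙 (Z : CochainComplex A ℤ)))
            · simp [Subobject.isoOfEq]
            · haveI := (Subobject.isIso_arrow_iff_eq_top (⊤ : Subobject (Closure.bigGen G))).2 rfl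
              have hgen : acyclicGenMonos G (⊤ : Subobject (Closure.bigGen G)).arrow :=
                MorphismProperty.ofHoms.mk
                  (⟨⊤, acCoker_of_isIso _⟩ : {X : Subobject (Closure.bigGen G) // AcCoker X})
              exact MorphismProperty.isomorphisms_le_pushouts _
                (fun _ ↦ ⟨_, _, _, hgen, 0, inferInstance⟩) _
                (MorphismProperty.isomorphisms.infer_property _)
          · refine (MorphismProperty.arrow_mk_iso_iff _ ?_).1
              (exists_larger hG Z hZ htop).choose_spec.choose_spec.2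
            exact Arrow.isoMk (Iso.refl _)
              (Subobject.isoOfEq _ _ (by rw [larger, dif_pos ⟨hZ, htop⟩])) (by simp [Subobject.isoOfEq])
        dsimp [Fj, MonoOver.forget]
        have key' : ∀ (W : Subobject Y) (_ : W = larger hG Z) (hle : Z ≤ W),
            (acyclicGenMonos G).pushouts (Subobject.ofLE Z W hle) := by
          rintro W rfl hle
          exact key
        refine key' _ ?_ _
        rw [Set.Iic.succ_eq_of_not_isMax hk]
        exact transfiniteIterate_succ _ _ _ hk' }
  have hmem := MorphismProperty.transfiniteCompositionsOfShape_le_llp_rlp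
    (acyclicGenMonos G).pushouts _ _ (MorphismProperty.TransfiniteCompositionOfShape.mem _ hcomp)
  rw [show (acyclicGenMonos G).pushouts.rlp = (acyclicGenMonos G).rlp by simp] at hmem
  refine (MorphismProperty.arrow_mk_iso_iff _ ?_).1 hmem
  have hiso := (Subobject.isIso_arrow_iff_eq_top (filt hG (Subobject.mk i) J j)).2 hj
  refine Arrow.isoMk ((Subobject.isoOfEq _ _ (transfiniteIterate_bot _ _) ≪≫
    Subobject.underlyingIso i)) (@asIso _ _ _ _ (filt hG (Subobject.mk i) J j).arrow hiso) ?_
  show (Subobject.ofLE _ (Subobject.mk i) _ ≫ (Subobject.underlyingIso i).hom) ≫ i =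
    Subobject.ofLE _ (filt hG (Subobject.mk i) J j) _ ≫ (filt hG (Subobject.mk i) J j).arrow
  rw [Category.assoc, Subobject.underlyingIso_hom_comp_eq_mk, Subobject.ofLE_arrow,
    Subobject.ofLE_arrow]

section Double

variable (E : A) (m : ℤ)

/-- The disk complex on `E` in degrees `m`, `m + 1`. -/
noncomputable abbrev disk : CochainComplex A ℤ :=
  HomologicalComplex.double (𝟙 E) (Closure.rel_succ m)

omit [IsGrothendieckAbelian.{v} A] in
lemma ne_succ : m ≠ m + 1 := by omega

/-- Morphisms into a disk. -/
noncomputable def toDisk {K : CochainComplex A ℤ} (φ : K.X (m + 1) ⟶ E) : K ⟶ disk E m where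
  f k :=
    if hk₀ : k = m then
      eqToHom (by rw [hk₀]) ≫ K.d m (m + 1) ≫ φ ≫
        (HomologicalComplex.doubleXIso₀ (𝟙 E) (Closure.rel_succ m)).inv ≫ eqToHom (by rw [hk₀])
    else if hk₁ : k = m + 1 then
      eqToHom (by rw [hk₁]) ≫ φ ≫
        (HomologicalComplex.doubleXIso₁ (𝟙 E) (Closure.rel_succ m) (ne_succ m)).inv ≫
          eqToHom (by rw [hk₁])
    else 0
  comm' k₀ k₁ hk := by
    change k₀ + 1 = k₁ at hk
    by_cases h₀ : k₀ = m
    · subst h₀
      subst hk
      rw [dif_pos rfl, dif_neg (by omega), dif_pos rfl]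
      simp [HomologicalComplex.double_d (𝟙 E) (Closure.rel_succ k₀) (ne_succ k₀)]
    · rw [HomologicalComplex.double_d_eq_zero₀ _ _ _ _ h₀, comp_zero]
      by_cases h₁ : k₁ = m
      · subst h₁
        rw [dif_pos rfl]
        simp
      · exact (HomologicalComplex.isZero_double_X _ _ k₁ h₁ (by omega)).eq_of_tgt _ _

omit [IsGrothendieckAbelian.{v} A] in
lemma toDisk_f₁ {K : CochainComplex A ℤ} (φ : K.X (m + 1) ⟶ E) :
    (toDisk E m φ).f (m + 1) =
      φ ≫ (HomologicalComplex.doubleXIso₁ (𝟙 E) (Closure.rel_succ m) (ne_succ m)).inv := by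
  dsimp only [toDisk]
  rw [dif_neg (ne_succ m).symm, dif_pos rfl]
  simp

omit [IsGrothendieckAbelian.{v} A] in
lemma toDisk_f₀ {K : CochainComplex A ℤ} (φ : K.X (m + 1) ⟶ E) :
    (toDisk E m φ).f m = K.d m (m + 1) ≫ φ ≫
      (HomologicalComplex.doubleXIso₀ (𝟙 E) (Closure.rel_succ m)).inv := by
  dsimp only [toDisk]
  rw [dif_pos rfl]
  simp

omit [IsGrothendieckAbelian.{v} A] in
lemma disk_comm {K : CochainComplex A ℤ} (a : K ⟶ disk E m) :
    a.f m = K.d m (m + 1) ≫ a.f (m + 1) ≫
      (HomologicalComplex.doubleXIso₁ (𝟙 E) (Closure.rel_succ m) (ne_succ m)).hom ≫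
        (HomologicalComplex.doubleXIso₀ (𝟙 E) (Closure.rel_succ m)).inv := by
  have h := a.comm m (m + 1)
  rw [HomologicalComplex.double_d (𝟙 E) (Closure.rel_succ m) (ne_succ m)] at h
  rw [← reassoc_of% h]
  simp

/-- The projection from a disk to its bottom degree. -/
noncomputable def diskProj : disk E m ⟶ (HomologicalComplex.single A (ComplexShape.up ℤ) m).obj E :=
  HomologicalComplex.mkHomToSingle
    (HomologicalComplex.doubleXIso₀ (𝟙 E) (Closure.rel_succ m)).hom (fun i hi => by
      change i + 1 = m at hi
      rw [HomologicalComplex.double_d_eq_zero₀ _ _ _ _ (by omega), zero_comp])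

variable [Injective E]

omit [IsGrothendieckAbelian.{v} A] in
lemma hasLiftingProperty_disk {X Y : CochainComplex A ℤ} (j : X ⟶ Y) [Mono j] {Z : CochainComplex A ℤ}
    (hZ : IsZero Z) (g : disk E m ⟶ Z) : HasLiftingProperty j g where
  sq_hasLift {f₁ f₂} sq := ⟨⟨{
    l := toDisk E m (haveI : Mono (j.f (m + 1)) :=
          (HomologicalComplex.eval A (ComplexShape.up ℤ) (m + 1)).map_mono j
        Injective.factorThru (f₁.f (m + 1) ≫
          (HomologicalComplex.doubleXIso₁ (𝟙 E) (Closure.rel_succ m) (ne_succ m)).hom) (j.f (m + 1)))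
    fac_left := by
      haveI : Mono (j.f (m + 1)) :=
        (HomologicalComplex.eval A (ComplexShape.up ℤ) (m + 1)).map_mono j
      apply HomologicalComplex.to_double_hom_ext
      · rw [HomologicalComplex.comp_f, toDisk_f₀, disk_comm E m f₁,
          HomologicalComplex.Hom.comm_assoc]
        erw [Injective.comp_factorThru_assoc]
        simp
      · rw [HomologicalComplex.comp_f, toDisk_f₁]
        erw [Injective.comp_factorThru_assoc]
        simp
    fac_right := hZ.eq_of_tgt _ _ }⟩⟩

lemma hasLiftingProperty_diskProj {X Y : CochainComplex A ℤ} (j : X ⟶ Y) [Mono j]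
    (hj : (cokernel j).Acyclic) : HasLiftingProperty j (diskProj E m) where
  sq_hasLift {f₁ f₂} sq := by
    haveI hjm : ∀ n, Mono (j.f n) := fun n =>
      (HomologicalComplex.eval A (ComplexShape.up ℤ) n).map_mono j
    haveI hπe : ∀ n, Epi ((cokernel.π j).f n) := fun n =>
      (HomologicalComplex.eval A (ComplexShape.up ℤ) n).map_epi (cokernel.π j)
    let u₁ := HomologicalComplex.doubleXIso₁ (𝟙 E) (Closure.rel_succ m) (ne_succ m)
    let u₀ := HomologicalComplex.doubleXIso₀ (𝟙 E) (Closure.rel_succ m)
    let u := HomologicalComplex.singleObjXSelf (ComplexShape.up ℤ) m E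
    let ψ : Y.X (m + 1) ⟶ E := Injective.factorThru (f₁.f (m + 1) ≫ u₁.hom) (j.f (m + 1))
    have hψ : j.f (m + 1) ≫ ψ = f₁.f (m + 1) ≫ u₁.hom := Injective.comp_factorThru _ _
    have hsq : f₁.f m ≫ u₀.hom = j.f m ≫ f₂.f m ≫ u.hom := by
      have h := congrArg (fun x => HomologicalComplex.Hom.f x m ≫ u.hom) sq.w
      simpa [diskProj, u, u₀] using h
    let b : Y.X m ⟶ E := f₂.f m ≫ u.hom - Y.d m (m + 1) ≫ ψ
    have hb : j.f m ≫ b = 0 := by
      rw [Preadditive.comp_sub, sub_eq_zero, ← hsq, HomologicalComplex.Hom.comm_assoc, hψ,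
        disk_comm E m f₁]
      simp [u₀, u₁]
    let T := (ShortComplex.mk j (cokernel.π j) (cokernel.condition j)).map
      (HomologicalComplex.eval A (ComplexShape.up ℤ) m)
    have hT : T.Exact := (ShortComplex.exact_cokernel j).map _
    haveI : Epi T.g := hπe m
    let β : (cokernel j).X m ⟶ E := hT.desc b hb
    have hβ : (cokernel.π j).f m ≫ β = b := hT.g_desc _ _
    obtain ⟨n, rfl⟩ : ∃ n, m = n + 1 := ⟨m - 1, by omega⟩
    have hd : (cokernel j).d n (n + 1) ≫ β = 0 := by
      rw [← cancel_epi ((cokernel.π j).f n), comp_zero, HomologicalComplex.Hom.comm_assoc, hβ,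
        Preadditive.comp_sub, HomologicalComplex.d_comp_d_assoc, zero_comp, sub_zero,
        ← HomologicalComplex.Hom.comm_assoc,
        HomologicalComplex.single_obj_d, zero_comp, comp_zero]
    have hex := (HomologicalComplex.exactAt_iff' (cokernel j) n (n + 1) (n + 1 + 1) (by simp)
      (by simp)).1 (hj (n + 1))
    let γ : (cokernel j).X (n + 1 + 1) ⟶ E := hex.descToInjective β hd
    have hγ : (cokernel j).d (n + 1) (n + 1 + 1) ≫ γ = β := hex.comp_descToInjective _ _
    have hjπ : ∀ k, j.f k ≫ (cokernel.π j).f k = 0 := fun k => by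
      rw [← HomologicalComplex.comp_f, cokernel.condition, HomologicalComplex.zero_f]
    refine ⟨⟨{ l := toDisk E (n + 1) (ψ + (cokernel.π j).f (n + 1 + 1) ≫ γ)
               fac_left := ?_, fac_right := ?_ }⟩⟩
    · apply HomologicalComplex.to_double_hom_ext
      · rw [HomologicalComplex.comp_f, toDisk_f₀, disk_comm E (n + 1) f₁,
          HomologicalComplex.Hom.comm_assoc]
        simp [reassoc_of% hψ, reassoc_of% (hjπ (n + 1 + 1)), u₁]
      · rw [HomologicalComplex.comp_f, toDisk_f₁]
        simp [reassoc_of% hψ, reassoc_of% (hjπ (n + 1 + 1)), u₁]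
    · apply HomologicalComplex.to_single_hom_ext
      simp only [HomologicalComplex.comp_f, diskProj, HomologicalComplex.mkHomToSingle_f,
        toDisk_f₀]
      rw [← cancel_mono u.hom]
      simp [u]
      rw [← HomologicalComplex.Hom.comm_assoc, hγ, hβ]
      simp [b, u]

end Double

/-- Properties of a factorisation of `M ⟶ 0`. -/
theorem resolution_props {G : A} (hG : IsSeparator G) {M Z : CochainComplex A ℤ} (i₀ : M ⟶ Z)
    (hi₀ : (acyclicGenMonos G).rlp.llp i₀) (p₀ : Z ⟶ (0 : CochainComplex A ℤ))
    (hp₀ : (acyclicGenMonos G).rlp p₀) :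
    Z.IsKInjective ∧ QuasiIso i₀ ∧ (∀ n, Mono (i₀.f n)) ∧ ∀ n, Injective (Z.X n) := by
  let W := acyclicGenMonos G
  have hzero : IsZero (0 : CochainComplex A ℤ) := isZero_zero _
  have hW : ∀ {X Y : CochainComplex A ℤ} (j : X ⟶ Y), W j → Mono j ∧ (cokernel j).Acyclic := by
    rintro _ _ _ ⟨S⟩
    exact ⟨inferInstance, S.2⟩
  have hext : HasAcyclicExtension Z := by
    intro S hS h3 φ
    haveI := hS.mono_f
    let i3 := IsColimit.coconePointUniqueUpToIso hS.gIsCokernel (cokernelIsCokernel S.f)
    have hc : (cokernel S.f).Acyclic := acyclic_of_iso i3 h3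
    haveI : HasLiftingProperty S.f p₀ := llp_rlp_of_acyclic_cokernel hG S.f hc p₀ hp₀
    have sq : CommSq φ S.f p₀ (0 : S.X₂ ⟶ 0) := ⟨hzero.eq_of_tgt _ _⟩
    exact ⟨sq.lift, sq.fac_left⟩
  obtain ⟨hK, hinj⟩ := (isKInjective_and_injective_iff Z).2 hext
  have hmono : ∀ n, Mono (i₀.f n) := by
    intro n
    obtain ⟨m, rfl⟩ : ∃ m, n = m + 1 := ⟨n - 1, by omega⟩
    let E := Injective.under (M.X (m + 1))
    have hr : W.rlp (0 : disk E m ⟶ 0) := fun _ _ j hj => by
      haveI := (hW j hj).1
      exact hasLiftingProperty_disk E m j hzero _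
    haveI : HasLiftingProperty i₀ (0 : disk E m ⟶ 0) := hi₀ _ hr
    have sq : CommSq (toDisk E m (Injective.ι (M.X (m + 1)))) i₀ (0 : disk E m ⟶ 0)
        (0 : Z ⟶ 0) := ⟨hzero.eq_of_tgt _ _⟩
    have h := congrArg (fun x => HomologicalComplex.Hom.f x (m + 1)) sq.fac_left
    simp only [HomologicalComplex.comp_f, toDisk_f₁] at h
    exact mono_of_mono_fac h
  haveI : Mono i₀ := HomologicalComplex.mono_of_mono_f _ hmono
  refine ⟨hK, ?_, hmono, hinj⟩
  have hQ : (cokernel i₀).Acyclic := by
    intro k
    obtain ⟨n, rfl⟩ : ∃ n, k = n + 1 := ⟨k - 1, by omega⟩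
    rw [HomologicalComplex.exactAt_iff' _ n (n + 1) (n + 1 + 1) (by simp) (by simp),
      ShortComplex.exact_iff_mono_fromOpcycles]
    let T := (cokernel i₀).sc' n (n + 1) (n + 1 + 1)
    let E := Injective.under T.opcycles
    let β : (cokernel i₀).X (n + 1) ⟶ E := T.pOpcycles ≫ Injective.ι _
    have hd : (cokernel i₀).d n (n + 1) ≫ β = 0 :=
      (T.f_pOpcycles_assoc _).trans zero_comp
    have hr : W.rlp (diskProj E (n + 1)) := fun _ _ j hj => by
      haveI := (hW j hj).1
      exact hasLiftingProperty_diskProj E (n + 1) j (hW j hj).2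
    haveI : HasLiftingProperty i₀ (diskProj E (n + 1)) := hi₀ _ hr
    let c : Z ⟶ (HomologicalComplex.single A (ComplexShape.up ℤ) (n + 1)).obj E :=
      cokernel.π i₀ ≫ HomologicalComplex.mkHomToSingle β (fun i hi => by
        change i + 1 = n + 1 at hi
        obtain rfl : i = n := by omega
        exact hd)
    have sq : CommSq (0 : M ⟶ disk E (n + 1)) i₀ (diskProj E (n + 1)) c :=
      ⟨by simp [c]⟩
    let u₁ := HomologicalComplex.doubleXIso₁ (𝟙 E) (Closure.rel_succ (n + 1)) (ne_succ (n + 1))
    let l' : cokernel i₀ ⟶ disk E (n + 1) := cokernel.desc i₀ sq.lift sq.fac_left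
    have h1 : l' ≫ diskProj E (n + 1) = HomologicalComplex.mkHomToSingle β (fun i hi => by
        change i + 1 = n + 1 at hi
        obtain rfl : i = n := by omega
        exact hd) := by
      rw [← cancel_epi (cokernel.π i₀), cokernel.π_desc_assoc]
      exact sq.fac_right
    have h2 : T.pOpcycles ≫ Injective.ι _ =
        T.pOpcycles ≫ T.fromOpcycles ≫ l'.f (n + 1 + 1) ≫ u₁.hom := by
      rw [ShortComplex.p_fromOpcycles_assoc]
      have h := congrArg (fun x => HomologicalComplex.Hom.f x (n + 1) ≫
        (HomologicalComplex.singleObjXSelf (ComplexShape.up ℤ) (n + 1) E).hom) h1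
      simp [diskProj] at h
      show β = (cokernel i₀).d (n + 1) (n + 1 + 1) ≫ l'.f (n + 1 + 1) ≫ u₁.hom
      rw [← h, disk_comm E (n + 1) l']
      simp [u₁]
    exact mono_of_mono_fac ((cancel_epi T.pOpcycles).1 h2).symm
  let S := ShortComplex.mk i₀ (cokernel.π i₀) (cokernel.condition i₀)
  have hS : S.ShortExact := { exact := ShortComplex.exact_cokernel i₀ }
  rw [quasiIso_iff]
  intro k
  rw [quasiIsoAt_iff_isIso_homologyMap]
  haveI : Mono (HomologicalComplex.homologyMap i₀ k) :=
    (hS.homology_exact₁ (k - 1) k (by simp)).mono_g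
      ((isZero_homology_of_acyclic hQ (k - 1)).eq_of_src _ _)
  haveI : Epi (HomologicalComplex.homologyMap i₀ k) :=
    (hS.homology_exact₂ k).epi_f ((isZero_homology_of_acyclic hQ k).eq_of_tgt _ _)
  exact isIso_of_mono_of_epi _

/-- The main theorem: existence of K-injective resolutions. -/
theorem exists_kInjective_resolution (M : CochainComplex A ℤ) :
    ∃ (I : CochainComplex A ℤ) (f : M ⟶ I), I.IsKInjective ∧ QuasiIso f ∧ (∀ n, Mono (f.f n)) ∧
      ∀ n, Injective (I.X n) :=
  let F := MorphismProperty.factorizationData (acyclicGenMonos (separator A)).rlp.llp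
    (acyclicGenMonos (separator A)).rlp (0 : M ⟶ 0)
  ⟨F.Z, F.i, resolution_props (isSeparator_separator A) F.i F.hi F.p F.hp⟩

end Groth.Agent.TriH
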