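import Mathlib.Algebra.Homology.DerivedCategory.Ext.ExactSequences
import Mathlib.Algebra.Homology.DerivedCategory.Ext.Map
import Mathlib.Algebra.Homology.DerivedCategory.Fractions

/-!
# Ext classes of positive degree are killed by an epimorphism onto the source; comparison of Ext
-/

set_option autoImplicit false

open CategoryTheory CategoryTheory.Limits CategoryTheory.Abelian

namespace Groth.Agent.TriH

universe w w' v v' u u'

variable {A : Type u} [Category.{v} A] [Abelian A]

lemma exists_epi_comp_eq_zero_derived [HasDerivedCategory.{w} A] {B C : A} {m : ℤ} (hm : m ≠ 0)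
    (f : DerivedCategory.Q.obj ((HomologicalComplex.single A (ComplexShape.up ℤ) 0).obj B) ⟶
      DerivedCategory.Q.obj ((HomologicalComplex.single A (ComplexShape.up ℤ) m).obj C)) :
    ∃ (E : A) (p : E ⟶ B), Epi p ∧
      DerivedCategory.Q.map ((HomologicalComplex.single A (ComplexShape.up ℤ) 0).map p) ≫ f = 0 := by
  haveI : CochainComplex.IsStrictlyLE ((HomologicalComplex.single A (ComplexShape.up ℤ) 0).obj B) 0 :=
    inferInstanceAs (((CochainComplex.singleFunctor A 0).obj B).IsStrictlyLE 0)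
  obtain ⟨X', hX', s, hs, g, rfl⟩ := DerivedCategory.right_fac_of_isStrictlyLE f 0
  haveI : QuasiIso s := (DerivedCategory.isIso_Q_map_iff_quasiIso (C := A) (φ := s)).1 hs
  let K := (HomologicalComplex.single A (ComplexShape.up ℤ) 0).obj B
  have hd : X'.d 0 (0 + 1) = 0 := (X'.isZero_of_isStrictlyLE 0 (0 + 1) (by omega)).eq_of_tgt _ _
  haveI : IsIso (K.iCycles 0) :=
    K.isIso_iCycles 0 (0 + 1) (by simp) (HomologicalComplex.single_obj_d _ _ _ _ _)
  haveI : IsIso (X'.iCycles 0) := X'.isIso_iCycles 0 (0 + 1) (by simp) hd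
  haveI : IsIso (K.homologyπ 0) :=
    K.isIso_homologyπ (0 - 1) 0 (by simp) (HomologicalComplex.single_obj_d _ _ _ _ _)
  haveI : IsIso (HomologicalComplex.homologyMap s 0) :=
    (quasiIsoAt_iff_isIso_homologyMap s 0).1 inferInstance
  have hc : HomologicalComplex.cyclesMap s 0 =
      X'.homologyπ 0 ≫ HomologicalComplex.homologyMap s 0 ≫ inv (K.homologyπ 0) := by
    rw [HomologicalComplex.homologyπ_naturality_assoc, IsIso.hom_inv_id, Category.comp_id]
  have hepi : Epi (s.f 0) := by
    have : s.f 0 = inv (X'.iCycles 0) ≫ HomologicalComplex.cyclesMap s 0 ≫ K.iCycles 0 := by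
      rw [IsIso.eq_inv_comp]
      exact (HomologicalComplex.cyclesMap_i s 0).symm
    rw [this, hc]
    infer_instance
  let σ := HomologicalComplex.singleObjXSelf (ComplexShape.up ℤ) 0 B
  let j : (HomologicalComplex.single A (ComplexShape.up ℤ) 0).obj (X'.X 0) ⟶ X' :=
    HomologicalComplex.mkHomFromSingle (𝟙 _) (fun i hi => by
      change 0 + 1 = i at hi
      exact (X'.isZero_of_isStrictlyLE 0 i (by omega)).eq_of_tgt _ _)
  have hj : j ≫ s = (HomologicalComplex.single A (ComplexShape.up ℤ) 0).map (s.f 0 ≫ σ.hom) := by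
    apply HomologicalComplex.from_single_hom_ext
    rw [← cancel_epi (HomologicalComplex.singleObjXSelf (ComplexShape.up ℤ) 0 (X'.X 0)).inv]
    simp [j, σ, HomologicalComplex.single_map_f_self]
  refine ⟨X'.X 0, s.f 0 ≫ σ.hom, epi_comp _ _, ?_⟩
  have hjg : j ≫ g = 0 := HomologicalComplex.from_single_hom_ext
    ((HomologicalComplex.isZero_single_obj_X (ComplexShape.up ℤ) m C 0 hm.symm).eq_of_tgt _ _)
  rw [← hj, Functor.map_comp, Category.assoc, IsIso.hom_inv_id_assoc, ← Functor.map_comp, hjg,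
    Functor.map_zero]

lemma exists_epi_comp_eq_zero [HasExt.{w} A] {B C : A} {n : ℕ} (x : Ext.{w} B C (n + 1)) :
    ∃ (E : A) (p : E ⟶ B), Epi p ∧ (Ext.mk₀ p).comp x (zero_add _) = 0 := by
  letI := HasDerivedCategory.standard A
  let m : ℤ := -((n + 1 : ℕ) : ℤ)
  let e := (DerivedCategory.singleFunctors A).shiftIso ((n + 1 : ℕ) : ℤ) m 0 (by omega)
  obtain ⟨E, p, hp, h⟩ := exists_epi_comp_eq_zero_derived (B := B) (C := C) (m := m) (by omega)
    (x.hom ≫ e.hom.app C)
  refine ⟨E, p, hp, Ext.ext ?_⟩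
  rw [Ext.comp_hom, Ext.mk₀_hom, Ext.zero_hom, ShiftedHom.mk₀_comp]
  rw [← cancel_mono (e.hom.app C), zero_comp]
  exact (Category.assoc _ _ _).trans h

variable {B : Type u'} [Category.{v'} B] [Abelian B] [HasExt.{w} A] [HasExt.{w'} B]
  (φ : A ⥤ B) [φ.Additive] [PreservesFiniteLimits φ] [PreservesFiniteColimits φ]

theorem bijective_iff_effaceable (M : A) :
    (∀ (L : A) (n : ℕ), Function.Bijective (fun f : Ext.{w} L M n => Ext.mapExactFunctor φ f)) ↔
      ((∀ L : A, Function.Bijective (fun f : L ⟶ M => φ.map f)) ∧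
        ∀ (L : A) (n : ℕ), 1 ≤ n → ∀ x : Ext.{w'} (φ.obj L) (φ.obj M) n,
          ∃ (L' : A) (p : L' ⟶ L), Epi p ∧ (Ext.mk₀ (φ.map p)).comp x (zero_add n) = 0) := by
  constructor
  · intro h
    refine ⟨fun L => ?_, fun L n hn x => ?_⟩
    · have h0 := h L 0
      rw [Ext.mapExactFunctor₀] at h0
      exact (Ext.homEquiv₀.symm.comp_bijective _).1 ((Ext.homEquiv₀.bijective_comp _).1 h0)
    · obtain ⟨n, rfl⟩ : ∃ m, n = m + 1 := ⟨n - 1, by omega⟩
      obtain ⟨y, rfl⟩ := (h L (n + 1)).2 x
      obtain ⟨L', p, hp, hy⟩ := exists_epi_comp_eq_zero y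
      refine ⟨L', p, hp, ?_⟩
      have := congrArg (Ext.mapExactFunctor φ) hy
      simpa [Ext.mapExactFunctor_comp, Ext.mapExactFunctor_mk₀] using this
  · rintro ⟨h0, h1⟩ L n
    induction n generalizing L with
    | zero =>
      rw [show (fun f : Ext.{w} L M 0 => Ext.mapExactFunctor φ f) = Ext.mapExactFunctor φ from rfl,
        Ext.mapExactFunctor₀]
      exact Ext.homEquiv₀.symm.bijective.comp ((h0 L).comp Ext.homEquiv₀.bijective)
    | succ n ih =>
      constructor
      · intro y₁ y₂ hy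
        rw [← sub_eq_zero]
        have hy0 : Ext.mapExactFunctor φ (y₁ - y₂) = 0 :=
          ((φ.mapExtAddHom L M (n + 1)).map_sub y₁ y₂).trans (sub_eq_zero.2 hy)
        generalize y₁ - y₂ = y at hy0 ⊢
        obtain ⟨L', p, hp, hpy⟩ := exists_epi_comp_eq_zero y
        let S := ShortComplex.mk _ _ (kernel.condition p)
        have hS : S.ShortExact := { exact := ShortComplex.exact_kernel p }
        obtain ⟨z, hz⟩ := Ext.contravariant_sequence_exact₃ hS M y hpy (add_comm 1 n)
        have hz0 : (hS.map_of_exact φ).extClass.comp (Ext.mapExactFunctor φ z) (add_comm 1 n) = 0 := by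
          have h' : Ext.mapExactFunctor φ (hS.extClass.comp z (add_comm 1 n)) =
              (hS.map_of_exact φ).extClass.comp (Ext.mapExactFunctor φ z) (add_comm 1 n) := by
            simp [Ext.mapExactFunctor_comp, Ext.mapExactFunctor_extClass]
            rfl
          exact h'.symm.trans ((congrArg _ hz).trans hy0)
        obtain ⟨w₂, hw⟩ := Ext.contravariant_sequence_exact₁ (hS.map_of_exact φ) (φ.obj M) _ _ hz0
        obtain ⟨w₁, rfl⟩ := (ih S.X₂).2 w₂
        have : z = (Ext.mk₀ S.f).comp w₁ (zero_add n) := (ih S.X₁).1 (by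
          refine hw.symm.trans ?_
          simp [Ext.mapExactFunctor_comp, Ext.mapExactFunctor_mk₀]
          rfl)
        rw [← hz, this, ShortComplex.ShortExact.extClass_comp_assoc hS]
      · intro x
        obtain ⟨L', p, hp, hpx⟩ := h1 L (n + 1) (by omega) x
        let S := ShortComplex.mk _ _ (kernel.condition p)
        have hS : S.ShortExact := { exact := ShortComplex.exact_kernel p }
        obtain ⟨z', hz'⟩ := Ext.contravariant_sequence_exact₃ (hS.map_of_exact φ) (φ.obj M) x hpx
          (add_comm 1 n)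
        obtain ⟨z, rfl⟩ := (ih S.X₁).2 z'
        refine ⟨hS.extClass.comp z (add_comm 1 n), ?_⟩
        rw [← hz']
        simp [Ext.mapExactFunctor_comp, Ext.mapExactFunctor_extClass]
        rfl

end Groth.Agent.TriH
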