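import Mathlib.Algebra.Homology.DerivedCategory.FullyFaithful
import Mathlib.Algebra.Homology.DerivedCategory.TStructure
import Mathlib.CategoryTheory.Triangulated.TStructure.TruncLEGT
import Mathlib.CategoryTheory.Endomorphism

/-!
# Endomorphisms inducing zero on cohomology are nilpotent on bounded objects
-/

set_option autoImplicit false

universe w v u

open CategoryTheory CategoryTheory.Limits CategoryTheory.Pretriangulated DerivedCategory

namespace Groth.Agent.TriH.EndNilp

variable {A : Type u} [Category.{v} A] [Abelian A] [HasDerivedCategory.{w} A]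

lemma eq_zero_of_concentrated {X : DerivedCategory A} (a : ℤ) [X.IsGE a] [X.IsLE a]
    (f : X ⟶ X) (hf : (homologyFunctor A a).map f = 0) : f = 0 := by
  obtain ⟨Y, ⟨e⟩⟩ := X.exists_iso_singleFunctor_obj_of_isGE_of_isLE a
  obtain ⟨φ, hφ⟩ := (singleFunctor A a).map_surjective (e.inv ≫ f ≫ e.hom)
  have h : φ = 0 := by
    have := NatIso.naturality_1 (singleFunctorCompHomologyFunctorIso A a) φ
    simp only [Functor.comp_map, Functor.id_map] at this
    rw [← this, hφ, Functor.map_comp, Functor.map_comp, hf]
    simp
  rw [h, Functor.map_zero] at hφ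
  have := congrArg (fun g => e.hom ≫ g ≫ e.inv) hφ
  simpa using this.symm

lemma isZero_homology_truncLE (X : DerivedCategory A) (a i : ℤ) (hi : a < i) :
    IsZero ((homologyFunctor A i).obj ((TStructure.t.truncLE a).obj X)) :=
  DerivedCategory.isZero_of_isLE _ a i hi

lemma isZero_homology_truncGE (X : DerivedCategory A) (b i : ℤ) (hi : i < b) :
    IsZero ((homologyFunctor A i).obj ((TStructure.t.truncGE b).obj X)) :=
  DerivedCategory.isZero_of_isGE _ b i hi

lemma isIso_homology_π (X : DerivedCategory A) (a b i : ℤ) (h : a + 1 = b) (hi : b ≤ i) :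
    IsIso ((homologyFunctor A i).map ((TStructure.t.truncGEπ b).app X)) := by
  have hT := (TStructure.t (C := A)).triangleLEGE_distinguished a b h X
  have : Mono ((homologyFunctor A i).map ((TStructure.t.truncGEπ b).app X)) :=
    (HomologySequence.mono_homologyMap_mor₂_iff _ hT i).2
      ((isZero_homology_truncLE X a i (by omega)).eq_of_src _ _)
  have : Epi ((homologyFunctor A i).map ((TStructure.t.truncGEπ b).app X)) :=
    (HomologySequence.epi_homologyMap_mor₂_iff _ hT i (i + 1) rfl).2
      ((isZero_homology_truncLE X a (i + 1) (by omega)).eq_of_tgt _ _)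
  exact isIso_of_mono_of_epi _

lemma isIso_homology_ι (X : DerivedCategory A) (a b i : ℤ) (h : a + 1 = b) (hi : i ≤ a) :
    IsIso ((homologyFunctor A i).map ((TStructure.t.truncLEι a).app X)) := by
  have hT := (TStructure.t (C := A)).triangleLEGE_distinguished a b h X
  have : Mono ((homologyFunctor A i).map ((TStructure.t.truncLEι a).app X)) :=
    (HomologySequence.mono_homologyMap_mor₁_iff _ hT (i - 1) i (by omega)).2
      ((isZero_homology_truncGE X b (i - 1) (by omega)).eq_of_src _ _)
  have : Epi ((homologyFunctor A i).map ((TStructure.t.truncLEι a).app X)) :=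
    (HomologySequence.epi_homologyMap_mor₁_iff _ hT i).2
      ((isZero_homology_truncGE X b i (by omega)).eq_of_tgt _ _)
  exact isIso_of_mono_of_epi _

lemma comp_pow_eq {X G : DerivedCategory A} (p : X ⟶ G) (f : End X) (f' : End G)
    (h : p ≫ f' = f ≫ p) (k : ℕ) :
    p ≫ (show G ⟶ G from f' ^ k) = (show X ⟶ X from f ^ k) ≫ p := by
  induction k with
  | zero => simp [End.one_def]
  | succ k ih =>
    change p ≫ (show G ⟶ G from f' ^ (k + 1)) = (show X ⟶ X from f ^ (k + 1)) ≫ p
    rw [pow_succ, pow_succ]
    show p ≫ f' ≫ (show G ⟶ G from f' ^ k) = (f ≫ (show X ⟶ X from f ^ k)) ≫ p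
    rw [← Category.assoc, h, Category.assoc, ih, Category.assoc]

theorem pow_eq_zero : ∀ (n : ℕ) (X : DerivedCategory A) (a : ℤ)
    (_ : ∀ i : ℤ, i < a ∨ a + n < i → IsZero ((homologyFunctor A i).obj X))
    (f : End X) (_ : ∀ i : ℤ, (homologyFunctor A i).map f = 0), f ^ (n + 1) = 0 := by
  intro n
  induction n with
  | zero =>
    intro X a hX f hf
    haveI : X.IsGE a := (X.isGE_iff a).2 fun i hi => hX i (Or.inl hi)
    haveI : X.IsLE a := (X.isLE_iff a).2 fun i hi => hX i (Or.inr (by simpa using hi))
    rw [zero_add, pow_one]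
    exact eq_zero_of_concentrated a f (hf a)
  | succ n ih =>
    intro X a hX f hf
    let t := TStructure.t (C := A)
    let L := (t.truncLE a).obj X
    let G := (t.truncGE (a + 1)).obj X
    let ι : L ⟶ X := (t.truncLEι a).app X
    let π : X ⟶ G := (t.truncGEπ (a + 1)).app X
    let fL : L ⟶ L := (t.truncLE a).map f
    let fG : G ⟶ G := (t.truncGE (a + 1)).map f
    have hι : fL ≫ ι = ι ≫ f := (t.truncLEι a).naturality f
    have hπ : π ≫ fG = f ≫ π := ((t.truncGEπ (a + 1)).naturality f).symm
    have hfG : ∀ i, (homologyFunctor A i).map fG = 0 := by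
      intro i
      by_cases hi : a + 1 ≤ i
      · haveI : IsIso ((homologyFunctor A i).map π) := isIso_homology_π X a (a + 1) i rfl hi
        rw [← cancel_epi ((homologyFunctor A i).map π), ← Functor.map_comp, hπ, Functor.map_comp,
          hf, zero_comp, comp_zero]
      · exact (isZero_homology_truncGE X (a + 1) i (by omega)).eq_of_src _ _
    have hfL : ∀ i, (homologyFunctor A i).map fL = 0 := by
      intro i
      by_cases hi : i ≤ a
      · haveI : IsIso ((homologyFunctor A i).map ι) := isIso_homology_ι X a (a + 1) i rfl hi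
        rw [← cancel_mono ((homologyFunctor A i).map ι), ← Functor.map_comp, hι, Functor.map_comp,
          hf, zero_comp, comp_zero]
      · exact (isZero_homology_truncLE X a i (by omega)).eq_of_src _ _
    have hG : ∀ i : ℤ, i < a + 1 ∨ a + 1 + n < i → IsZero ((homologyFunctor A i).obj G) := by
      intro i hi
      rcases hi with hi | hi
      · exact isZero_homology_truncGE X (a + 1) i hi
      · haveI : IsIso ((homologyFunctor A i).map π) := isIso_homology_π X a (a + 1) i rfl (by omega)
        exact (hX i (Or.inr (by push_cast; omega))).of_iso (asIso ((homologyFunctor A i).map π)).symm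
    haveI : L.IsGE a := (L.isGE_iff a).2 fun i hi => by
      haveI : IsIso ((homologyFunctor A i).map ι) := isIso_homology_ι X a (a + 1) i rfl (by omega)
      exact (hX i (Or.inl hi)).of_iso (asIso ((homologyFunctor A i).map ι))
    have hL : fL = 0 := eq_zero_of_concentrated a fL (hfL a)
    have hιf : ι ≫ f = 0 := by rw [← hι, hL, zero_comp]
    have hzero : (show X ⟶ X from f ^ (n + 1)) ≫ π = 0 := by
      rw [← comp_pow_eq π f fG hπ (n + 1)]
      have h0 : (show End G from fG) ^ (n + 1) = 0 := ih G (a + 1) hG fG hfG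
      exact (congrArg (π ≫ ·) h0).trans comp_zero
    obtain ⟨h, hh⟩ := Triangle.coyoneda_exact₂ _ (t.triangleLEGE_distinguished a (a + 1) rfl X)
      (show X ⟶ X from f ^ (n + 1)) hzero
    rw [pow_succ']
    show (show X ⟶ X from f ^ (n + 1)) ≫ f = 0
    rw [hh]
    exact (Category.assoc _ _ _).trans ((congrArg (h ≫ ·) hιf).trans comp_zero)

end Groth.Agent.TriH.EndNilp
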