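import Groth.Agent.TriH.Acyclic
import Groth.Agent.TriH.Delta
import Mathlib.CategoryTheory.Abelian.Injective.Extend

/-!
# The unit of `R⁺F` at an object in degree zero, adapted classes
-/

set_option autoImplicit false

open CategoryTheory CategoryTheory.Limits

namespace Groth.Agent.TriH

universe w w' v v' u u'

variable {C : Type u} [Category.{v} C] [Abelian C] [EnoughInjectives C]
  {D : Type u'} [Category.{v'} D] [Abelian D] (F : C ⥤ D) [F.Additive]

lemma isIso_toRightDerivedZero_app_iff {X : C} (R : InjectiveResolution X) :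
    IsIso (F.toRightDerivedZero.app X) ↔
      (ShortComplex.mk (F.map (R.ι.f 0)) (F.map (R.cocomplex.d 0 1))
        (by rw [← F.map_comp, R.ι_f_zero_comp_complex_d]; exact F.map_zero _ _)).Exact ∧
        Mono (F.map (R.ι.f 0)) := by
  rw [R.toRightDerivedZero_eq F]
  refine Iff.trans ?_ (CochainComplex.isIso_liftCycles_iff
    ((F.mapHomologicalComplex (ComplexShape.up ℕ)).obj R.cocomplex) (F.map (R.ι.f 0)) _)
  constructor
  · intro h
    exact IsIso.of_isIso_comp_right (R.toRightDerivedZero' F)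
      ((CochainComplex.isoHomologyπ₀ _).hom ≫ (R.isoRightDerivedObj F 0).inv)
  · intro h
    haveI : IsIso (R.toRightDerivedZero' F) := h
    infer_instance

lemma isZero_rightDerived_iff {X : C} (R : InjectiveResolution X) (n : ℕ) :
    IsZero ((F.rightDerived n).obj X) ↔
      ((F.mapHomologicalComplex (ComplexShape.up ℕ)).obj R.cocomplex).ExactAt n := by
  rw [HomologicalComplex.exactAt_iff_isZero_homology]
  exact (R.isoRightDerivedObj F n).isZero_iff

lemma quasiIso_map_ι'_iff (X : C) :
    QuasiIso ((F.mapHomologicalComplex (ComplexShape.up ℤ)).map (injectiveResolution X).ι') ↔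
      (IsIso (F.toRightDerivedZero.app X) ∧
        ∀ i : ℕ, 0 < i → IsZero ((F.rightDerived i).obj X)) := by
  let R := injectiveResolution X
  let φ := (F.mapHomologicalComplex (ComplexShape.up ℤ)).map R.ι'
  let S₀ := (F.mapHomologicalComplex (ComplexShape.up ℤ)).obj
    ((CochainComplex.singleFunctor C 0).obj X)
  let L := (F.mapHomologicalComplex (ComplexShape.up ℤ)).obj R.cochainComplex
  have hz : ∀ n : ℤ, n ≠ 0 → IsZero (S₀.X n) := fun n hn =>
    F.map_isZero (HomologicalComplex.isZero_single_obj_X (ComplexShape.up ℤ) 0 X n hn)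
  have hS : ∀ n : ℤ, n ≠ 0 → S₀.ExactAt n := fun n hn =>
    ShortComplex.exact_of_isZero_X₂ _ (hz n hn)
  have hz' : ∀ n : ℤ, n < 0 → IsZero (L.X n) := fun n hn =>
    F.map_isZero (R.cochainComplex.isZero_of_isStrictlyGE 0 n hn)
  -- positive degrees
  have hpos : ∀ k : ℕ, QuasiIsoAt φ ((k + 1 : ℕ) : ℤ) ↔ IsZero ((F.rightDerived (k + 1)).obj X) := by
    intro k
    rw [quasiIsoAt_iff_exactAt _ _ (hS _ (by omega)), isZero_rightDerived_iff F R,
      HomologicalComplex.exactAt_iff' _ (k : ℤ) ((k + 1 : ℕ) : ℤ) ((k + 2 : ℕ) : ℤ) (by simp)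
        (by rw [CochainComplex.next]; omega),
      HomologicalComplex.exactAt_iff' _ k (k + 1) (k + 2) (by simp) (by simp)]
    refine ShortComplex.exact_iff_of_iso (ShortComplex.isoMk
      (F.mapIso (R.cochainComplexXIso _ k rfl)) (F.mapIso (R.cochainComplexXIso _ (k + 1) rfl))
      (F.mapIso (R.cochainComplexXIso _ (k + 2) rfl)) ?_ ?_)
    · show F.map _ ≫ F.map (R.cocomplex.d k (k + 1)) = F.map (R.cochainComplex.d _ _) ≫ F.map _
      rw [← F.map_comp, ← F.map_comp, R.cochainComplex_d _ _ k (k + 1) (by simp) (by simp)]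
      simp
    · show F.map _ ≫ F.map (R.cocomplex.d (k + 1) (k + 2)) = F.map (R.cochainComplex.d _ _) ≫ F.map _
      rw [← F.map_comp, ← F.map_comp, R.cochainComplex_d _ _ (k + 1) (k + 2) (by simp) (by simp)]
      simp
  -- degree zero
  have h0 : QuasiIsoAt φ 0 ↔ IsIso (F.toRightDerivedZero.app X) := by
    rw [quasiIsoAt_iff' φ (-1) 0 1 (by simp) (by simp), ShortComplex.quasiIso_iff_of_zeros,
      isIso_toRightDerivedZero_app_iff F R]
    rotate_left
    · exact (hz (-1) (by omega)).eq_of_src _ _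
    · exact (hz 1 (by omega)).eq_of_tgt _ _
    · exact (hz' (-1) (by omega)).eq_of_src _ _
    refine ShortComplex.exact_and_mono_f_iff_of_iso (ShortComplex.isoMk
      (F.mapIso (HomologicalComplex.singleObjXSelf (ComplexShape.up ℤ) 0 X))
      (F.mapIso (R.cochainComplexXIso 0 0 rfl)) (F.mapIso (R.cochainComplexXIso 1 1 rfl)) ?_ ?_)
    · show F.map _ ≫ F.map (R.ι.f 0) = F.map (R.ι'.f 0) ≫ F.map _
      erw [← F.map_comp, ← F.map_comp]
      congr 1
      rw [R.ι'_f_zero]
      erw [Category.assoc, Category.assoc, Iso.inv_hom_id]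
      exact congrArg (_ ≫ ·) (Category.comp_id _).symm
    · show F.map _ ≫ F.map (R.cocomplex.d 0 1) = F.map (R.cochainComplex.d 0 1) ≫ F.map _
      rw [← F.map_comp, ← F.map_comp, R.cochainComplex_d 0 1 0 1 rfl rfl]
      simp
  constructor
  · intro h
    refine ⟨h0.1 inferInstance, ?_⟩
    rintro (_ | k) hi
    · exact absurd hi (lt_irrefl 0)
    · exact (hpos k).1 inferInstance
  · rintro ⟨h, h'⟩
    refine (quasiIso_iff φ).2 fun n => ?_
    rcases lt_trichotomy n 0 with hn | rfl | hn
    · rw [quasiIsoAt_iff_exactAt _ _ (hS n (by omega))]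
      exact ShortComplex.exact_of_isZero_X₂ _ (hz' n hn)
    · exact h0.2 h
    · obtain ⟨k, rfl⟩ : ∃ k : ℕ, n = ((k + 1 : ℕ) : ℤ) := ⟨(n - 1).toNat, by omega⟩
      exact (hpos k).2 (h' _ (Nat.succ_pos k))

lemma isIso_unit_single_iff [HasDerivedCategory.{w} C] [HasDerivedCategory.{w'} D] (X : C) :
    IsIso (F.rightDerivedFunctorPlusUnit.app
        ((HomotopyCategory.Plus.singleFunctor C 0).obj X)) ↔
      (IsIso (F.toRightDerivedZero.app X) ∧
        ∀ i : ℕ, 0 < i → IsZero ((F.rightDerived i).obj X)) := by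
  rw [← quasiIso_map_ι'_iff F X]
  let R := injectiveResolution X
  let K₀ : CochainComplex.Plus C :=
    ⟨(CochainComplex.singleFunctor C 0).obj X, ⟨0, inferInstance⟩⟩
  let K : CochainComplex.Plus C := ⟨R.cochainComplex, ⟨0, inferInstance⟩⟩
  let i : K₀ ⟶ K := ObjectProperty.homMk R.ι'
  let r := (HomotopyCategory.Plus.quotient C).map i
  haveI : ∀ n, Injective (K.obj.X n) := fun n => inferInstanceAs (Injective (R.cochainComplex.X n))
  haveI : IsIso (F.rightDerivedFunctorPlusUnit.app ((HomotopyCategory.Plus.quotient C).obj K)) :=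
    inferInstance
  have h₁ : IsIso (DerivedCategory.Plus.Qh.map r) :=
    Localization.inverts DerivedCategory.Plus.Qh (HomotopyCategory.Plus.quasiIso C) _
      ((HomotopyCategory.quotient_map_mem_quasiIso_iff R.ι').2
        (inferInstanceAs (QuasiIso R.ι')))
  haveI : IsIso ((DerivedCategory.Plus.Qh ⋙ F.rightDerivedFunctorPlus).map r) :=
    inferInstanceAs (IsIso (F.rightDerivedFunctorPlus.map (DerivedCategory.Plus.Qh.map r)))
  have e := F.rightDerivedFunctorPlusUnit.naturality r
  have hF : IsIso ((F.mapHomotopyCategoryPlus ⋙ DerivedCategory.Plus.Qh).map r) ↔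
      QuasiIso ((F.mapHomologicalComplex (ComplexShape.up ℤ)).map R.ι') := by
    show IsIso (DerivedCategory.Plus.Qh.map (F.mapHomotopyCategoryPlus.map r)) ↔ _
    rw [← isIso_iff_of_reflects_iso _ (DerivedCategory.Plus.ι)]
    show IsIso (DerivedCategory.Qh.map ((F.mapHomotopyCategory (ComplexShape.up ℤ)).map
      ((HomotopyCategory.quotient _ _).map R.ι'))) ↔ _
    rw [DerivedCategory.isIso_Qh_map_iff]
    exact HomotopyCategory.quotient_map_mem_quasiIso_iff _
  show IsIso (F.rightDerivedFunctorPlusUnit.app ((HomotopyCategory.Plus.quotient C).obj K₀)) ↔ _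
  rw [← hF]
  constructor
  · intro h
    haveI : IsIso ((F.mapHomotopyCategoryPlus ⋙ DerivedCategory.Plus.Qh).map r ≫
        F.rightDerivedFunctorPlusUnit.app ((HomotopyCategory.Plus.quotient C).obj K)) := by
      rw [e]; infer_instance
    exact IsIso.of_isIso_comp_right _
      (F.rightDerivedFunctorPlusUnit.app ((HomotopyCategory.Plus.quotient C).obj K))
  · intro h
    haveI : IsIso (F.rightDerivedFunctorPlusUnit.app ((HomotopyCategory.Plus.quotient C).obj K₀) ≫
        (DerivedCategory.Plus.Qh ⋙ F.rightDerivedFunctorPlus).map r) := by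
      rw [← e]; infer_instance
    exact IsIso.of_isIso_comp_right _ ((DerivedCategory.Plus.Qh ⋙ F.rightDerivedFunctorPlus).map r)

variable (P : ObjectProperty C) (h1 : ∀ X : C, ∃ (Y : C) (ι : X ⟶ Y), P Y ∧ Mono ι)
  (h2 : ∀ S : ShortComplex C, S.ShortExact → P S.X₁ → P S.X₂ → P S.X₃ ∧ (S.map F).ShortExact)

include h1 h2 in
lemma mono_toRightDerivedZero_app_of_adapted (X : C) (hX : P X) :
    Mono (F.toRightDerivedZero.app X) := by
  obtain ⟨Y, j, hY, hj⟩ := h1 (Injective.under X)
  let u := Injective.ι X ≫ j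
  have hs := (h2 _ (Delta.monoSES_shortExact u) hX hY).2
  haveI : Mono (F.map u) := hs.mono_f
  haveI : Mono (F.map (Injective.ι X) ≫ F.map j) := by rw [← F.map_comp]; infer_instance
  haveI : Mono (F.map (Injective.ι X)) := mono_of_mono _ (F.map j)
  haveI : Mono (F.toRightDerivedZero.app X ≫ (F.rightDerived 0).map (Injective.ι X)) := by
    rw [← F.toRightDerivedZero.naturality]
    infer_instance
  exact mono_of_mono _ ((F.rightDerived 0).map (Injective.ι X))

include h1 h2 in
lemma isIso_toRightDerivedZero_app_of_adapted (X : C) (hX : P X) :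
    IsIso (F.toRightDerivedZero.app X) := by
  obtain ⟨Y, j, hY, hj⟩ := h1 (Injective.under X)
  let u := Injective.ι X ≫ j
  obtain ⟨hQ, hs⟩ := h2 _ (Delta.monoSES_shortExact u) hX hY
  let η := F.toRightDerivedZero
  haveI := mono_toRightDerivedZero_app_of_adapted F P h1 h2 X hX
  suffices Epi (η.app X) from isIso_of_mono_of_epi _
  rw [epi_iff_surjective_up_to_refinements]
  intro T a
  let a' := a ≫ (F.rightDerived 0).map (Injective.ι X) ≫ inv (η.app (Injective.under X))
  let b := a' ≫ F.map j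
  have hb : b ≫ η.app Y = a ≫ (F.rightDerived 0).map u := by
    show (a' ≫ F.map j) ≫ η.app Y = _
    rw [Category.assoc, η.naturality]
    simp [a', u]
  haveI := mono_toRightDerivedZero_app_of_adapted F P h1 h2 _ hQ
  have hb0 : b ≫ F.map (cokernel.π u) = 0 := by
    rw [← cancel_mono (η.app (cokernel u)), zero_comp, Category.assoc, η.naturality,
      reassoc_of% hb, ← Functor.map_comp, cokernel.condition]
    exact (congrArg (a ≫ ·) ((F.rightDerived 0).map_zero _ _)).trans comp_zero
  obtain ⟨T', π, hπ, c, hc⟩ := hs.exact.exact_up_to_refinements b hb0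
  haveI : Mono ((F.rightDerived 0).map u) :=
    (rightDerived_zero_exact_and_mono F _ (Delta.monoSES_shortExact u)).2
  refine ⟨T', π, hπ, c, ?_⟩
  rw [← cancel_mono ((F.rightDerived 0).map u), Category.assoc, ← hb, ← Category.assoc]
  refine (congrArg (· ≫ η.app Y) hc).trans ?_
  show (c ≫ F.map u) ≫ η.app Y = (c ≫ η.app X) ≫ (F.rightDerived 0).map u
  rw [Category.assoc, Category.assoc]
  exact congrArg (c ≫ ·) (η.naturality u)

include h1 h2 in
lemma isAcyclicObj_of_adapted (X : C) (hX : P X) : IsAcyclicObj F X := by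
  suffices H : ∀ (n : ℕ) (X : C), P X → IsZero ((F.rightDerived (n + 1)).obj X) by
    rintro (_ | n) hn
    · exact absurd hn (lt_irrefl 0)
    · exact H n X hX
  intro n
  induction n with
  | zero =>
    intro X hX
    obtain ⟨Y, j, hY, hj⟩ := h1 (Injective.under X)
    let u := Injective.ι X ≫ j
    obtain ⟨hQ, hs⟩ := h2 _ (Delta.monoSES_shortExact u) hX hY
    haveI := isIso_toRightDerivedZero_app_of_adapted F P h1 h2 _ hQ
    haveI : Epi (F.map (cokernel.π u)) := hs.epi_g
    haveI : Epi ((F.rightDerived 0).map (cokernel.π u)) := by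
      haveI : Epi (F.toRightDerivedZero.app Y ≫ (F.rightDerived 0).map (cokernel.π u)) := by
        rw [← F.toRightDerivedZero.naturality]; infer_instance
      exact epi_of_epi (F.toRightDerivedZero.app Y) _
    have hδ : (RDer.derivedLES F).δ _ (Delta.monoSES_shortExact u) 0 1 rfl = 0 := by
      rw [← cancel_epi ((F.rightDerived 0).map (cokernel.π u)), comp_zero]
      exact (RDer.derivedLES F).comp_δ _ (Delta.monoSES_shortExact u) 0 1 rfl
    refine ((RDer.derivedLES F).exact₁ _ (Delta.monoSES_shortExact u) 0 1 rfl).isZero_X₂ hδ ?_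
    show (F.rightDerived 1).map (Injective.ι X ≫ j) = 0
    rw [Functor.map_comp, (F.isZero_rightDerived_obj_injective_succ 0 (Injective.under X)).eq_of_tgt
      ((F.rightDerived 1).map (Injective.ι X)) 0, zero_comp]
  | succ n ih =>
    intro X hX
    obtain ⟨Y, j, hY, hj⟩ := h1 (Injective.under X)
    let u := Injective.ι X ≫ j
    obtain ⟨hQ, -⟩ := h2 _ (Delta.monoSES_shortExact u) hX hY
    refine ((RDer.derivedLES F).exact₁ _ (Delta.monoSES_shortExact u) (n + 1) (n + 1 + 1) rfl).isZero_X₂
      ((ih _ hQ).eq_of_src _ _) ?_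
    show (F.rightDerived (n + 1 + 1)).map (Injective.ι X ≫ j) = 0
    rw [Functor.map_comp, (F.isZero_rightDerived_obj_injective_succ (n + 1) (Injective.under X)).eq_of_tgt
      ((F.rightDerived (n + 1 + 1)).map (Injective.ι X)) 0, zero_comp]

end Groth.Agent.TriH
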