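import Mathlib.Algebra.Homology.HomotopyCategory.KInjective
import Mathlib.Algebra.Homology.HomotopyCategory.MappingCone
import Mathlib.Algebra.Homology.Double
import Mathlib.Algebra.Homology.HomologicalComplexAbelian
import Mathlib.Algebra.Homology.HomologicalComplexLimits
import Mathlib.Algebra.Homology.HomologySequence

/-!
# K-injective complexes: lifting along monomorphisms with acyclic cokernel
-/

set_option autoImplicit false

open CategoryTheory CategoryTheory.Limits CochainComplex CochainComplex.HomComplex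

namespace Groth.Agent.TriH

universe v u v' u'

variable {A : Type u} [Category.{v} A] [Abelian A]

/-- Extension along monomorphisms with acyclic cokernel. -/
def HasAcyclicExtension (I : CochainComplex A ℤ) : Prop :=
  ∀ (S : ShortComplex (CochainComplex A ℤ)), S.ShortExact → S.X₃.Acyclic →
    ∀ φ : S.X₁ ⟶ I, ∃ ψ : S.X₂ ⟶ I, S.f ≫ ψ = φ

lemma hasAcyclicExtension_of_isKInjective (I : CochainComplex A ℤ) [I.IsKInjective]
    [∀ n, Injective (I.X n)] : HasAcyclicExtension I := by
  intro S hS hX₃ φ
  have hs : ∀ n, (S.map (HomologicalComplex.eval A (ComplexShape.up ℤ) n)).ShortExact :=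
    fun n => hS.map_of_exact _
  haveI : ∀ n, Mono (S.f.f n) := fun n => (hs n).mono_f
  haveI : ∀ n, Epi (S.g.f n) := fun n => (hs n).epi_g
  let ψ₀ : Cochain S.X₂ I 0 := Cochain.ofHoms fun n => Injective.factorThru (φ.f n) (S.f.f n)
  have hψ₀ : (Cochain.ofHom S.f).comp ψ₀ (zero_add 0) = Cochain.ofHom φ := by
    ext n
    simp [ψ₀]
  have hz : (Cochain.ofHom S.f).comp (δ 0 1 ψ₀) (zero_add 1) = 0 := by
    rw [← δ_ofHom_comp, hψ₀, δ_ofHom]
  have hz' : ∀ (p q : ℤ) (h : p + 1 = q), S.f.f p ≫ (δ 0 1 ψ₀).v p q h = 0 := fun p q h => by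
    have := Cochain.congr_v hz p q h
    simpa using this
  let w₀ : Cochain S.X₃ I 1 := Cochain.mk fun p q h =>
    haveI := (hs p).epi_g
    (hs p).exact.desc ((δ 0 1 ψ₀).v p q h) (hz' p q h)
  have hw₀ : (Cochain.ofHom S.g).comp w₀ (zero_add 1) = δ 0 1 ψ₀ := by
    ext p q h
    simp only [Cochain.zero_cochain_comp_v, Cochain.ofHom_v, w₀, Cochain.mk_v]
    haveI := (hs p).epi_g
    exact (hs p).exact.g_desc _ _
  have hw : δ 1 2 w₀ = 0 := by
    have h2 : (Cochain.ofHom S.g).comp (δ 1 2 w₀) (zero_add 2) = 0 := by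
      rw [← δ_ofHom_comp, hw₀, δ_δ]
    ext p q h
    have := Cochain.congr_v h2 p q h
    simp only [Cochain.zero_cochain_comp_v, Cochain.ofHom_v, Cochain.zero_v] at this
    rw [← cancel_epi (S.g.f p), this]
    simp
  obtain ⟨α, hα⟩ := IsKInjective.eq_δ_of_cocycle (Cocycle.mk w₀ 2 (by omega) hw) hX₃ 0 rfl
  have hα' : δ 0 1 α = w₀ := hα
  let ψ₁ : Cocycle S.X₂ I 0 := Cocycle.mk (ψ₀ - (Cochain.ofHom S.g).comp α (zero_add 0)) 1
    (by omega) (by rw [δ_sub, δ_ofHom_comp, hα', hw₀, sub_self])
  refine ⟨Cocycle.homOf ψ₁, ?_⟩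
  ext n
  have e : S.f.f n ≫ S.g.f n = 0 := by
    rw [← HomologicalComplex.comp_f, S.zero, HomologicalComplex.zero_f]
  simp [ψ₁, ψ₀, reassoc_of% e]

lemma injective_of_hasAcyclicExtension (I : CochainComplex A ℤ) (hI : HasAcyclicExtension I)
    (n : ℤ) : Injective (I.X n) := by
  refine ⟨fun {X Y} g f hf => ?_⟩
  have hr : (ComplexShape.up ℤ).Rel n (n + 1) := rfl
  have hne : n ≠ n + 1 := by omega
  let DX := HomologicalComplex.double (𝟙 X) hr
  let DY := HomologicalComplex.double (𝟙 Y) hr
  let j : DX ⟶ DY := HomologicalComplex.mkHomFromDouble hr hne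
    (f ≫ (HomologicalComplex.doubleXIso₀ (𝟙 Y) hr).inv)
    (f ≫ (HomologicalComplex.doubleXIso₁ (𝟙 Y) hr hne).inv)
    (by simp [DY, HomologicalComplex.double_d (𝟙 Y) hr hne])
    (fun k _ => by
      rw [HomologicalComplex.double_d_eq_zero₀ (𝟙 Y) hr (n + 1) k (by omega), comp_zero])
  have hmono : ∀ k, Mono (j.f k) := by
    intro k
    by_cases h0 : k = n
    · subst h0
      simp only [j, HomologicalComplex.mkHomFromDouble_f₀]
      infer_instance
    · by_cases h1 : k = n + 1
      · subst h1
        simp only [j, HomologicalComplex.mkHomFromDouble_f₁]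
        infer_instance
      · exact ⟨fun a b _ => (HomologicalComplex.isZero_double_X (𝟙 X) hr k h0 h1).eq_of_tgt a b⟩
  haveI : Mono j := HomologicalComplex.mono_of_mono_f j hmono
  have hac : ∀ Z : A, HomologicalComplex.Acyclic (HomologicalComplex.double (𝟙 Z) hr) := fun Z k => by
    by_cases h0 : k = n
    · subst h0
      rw [HomologicalComplex.exactAt_iff' _ (k - 1) k (k + 1) (by simp) (by simp)]
      refine (ShortComplex.exact_iff_mono _ ?_).2 ?_
      · exact HomologicalComplex.double_d_eq_zero₀ (𝟙 Z) hr _ _ (by omega)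
      · show Mono ((HomologicalComplex.double (𝟙 Z) hr).d k (k + 1))
        rw [HomologicalComplex.double_d (𝟙 Z) hr hne]
        infer_instance
    · by_cases h1 : k = n + 1
      · subst h1
        rw [HomologicalComplex.exactAt_iff' _ n (n + 1) (n + 1 + 1) (by simp) (by simp)]
        refine (ShortComplex.exact_iff_epi _ ?_).2 ?_
        · exact HomologicalComplex.double_d_eq_zero₀ (𝟙 Z) hr _ _ (by omega)
        · show Epi ((HomologicalComplex.double (𝟙 Z) hr).d n (n + 1))
          rw [HomologicalComplex.double_d (𝟙 Z) hr hne]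
          infer_instance
      · exact ShortComplex.exact_of_isZero_X₂ _
          (HomologicalComplex.isZero_double_X (𝟙 Z) hr k h0 h1)
  let S : ShortComplex (CochainComplex A ℤ) :=
    ShortComplex.mk j (cokernel.π j) (cokernel.condition j)
  have hS : S.ShortExact := { exact := ShortComplex.exact_cokernel j }
  have h3 : S.X₃.Acyclic := fun k => by
    rw [HomologicalComplex.exactAt_iff_isZero_homology]
    refine (hS.homology_exact₃ k (k + 1) rfl).isZero_X₂ ?_ ?_
    · exact (((HomologicalComplex.exactAt_iff_isZero_homology _ _).1 (hac Y k))).eq_of_src _ _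
    · exact (((HomologicalComplex.exactAt_iff_isZero_homology _ _).1 (hac X (k + 1)))).eq_of_tgt _ _
  let φ : DX ⟶ I := HomologicalComplex.mkHomFromDouble hr hne g (g ≫ I.d n (n + 1))
    (by simp) (fun k _ => by simp)
  obtain ⟨ψ, hψ⟩ := hI S hS h3 φ
  refine ⟨(HomologicalComplex.doubleXIso₀ (𝟙 Y) hr).inv ≫ ψ.f n, ?_⟩
  have h := congrArg (fun m => (HomologicalComplex.doubleXIso₀ (𝟙 X) hr).inv ≫
    HomologicalComplex.Hom.f m n) hψ
  simpa [S, j, φ] using h

lemma nullHomotopic_iff_exists_extension {K L : CochainComplex A ℤ} (f : K ⟶ L) :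
    Nonempty (Homotopy f 0) ↔
      ∃ ψ : mappingCone (𝟙 K) ⟶ L, mappingCone.inr (𝟙 K) ≫ ψ = f := by
  constructor
  · rintro ⟨h⟩
    obtain ⟨z, hz⟩ := Cochain.equivHomotopy f 0 h
    refine ⟨mappingCone.desc (𝟙 K) z f ?_, mappingCone.inr_desc _ _ _ _⟩
    rw [Cochain.ofHom_zero, add_zero] at hz
    rw [Category.id_comp]
    exact hz.symm
  · rintro ⟨ψ, rfl⟩
    refine ⟨((Homotopy.ofEq (Category.id_comp (mappingCone.inr (𝟙 K))).symm).trans
      (HomologicalComplex.homotopyCofiber.inrCompHomotopy (𝟙 K) (fun n => ⟨n - 1, by simp⟩))).compRight ψ |>.trans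
        (Homotopy.ofEq zero_comp)⟩

lemma isKInjective_of_hasAcyclicExtension (I : CochainComplex A ℤ) (hI : HasAcyclicExtension I) :
    I.IsKInjective where
  nonempty_homotopy_zero {K} f hK := by
    rw [nullHomotopic_iff_exists_extension]
    haveI : Mono (mappingCone.inr (𝟙 K)) := HomologicalComplex.mono_of_mono_f _ (fun n =>
      (mono_of_mono_fac (mappingCone.inr_f_snd_v (𝟙 K) n) : Mono _))
    let S : ShortComplex (CochainComplex A ℤ) :=
      ShortComplex.mk (mappingCone.inr (𝟙 K)) (cokernel.π _) (cokernel.condition _)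
    have hS : S.ShortExact := { exact := ShortComplex.exact_cokernel _ }
    have hM : ∀ k, IsZero ((mappingCone (𝟙 K)).homology k) := fun k => by
      have h : IsZero ((HomotopyCategory.quotient A (ComplexShape.up ℤ)).obj (mappingCone (𝟙 K))) :=
        (Pretriangulated.Triangle.isZero₃_iff_isIso₁ _
          (HomotopyCategory.mappingCone_triangleh_distinguished (𝟙 K))).2
          (by
            show IsIso ((HomotopyCategory.quotient A (ComplexShape.up ℤ)).map (𝟙 K))
            infer_instance)
      exact ((HomotopyCategory.homologyFunctorFactors A (ComplexShape.up ℤ) k).app _).isZero_iff.1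
        ((HomotopyCategory.homologyFunctor A (ComplexShape.up ℤ) k).map_isZero h)
    have h3 : S.X₃.Acyclic := fun k => by
      rw [HomologicalComplex.exactAt_iff_isZero_homology]
      exact (hS.homology_exact₃ k (k + 1) rfl).isZero_X₂ ((hM k).eq_of_src _ _)
        (((HomologicalComplex.exactAt_iff_isZero_homology _ _).1 (hK (k + 1))).eq_of_tgt _ _)
    exact hI S hS h3 f

theorem isKInjective_and_injective_iff (I : CochainComplex A ℤ) :
    (I.IsKInjective ∧ ∀ n : ℤ, Injective (I.X n)) ↔ HasAcyclicExtension I :=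
  ⟨fun ⟨h₁, h₂⟩ => @hasAcyclicExtension_of_isKInjective _ _ _ I h₁ h₂,
    fun h => ⟨isKInjective_of_hasAcyclicExtension I h, injective_of_hasAcyclicExtension I h⟩⟩

lemma isKInjective_pi {T : Type*} (I : T → CochainComplex A ℤ) [HasProduct I]
    (h : ∀ t, (I t).IsKInjective) : (∏ᶜ I).IsKInjective where
  nonempty_homotopy_zero {K} f hK := by
    rw [nullHomotopic_iff_exists_extension]
    choose ψ hψ using fun t => (nullHomotopic_iff_exists_extension (f ≫ Pi.π I t)).1
      ((h t).nonempty_homotopy_zero _ hK)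
    exact ⟨Pi.lift ψ, Pi.hom_ext _ _ (fun t => by simp [hψ])⟩

lemma isKInjective_map_of_adjunction {B : Type u'} [Category.{v'} B] [Abelian B]
    (r : A ⥤ B) (l : B ⥤ A) (adj : l ⊣ r) [r.Additive] [l.Additive] [PreservesFiniteLimits l]
    [PreservesFiniteColimits l] (I : CochainComplex A ℤ) [I.IsKInjective] :
    CochainComplex.IsKInjective ((r.mapHomologicalComplex (ComplexShape.up ℤ)).obj I) where
  nonempty_homotopy_zero {M} f hM := by
    let lM := (l.mapHomologicalComplex (ComplexShape.up ℤ)).obj M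
    have hlM : HomologicalComplex.Acyclic lM := fun n => (hM n).map l
    let η : M ⟶ (r.mapHomologicalComplex (ComplexShape.up ℤ)).obj lM :=
      { f := fun n => adj.unit.app (M.X n)
        comm' := fun i j _ => (adj.unit.naturality (M.d i j)).symm }
    let g : lM ⟶ I :=
      { f := fun n => (adj.homEquiv _ _).symm (f.f n)
        comm' := fun i j _ => by
          show (adj.homEquiv _ _).symm (f.f i) ≫ I.d i j =
            l.map (M.d i j) ≫ (adj.homEquiv _ _).symm (f.f j)
          rw [← adj.homEquiv_naturality_right_symm, ← adj.homEquiv_naturality_left_symm]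
          exact congrArg _ (f.comm i j) }
    have hf : f = η ≫ (r.mapHomologicalComplex (ComplexShape.up ℤ)).map g := by
      ext n
      exact ((adj.homEquiv _ _).apply_symm_apply (f.f n)).symm.trans (adj.homEquiv_unit _ _ _)
    obtain ⟨hg⟩ := IsKInjective.nonempty_homotopy_zero g hlM
    exact ⟨(Homotopy.ofEq hf).trans (((r.mapHomotopy hg).compLeft η).trans
      (Homotopy.ofEq (by simp)))⟩

end Groth.Agent.TriH
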