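import Mathlib.Algebra.Homology.DerivedCategory.FullyFaithful
import Mathlib.Algebra.Homology.DerivedCategory.TStructure
import Groth.Agent.TriH.EndNilp

/-!
# Factorization of sequences through truncations
-/

set_option autoImplicit false

universe w v u

open CategoryTheory CategoryTheory.Limits CategoryTheory.Pretriangulated DerivedCategory

namespace Groth.Agent.TriH.TruncFactor

variable {A : Type u} [Category.{v} A] [Abelian A] [HasDerivedCategory.{w} A]

lemma eq_zero_of_homology {X Y : DerivedCategory A} (m : ℤ) [X.IsLE m] [Y.IsGE m] (g : X ⟶ Y)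
    (hg : (homologyFunctor A m).map g = 0) : g = 0 := by
  let t := TStructure.t (C := A)
  let X₁ := (t.truncGE m).obj X
  let Y₁ := (t.truncLE m).obj Y
  let π : X ⟶ X₁ := (t.truncGEπ m).app X
  let ι : Y₁ ⟶ Y := (t.truncLEι m).app Y
  haveI : IsIso ((homologyFunctor A m).map π) :=
    EndNilp.isIso_homology_π X (m - 1) m m (by omega) le_rfl
  haveI : IsIso ((homologyFunctor A m).map ι) :=
    EndNilp.isIso_homology_ι Y m (m + 1) m rfl le_rfl
  haveI : X₁.IsLE m := (X₁.isLE_iff m).2 fun i hi => by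
    haveI : IsIso ((homologyFunctor A i).map π) :=
      EndNilp.isIso_homology_π X (m - 1) m i (by omega) (by omega)
    exact (X.isZero_of_isLE m i hi).of_iso (asIso ((homologyFunctor A i).map π)).symm
  haveI : Y₁.IsGE m := (Y₁.isGE_iff m).2 fun i hi => by
    haveI : IsIso ((homologyFunctor A i).map ι) :=
      EndNilp.isIso_homology_ι Y m (m + 1) i rfl (by omega)
    exact (Y.isZero_of_isGE m i hi).of_iso (asIso ((homologyFunctor A i).map ι))
  obtain ⟨g₁, hg₁⟩ : ∃ g₁ : X₁ ⟶ Y, π ≫ g₁ = g :=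
    ⟨t.descTruncGE g m, t.π_descTruncGE g m⟩
  obtain ⟨g₂, hg₂⟩ : ∃ g₂ : X₁ ⟶ Y₁, g₂ ≫ ι = g₁ := by
    haveI : t.IsLE X₁ m := inferInstanceAs (X₁.IsLE m)
    obtain ⟨g₂, hg₂⟩ := Triangle.coyoneda_exact₂ _
      (t.triangleLEGE_distinguished m (m + 1) rfl Y) g₁
      (by
        haveI : t.IsGE ((t.triangleLEGE m (m + 1) rfl).obj Y).obj₃ (m + 1) :=
          inferInstanceAs (t.IsGE ((t.truncGE (m + 1)).obj Y) (m + 1))
        exact t.zero _ m (m + 1) (by omega))
    exact ⟨g₂, hg₂.symm⟩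
  obtain ⟨A₁, ⟨e₁⟩⟩ := X₁.exists_iso_singleFunctor_obj_of_isGE_of_isLE m
  obtain ⟨B₁, ⟨e₂⟩⟩ := Y₁.exists_iso_singleFunctor_obj_of_isGE_of_isLE m
  obtain ⟨φ, hφ⟩ := (singleFunctor A m).map_surjective (e₁.inv ≫ g₂ ≫ e₂.hom)
  have h2 : (homologyFunctor A m).map g₂ = 0 := by
    rw [← hg₁, ← hg₂, Functor.map_comp, Functor.map_comp] at hg
    rw [← cancel_epi ((homologyFunctor A m).map π), ← cancel_mono ((homologyFunctor A m).map ι),
      Category.assoc, hg, comp_zero, zero_comp]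
  have h : φ = 0 := by
    have := NatIso.naturality_1 (singleFunctorCompHomologyFunctorIso A m) φ
    simp only [Functor.comp_map, Functor.id_map] at this
    rw [← this, hφ, Functor.map_comp, Functor.map_comp, h2]
    simp
  rw [h, Functor.map_zero] at hφ
  have : g₂ = 0 := by
    have := congrArg (fun u => e₁.hom ≫ u ≫ e₂.inv) hφ
    simpa using this.symm
  rw [← hg₁, ← hg₂, this, zero_comp, comp_zero]

lemma exists_lift_step (K : CochainComplex A ℤ) (m m' : ℤ) (hm : m' + 1 = m) {X : DerivedCategory A}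
    [X.IsLE m] (h : X ⟶ Q.obj K) (hh : (homologyFunctor A m).map h = 0) :
    ∃ φ : X ⟶ Q.obj (K.truncLE m'), φ ≫ Q.map (K.ιTruncLE m') = h := by
  haveI : (Q.obj (K.shortComplexTruncLE m').X₃).IsGE m :=
    (TStructure.t (C := A)).isGE_of_iso
      (asIso (Q.map (K.shortComplexTruncLEX₃ToTruncGE m' m hm))).symm m
  have h0 : h ≫ Q.map (K.shortComplexTruncLE m').g = 0 :=
    eq_zero_of_homology m _ (by rw [Functor.map_comp, hh, zero_comp])
  obtain ⟨φ, hφ⟩ := Triangle.coyoneda_exact₂ _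
    (triangleOfSES_distinguished (K.shortComplexTruncLE_shortExact m')) h h0
  exact ⟨φ, hφ.symm⟩

lemma exists_desc_step (K : CochainComplex A ℤ) (m m' : ℤ) (hm : m + 1 = m') {Y : DerivedCategory A}
    [Y.IsGE m] (h : Q.obj K ⟶ Y) (hh : (homologyFunctor A m).map h = 0) :
    ∃ φ : Q.obj (K.truncGE m') ⟶ Y, Q.map (K.πTruncGE m') ≫ φ = h := by
  have h0 : Q.map (K.ιTruncLE m) ≫ h = 0 :=
    eq_zero_of_homology m _ (by rw [Functor.map_comp, hh, comp_zero])
  obtain ⟨ψ, hψ⟩ := Triangle.yoneda_exact₂ _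
    (triangleOfSES_distinguished (K.shortComplexTruncLE_shortExact m)) h h0
  refine ⟨inv (Q.map (K.shortComplexTruncLEX₃ToTruncGE m m' hm)) ≫ ψ, ?_⟩
  have e := (congrArg Q.map (K.g_shortComplexTruncLEX₃ToTruncGE m m' hm)).symm.trans (Q.map_comp _ _)
  refine (congrArg (· ≫ _) e).trans ((Category.assoc _ _ _).trans ?_)
  exact (congrArg (Q.map (K.shortComplexTruncLE m).g ≫ ·) (IsIso.hom_inv_id_assoc _ _)).trans hψ.symm

lemma homology_Q_map {K L : CochainComplex A ℤ} (f : K ⟶ L) (i : ℤ)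
    (hf : HomologicalComplex.homologyMap f i = 0) : (homologyFunctor A i).map (Q.map f) = 0 := by
  rw [← cancel_mono ((homologyFunctorFactors A i).hom.app L), zero_comp]
  refine ((homologyFunctorFactors A i).hom.naturality f).trans ?_
  exact (congrArg (_ ≫ ·) hf).trans comp_zero

theorem lift_sequence (K : ℕ ⥤ CochainComplex A ℤ)
    (h0 : ∀ i : ℤ, 0 < i → IsZero ((K.obj 0).homology i)) : ∀ (n : ℕ)
    (_ : ∀ j : ℕ, j < n →
      HomologicalComplex.homologyMap (K.map (homOfLE (Nat.le_succ j))) (-(j : ℤ)) = 0),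
    ∃ φ : Q.obj (K.obj 0) ⟶ Q.obj ((K.obj n).truncLE (-(n : ℤ))),
      φ ≫ Q.map ((K.obj n).ιTruncLE (-(n : ℤ))) = Q.map (K.map (homOfLE (Nat.zero_le n))) := by
  haveI h0' : (K.obj 0).IsLE 0 := ((K.obj 0).isLE_iff 0).2 fun i hi =>
    (HomologicalComplex.exactAt_iff_isZero_homology _ _).2 (h0 i hi)
  haveI : (Q.obj (K.obj 0)).IsLE 0 := inferInstance
  intro n
  induction n with
  | zero =>
    intro _
    haveI : (K.obj 0).IsLE (-((0 : ℕ) : ℤ)) := by simpa using h0'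
    refine ⟨inv (Q.map ((K.obj 0).ιTruncLE (-((0 : ℕ) : ℤ)))), ?_⟩
    rw [IsIso.inv_hom_id, show homOfLE (Nat.zero_le 0) = 𝟙 0 from rfl, K.map_id, Q.map_id]
  | succ n ih =>
    intro hz
    obtain ⟨φ, hφ⟩ := ih fun j hj => hz j (by omega)
    have hh : (homologyFunctor A (-(n : ℤ))).map
        (Q.map ((K.obj n).ιTruncLE (-(n : ℤ))) ≫ Q.map (K.map (homOfLE (Nat.le_succ n)))) = 0 := by
      rw [Functor.map_comp, homology_Q_map _ _ (hz n (by omega)), comp_zero]
    obtain ⟨ψ, hψ⟩ := exists_lift_step (K.obj (n + 1)) (-(n : ℤ)) (-((n + 1 : ℕ) : ℤ)) (by omega) _ hh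
    refine ⟨φ ≫ ψ, ?_⟩
    rw [Category.assoc, hψ, reassoc_of% hφ, ← Q.map_comp, ← K.map_comp]
    rfl

theorem desc_sequence (K : ℕᵒᵖ ⥤ CochainComplex A ℤ)
    (h0 : ∀ i : ℤ, i < 0 → IsZero ((K.obj (Opposite.op 0)).homology i)) : ∀ (n : ℕ)
    (_ : ∀ j : ℕ, j < n →
      HomologicalComplex.homologyMap (K.map (homOfLE (Nat.le_succ j)).op) (j : ℤ) = 0),
    ∃ φ : Q.obj ((K.obj (Opposite.op n)).truncGE (n : ℤ)) ⟶ Q.obj (K.obj (Opposite.op 0)),
      Q.map ((K.obj (Opposite.op n)).πTruncGE (n : ℤ)) ≫ φ =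
        Q.map (K.map (homOfLE (Nat.zero_le n)).op) := by
  haveI h0' : (K.obj (Opposite.op 0)).IsGE 0 := ((K.obj _).isGE_iff 0).2 fun i hi =>
    (HomologicalComplex.exactAt_iff_isZero_homology _ _).2 (h0 i hi)
  intro n
  induction n with
  | zero =>
    intro _
    haveI : (K.obj (Opposite.op 0)).IsGE ((0 : ℕ) : ℤ) := by simpa using h0'
    refine ⟨inv (Q.map ((K.obj (Opposite.op 0)).πTruncGE ((0 : ℕ) : ℤ))), ?_⟩
    rw [IsIso.hom_inv_id, show (homOfLE (Nat.zero_le 0)).op = 𝟙 (Opposite.op 0) from rfl, K.map_id,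
      Q.map_id]
  | succ n ih =>
    intro hz
    obtain ⟨φ, hφ⟩ := ih fun j hj => hz j (by omega)
    have hh : (homologyFunctor A (n : ℤ)).map
        (Q.map (K.map (homOfLE (Nat.le_succ n)).op) ≫
          Q.map ((K.obj (Opposite.op n)).πTruncGE (n : ℤ))) = 0 := by
      rw [Functor.map_comp, homology_Q_map _ _ (hz n (by omega)), zero_comp]
    obtain ⟨ψ, hψ⟩ :=
      exists_desc_step (K.obj (Opposite.op (n + 1))) (n : ℤ) ((n + 1 : ℕ) : ℤ) (by omega) _ hh
    refine ⟨ψ ≫ φ, ?_⟩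
    rw [reassoc_of% hψ, hφ, ← Q.map_comp, ← K.map_comp]
    rfl

end Groth.Agent.TriH.TruncFactor
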