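import Groth.Agent.TriH.Brown
import Groth.Prelude.Def_CohDer
import Mathlib.CategoryTheory.Adjunction.PartialAdjoint
import Mathlib.CategoryTheory.Triangulated.Opposite.Functor
import Mathlib.CategoryTheory.Limits.Preserves.Opposites

/-! # Consequences of Brown representability -/

set_option linter.unusedSectionVars false

namespace Groth.Agent.TriH

open CategoryTheory CategoryTheory.Limits CategoryTheory.Pretriangulated
open Opposite CategoryTheory.Pretriangulated.Opposite

universe v u u'

variable {D : Type u} [Category.{v} D] [Preadditive D] [HasZeroObject D] [HasShift D ℤ]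
  [∀ n : ℤ, (shiftFunctor D n).Additive] [Pretriangulated D] [HasCoproducts.{v} D]

theorem hasCoproductsNat : HasColimitsOfShape (Discrete ℕ) D :=
  hasColimitsOfShape_of_equivalence (Discrete.equivalence (Equiv.ulift.{v} (α := ℕ)))

theorem factors_of_compact [HasColimitsOfShape (Discrete ℕ) D] {ι : Type v} (E : ι → D) (i : ι)
    (hc : CohDer.IsCompactObject (E i)) : Factors E (E i) := by
  classical
  intro X α
  let X' : ULift.{v} ℕ → D := fun n => X n.down
  let u : (∐ X) ⟶ ∐ X' := Sigma.desc fun n => Sigma.ι X' ⟨n⟩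
  let w : (∐ X') ⟶ ∐ X := Sigma.desc fun n => Sigma.ι X n.down
  have huw : u ≫ w = 𝟙 _ := Sigma.hom_ext _ _ fun n => by simp [u, w]
  obtain ⟨s, hs⟩ := (hc _ X').2 (α ≫ u)
  refine ⟨fun _ => i, fun n => s ⟨n⟩, ∑ p ∈ s.support, Sigma.ι (fun _ : ℕ => E i) p.down, ?_⟩
  calc α = CohDer.homSumToHomCoprod (E i) X' s ≫ w := by rw [hs, Category.assoc, huw, Category.comp_id]
    _ = (∑ p ∈ s.support, s p ≫ Sigma.ι X' p) ≫ w := by
      congr 1
      conv_lhs => rw [← DirectSum.sum_support_of s]
      simp only [CohDer.homSumToHomCoprod, Preadditive.rightComp, map_sum]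
      refine Finset.sum_congr rfl fun x _ => ?_
      convert DirectSum.toAddMonoid_of (β := fun j => E i ⟶ X' j) (fun j => AddMonoidHom.mk' (fun f => f ≫ Sigma.ι X' j) (fun _ _ => Preadditive.add_comp _ _ _ _ _ _)) x (s x) <;> first | rfl | exact Subsingleton.elim _ _
    _ = _ := by simp [w, Preadditive.sum_comp, X']

theorem hgen_of_generates {ι : Type*} (E : ι → D) (hE : CohDer.Generates E) (X : D) (hX : ¬ IsZero X) :
    ∃ (i : ι) (n : ℤ) (f : (shiftFunctor D n).obj (E i) ⟶ X), f ≠ 0 := by
  by_contra hne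
  push Not at hne
  refine hX (hE X fun i n f => ?_)
  have h0 := hne i (-n) ((shiftFunctor D (-n)).map f ≫
    (shiftFunctorCompIsoId D n (-n) (by simp)).hom.app X)
  have h1 : (shiftFunctor D (-n)).map f = 0 := by
    rw [← cancel_mono ((shiftFunctorCompIsoId D n (-n) (by simp)).hom.app X), h0, zero_comp]
  exact (shiftFunctor D (-n)).map_eq_zero_iff.1 h1

theorem brown_compact (hD : CohDer.IsCompactlyGenerated D)
    (H : Dᵒᵖ ⥤ AddCommGrpCat.{v}) [H.IsHomological]
    [∀ (J : Type v), PreservesLimitsOfShape (Discrete J) H] :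
    (H ⋙ forget AddCommGrpCat.{v}).IsRepresentable := by
  have := hasCoproductsNat (D := D)
  obtain ⟨ι, E, hc, hg⟩ := hD
  exact brown E (hgen_of_generates E hg) (fun i => factors_of_compact E i (hc i)) H

theorem isLeftAdjoint_of_representable
    (hrep : ∀ (H : Dᵒᵖ ⥤ AddCommGrpCat.{v}) [H.IsHomological]
      [∀ (J : Type v), PreservesLimitsOfShape (Discrete J) H],
      (H ⋙ forget AddCommGrpCat.{v}).IsRepresentable)
    {D' : Type u'} [Category.{v} D'] [Preadditive D'] [HasZeroObject D'] [HasShift D' ℤ]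
    [∀ n : ℤ, (shiftFunctor D' n).Additive] [Pretriangulated D']
    (F : D ⥤ D') [F.CommShift ℤ] [F.IsTriangulated]
    [∀ (J : Type v), PreservesColimitsOfShape (Discrete J) F] : F.IsLeftAdjoint := by
  refine Functor.isLeftAdjoint_of_rightAdjointObjIsDefined_eq_top ?_
  ext Y
  simp only [Pi.top_apply, Prop.top_eq_true, iff_true]
  rw [Functor.rightAdjointObjIsDefined_iff]
  have : ∀ (J : Type v), PreservesLimitsOfShape (Discrete J) F.op := fun J => by
    have := preservesColimitsOfShape_of_equiv (Discrete.opposite J).symm F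
    exact preservesLimitsOfShape_op _ _
  exact hrep (F.op ⋙ preadditiveYoneda.obj Y)

end Groth.Agent.TriH
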