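import Groth.Agent.TriH.KInjExist
import Groth.Agent.TriH.DerivedProducts
import Groth.Agent.TriH.DerivedCoproducts
import Groth.Agent.TriH.BrownApps
import Mathlib.Algebra.Homology.DerivedCategory.HomologySequence
import Mathlib.Algebra.Homology.SingleHomology
import Mathlib.CategoryTheory.Preadditive.LiftToFinset
import Mathlib.CategoryTheory.Abelian.GrothendieckAxioms.Colim

/-!
# Factorisation through small complexes in derived categories

A family `member G` of complexes, indexed by a small type, such that in the derived category every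
morphism from a member to a countable coproduct factors componentwise through a countable coproduct
of members.
-/

set_option autoImplicit false

open CategoryTheory CategoryTheory.Limits ZeroObject
open CategoryTheory.Pretriangulated.Opposite

namespace Groth.Agent.TriH

universe v u

section Projections

variable {C : Type u} [Category.{v} C] [Abelian C] [IsGrothendieckAbelian.{v} C]

open CoproductsFromFiniteFiltered in
lemma eq_zero_of_comp_sigma_π (Y : ℕ → C) [HasCoproduct Y] {X : C} (g : X ⟶ ∐ Y)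
    (h : ∀ n, g ≫ Sigma.π Y n = 0) : g = 0 := by
  haveI : AB5OfSize.{0, 0} C := AB5OfSize_shrink C
  haveI : HasColimitsOfShape (Finset (Discrete ℕ)) C := inferInstance
  haveI : HasExactColimitsOfShape (Finset (Discrete ℕ)) C := inferInstance
  refine Closure.pullback_jointly_epi (isColimitFiniteSubproductsCocone Y) g g fun S => ?_
  let c := finiteSubcoproductsCocone Y
  let P := pullback c.ι ((Functor.const (Finset (Discrete ℕ))).map g)
  let p := (pullback.fst c.ι ((Functor.const (Finset (Discrete ℕ))).map g)).app S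
  let q := (pullback.snd c.ι ((Functor.const (Finset (Discrete ℕ))).map g)).app S
  have hpq : p ≫ c.ι.app S = q ≫ g :=
    congrArg (fun x => x.app S)
      (pullback.condition (f := c.ι) (g := (Functor.const (Finset (Discrete ℕ))).map g))
  show q ≫ g = 0
  refine hpq.symm.trans ?_
  have hs : c.ι.app S = ∑ a ∈ S.attach, Sigma.π _ a ≫ Sigma.ι _ a.1.as :=
    finiteSubcoproductsCocone_ι_app_eq_sum Y S
  refine (congrArg (p ≫ ·) hs).trans ((Preadditive.comp_sum _ _ _).trans ?_)
  refine Finset.sum_eq_zero fun a _ => ?_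
  have ha : c.ι.app S ≫ Sigma.π Y a.1.as =
      Sigma.π (fun x : S => (Discrete.functor Y).obj x.1) a := by
    refine Sigma.hom_ext _ _ fun b => ?_
    erw [colimit.ι_desc_assoc]
    by_cases hab : b = a
    · subst hab
      exact (Sigma.ι_π_eq_id Y _).trans (Sigma.ι_π_eq_id (fun x : S => (Discrete.functor Y).obj x.1) b).symm
    · exact (Sigma.ι_π_of_ne Y (fun e => hab (Subtype.ext (Discrete.ext e)))).trans
        (Sigma.ι_π_of_ne (fun x : S => (Discrete.functor Y).obj x.1) hab).symm
  refine (Category.assoc _ _ _).symm.trans ?_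
  have h0 : p ≫ c.ι.app S ≫ Sigma.π Y a.1.as = 0 := by
    refine (Category.assoc _ _ _).symm.trans ?_
    refine (congrArg (· ≫ Sigma.π Y a.1.as) hpq).trans ?_
    exact (Category.assoc _ _ _).trans ((congrArg (q ≫ ·) (h _)).trans comp_zero)
  have h1 := (congrArg (p ≫ ·) ha).symm.trans h0
  exact (congrArg (· ≫ Sigma.ι _ a.1.as) h1).trans zero_comp

lemma exists_lift_sigma_map (Y I : ℕ → C) [HasCoproduct Y] [HasCoproduct I] (ι : ∀ n, I n ⟶ Y n)
    [∀ n, Mono (ι n)] {X : C} (g : X ⟶ ∐ Y)
    (h : ∀ n, g ≫ Sigma.π Y n ≫ cokernel.π (ι n) = 0) :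
    ∃ g' : X ⟶ ∐ I, g' ≫ Limits.Sigma.map ι = g := by
  haveI : AB5OfSize.{0, 0} C := AB5OfSize_shrink C
  haveI := HasFiniteBiproducts.of_hasFiniteProducts (C := C)
  haveI : HasColimitsOfShape (Finset (Discrete ℕ)) C := inferInstance
  haveI : HasExactColimitsOfShape (Finset (Discrete ℕ)) C := inferInstance
  haveI : HasExactColimitsOfShape (Discrete ℕ) C :=
    hasExactColimitsOfShape_discrete_of_hasExactColimitsOfShape_finset_discrete C ℕ
  let R : ℕ → C := fun n => cokernel (ι n)
  let r : ∐ Y ⟶ ∐ R := Limits.Sigma.map fun n => cokernel.π (ι n)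
  have hr : g ≫ r = 0 := eq_zero_of_comp_sigma_π R _ fun n => by
    have : r ≫ Sigma.π R n = Sigma.π Y n ≫ cokernel.π (ι n) := Sigma.hom_ext _ _ fun m => by
      by_cases hmn : m = n
      · subst hmn; simp [r, R]
      · simp [r, R, Sigma.ι_π_of_ne _ hmn, Sigma.ι_π_of_ne_assoc _ hmn]
    rw [Category.assoc, this, h]
  let sc : ShortComplex (Discrete ℕ ⥤ C) := ShortComplex.mk
    (Discrete.natTrans fun n => ι n.as : Discrete.functor I ⟶ Discrete.functor Y)
    (Discrete.natTrans fun n => cokernel.π (ι n.as) : Discrete.functor Y ⟶ Discrete.functor R)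
    (by ext n; exact cokernel.condition (ι n.as))
  have hsc : sc.Exact := (ShortComplex.exact_iff_isZero_homology _).2
    (Functor.isZero _ fun n => IsZero.of_iso ((ShortComplex.exact_iff_isZero_homology _).1
      (ShortComplex.exact_cokernel (ι n.as)))
      (sc.mapHomologyIso ((evaluation (Discrete ℕ) C).obj n)).symm)
  haveI : ∀ n, Mono (sc.f.app n) := fun n => inferInstanceAs (Mono (ι n.as))
  haveI : Mono sc.f := NatTrans.mono_of_mono_app _
  haveI : Mono (sc.map colim).f := inferInstanceAs (Mono (colim.map sc.f))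
  exact ⟨(hsc.map colim).lift g hr, (hsc.map colim).lift_f g hr⟩

end Projections

variable {A : Type u} [Category.{v} A] [Abelian A] [IsGrothendieckAbelian.{v} A] (G : A)

/-- The closure generator attached to all maps from `G` to `K`. -/
noncomputable abbrev T (K : CochainComplex A ℤ) : CochainComplex A ℤ :=
  Closure.gen G (Closure.BigIdx G fun m => G ⟶ K.X m)

/-- The subobject named by an element of the shrunk type. -/
noncomputable abbrev sub {X : CochainComplex A ℤ} (s : Shrink.{v} (Subobject X)) : Subobject X :=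
  (equivShrink _).symm s

/-- Quotients of subobjects of quotients of `K ⊞ T G K`. -/
structure Nxt (K : CochainComplex A ℤ) : Type v where
  /-- first kernel -/
  N : Shrink.{v} (Subobject (K ⊞ T G K))
  /-- subobject -/
  P : Shrink.{v} (Subobject (cokernel (sub N).arrow))
  /-- second kernel -/
  M : Shrink.{v} (Subobject (sub P : CochainComplex A ℤ))

variable {G}

/-- The complex attached to an index. -/
noncomputable def Nxt.obj {K : CochainComplex A ℤ} (i : Nxt G K) : CochainComplex A ℤ :=
  cokernel (sub i.M).arrow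

lemma nonempty_cokernel_iso_of_eq {X Z : CochainComplex A ℤ} (M : Subobject X) (p : X ⟶ Z) [Epi p]
    (h : M = kernelSubobject p) : Nonempty (cokernel M.arrow ≅ Z) := by
  subst h
  let i1 := IsColimit.coconePointUniqueUpToIso (cokernelIsCokernel (kernel.ι p))
    (Abelian.epiIsCokernelOfKernel (KernelFork.ofι _ (kernel.condition p)) (kernelIsKernel p))
  exact ⟨cokernelIsoOfEq (kernelSubobject_arrow p).symm ≪≫ cokernelEpiComp _ _ ≪≫ i1⟩

lemma exists_nxt {K : CochainComplex A ℤ} (N : Subobject (K ⊞ T G K))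
    (P : Subobject (cokernel N.arrow)) {Z : CochainComplex A ℤ}
    (p : (P : CochainComplex A ℤ) ⟶ Z) [Epi p] : ∃ i : Nxt G K, Nonempty (i.obj ≅ Z) := by
  obtain ⟨N, rfl⟩ := (equivShrink.{v} (Subobject (K ⊞ T G K))).symm.surjective N
  obtain ⟨P, rfl⟩ := (equivShrink.{v} (Subobject _)).symm.surjective P
  exact ⟨⟨N, P, equivShrink _ (kernelSubobject p)⟩,
    nonempty_cokernel_iso_of_eq _ p (Equiv.symm_apply_apply _ _)⟩

variable [HasDerivedCategory.{v} A]

/-- Factorisation of a morphism in the derived category through an actual morphism of complexes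
from a subobject of a quotient of `K ⊞ T G K`. -/
lemma exists_factor (hG : IsSeparator G) {K Y : CochainComplex A ℤ}
    (α : DerivedCategory.Q.obj K ⟶ DerivedCategory.Q.obj Y) :
    ∃ (N : Subobject (K ⊞ T G K)) (P : Subobject (cokernel N.arrow))
      (g : (P : CochainComplex A ℤ) ⟶ Y)
      (δ : DerivedCategory.Q.obj K ⟶ DerivedCategory.Q.obj (P : CochainComplex A ℤ)),
      α = δ ≫ DerivedCategory.Q.map g := by
  classical
  obtain ⟨J, t, hJ, ht, htm, -⟩ := exists_kInjective_resolution Y
  haveI : Mono t := HomologicalComplex.mono_of_mono_f _ htm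
  haveI := ht
  obtain ⟨a, ha⟩ := Q_map_surjective_of_isKInjective K J (α ≫ DerivedCategory.Q.map t)
  let q := cokernel.π t
  let S₀ := ShortComplex.mk t q (cokernel.condition t)
  have hS₀ : S₀.ShortExact := { exact := ShortComplex.exact_cokernel t }
  haveI : Mono S₀.f := inferInstanceAs (Mono t)
  have hW : (cokernel t).Acyclic := fun k => by
    rw [HomologicalComplex.exactAt_iff_isZero_homology]
    haveI : ∀ n, IsIso (HomologicalComplex.homologyMap S₀.f n) := fun n =>
      (quasiIsoAt_iff_isIso_homologyMap t n).1 inferInstance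
    refine (hS₀.homology_exact₃ k (k + 1) rfl).isZero_X₂ ?_ ?_
    · rw [← cancel_epi (HomologicalComplex.homologyMap S₀.f k), comp_zero,
        ← HomologicalComplex.homologyMap_comp, S₀.zero, HomologicalComplex.homologyMap_zero]
    · rw [← cancel_mono (HomologicalComplex.homologyMap S₀.f (k + 1)), zero_comp]
      exact hS₀.δ_comp _ _ _
  let b := a ≫ q
  let a₀ : ∀ m, (G ⟶ K.X m) → (G ⟶ (cokernel t).X m) := fun m g => g ≫ b.f m
  obtain ⟨f, e, he, hef⟩ := Closure.exists_lift hG (cokernel t) a₀ q
  haveI := he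
  let ι := Closure.closι (cokernel t) a₀
  haveI : Mono ι := HomologicalComplex.mono_of_mono_f _ (Closure.mono_closι_f (cokernel t) a₀)
  let W₀ := Closure.clos (cokernel t) a₀
  have hW₀ : W₀.Acyclic := Closure.acyclic_clos hG (cokernel t) a₀ hW
  have hb : b ≫ cokernel.π ι = 0 := by
    ext m
    refine hG.def _ _ fun g => ?_
    have h1 : Closure.φ (cokernel t) a₀ 0 ≫ cokernel.π ι = 0 := by
      rw [← Closure.toClos_closι, Category.assoc, cokernel.condition, comp_zero]
    have h2 := congrArg (fun x => Closure.γ m (g : Closure.Idx G (fun m => G ⟶ K.X m) 0 m) ≫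
      HomologicalComplex.Hom.f x m) h1
    simp only [HomologicalComplex.comp_f, HomologicalComplex.zero_f, comp_zero] at h2 ⊢
    rw [Closure.γ_genDesc_assoc] at h2
    exact (Category.assoc _ _ _).symm.trans h2
  let h : K ⊞ T G K ⟶ J := biprod.desc a f
  let N := kernelSubobject h
  let π := cokernel.π N.arrow
  let j : cokernel N.arrow ⟶ J := cokernel.desc N.arrow h (kernelSubobject_arrow_comp h)
  haveI : Mono j := by
    let i1 : cokernel N.arrow ≅ Abelian.coimage h :=
      cokernelIsoOfEq (kernelSubobject_arrow h).symm ≪≫ cokernelEpiComp _ _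
    have hj : j = i1.hom ≫ Abelian.factorThruCoimage h := by
      rw [← cancel_epi π]
      simp [π, j, i1, cokernelEpiComp]
    rw [hj]
    infer_instance
  let ιI := ShortComplex.mk ι (cokernel.π ι) (cokernel.condition ι)
  haveI : Mono ιI.f := inferInstanceAs (Mono ι)
  have hjq : (j ≫ q) ≫ ιI.g = 0 := by
    rw [← cancel_epi π]
    apply biprod.hom_ext'
    · simpa [π, j, h, ιI, b] using hb
    · simp [π, j, h, ιI]
      rw [← reassoc_of% hef]
      simp [ι]
  let e' : cokernel N.arrow ⟶ W₀ := (ShortComplex.exact_cokernel ι).lift (j ≫ q) hjq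
  have he' : e' ≫ ι = j ≫ q := (ShortComplex.exact_cokernel ι).lift_f _ _
  haveI : Epi e' := by
    refine epi_of_epi_fac (f := biprod.inr ≫ π) (h := e) ?_
    rw [← cancel_mono ι, Category.assoc, Category.assoc, he', hef]
    simp [π, j, h]
  let P := kernelSubobject e'
  have hP : (P.arrow ≫ j) ≫ S₀.g = 0 := by
    rw [Category.assoc]
    show P.arrow ≫ j ≫ q = 0
    rw [← he', kernelSubobject_arrow_comp_assoc, zero_comp]
  let g : (P : CochainComplex A ℤ) ⟶ Y := (ShortComplex.exact_cokernel t).lift (P.arrow ≫ j) hP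
  have hg : g ≫ t = P.arrow ≫ j := (ShortComplex.exact_cokernel t).lift_f _ _
  let S₁ := ShortComplex.mk P.arrow e' (kernelSubobject_arrow_comp e')
  haveI : Mono S₁.f := inferInstanceAs (Mono P.arrow)
  haveI : Epi S₁.g := inferInstanceAs (Epi e')
  have hS₁ : S₁.ShortExact := { exact := ShortComplex.exact_of_f_is_kernel _ (by
    refine IsLimit.ofIsoLimit (kernelIsKernel e') (Fork.ext (kernelSubobjectIso e').symm ?_)
    exact (Subobject.underlyingIso_arrow _).trans rfl) }
  haveI : QuasiIso P.arrow := by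
    rw [quasiIso_iff]
    intro k
    rw [quasiIsoAt_iff_isIso_homologyMap]
    haveI : Mono (HomologicalComplex.homologyMap P.arrow k) :=
      (hS₁.homology_exact₁ (k - 1) k (by simp)).mono_g
        ((isZero_homology_of_acyclic hW₀ (k - 1)).eq_of_src _ _)
    haveI : Epi (HomologicalComplex.homologyMap P.arrow k) :=
      (hS₁.homology_exact₂ k).epi_f ((isZero_homology_of_acyclic hW₀ k).eq_of_tgt _ _)
    exact isIso_of_mono_of_epi _
  refine ⟨N, P, g, DerivedCategory.Q.map (biprod.inl ≫ π) ≫ inv (DerivedCategory.Q.map P.arrow), ?_⟩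
  rw [← cancel_mono (DerivedCategory.Q.map t), ← ha, Category.assoc, Category.assoc,
    ← Functor.map_comp, hg, Functor.map_comp DerivedCategory.Q P.arrow j, IsIso.inv_hom_id_assoc,
    ← Functor.map_comp]
  congr 1
  simp [π, j, h]

variable (G)

/-- The levels of small complexes. -/
noncomputable def lev : ℕ → Σ κ : Type v, κ → CochainComplex A ℤ
  | 0 => ⟨ULift.{v} ℤ, fun n => (HomologicalComplex.single A (ComplexShape.up ℤ) n.down).obj G⟩
  | k + 1 => ⟨Σ i : (lev k).1, Nxt G ((lev k).2 i), fun i => i.2.obj⟩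

/-- The small family. -/
noncomputable def member (i : Σ k : ℕ, (lev G k).1) : CochainComplex A ℤ := (lev G i.1).2 i.2

variable {G}

lemma factors_member (hG : IsSeparator G) [HasCoproducts.{v} (DerivedCategory A)]
    [HasColimitsOfShape (Discrete ℕ) (DerivedCategory A)] (i : Σ k : ℕ, (lev G k).1)
    (X : ℕ → DerivedCategory A) (α : DerivedCategory.Q.obj (member G i) ⟶ ∐ X) :
    ∃ (j : ℕ → Σ k : ℕ, (lev G k).1) (β : ∀ n, DerivedCategory.Q.obj (member G (j n)) ⟶ X n)
      (γ : DerivedCategory.Q.obj (member G i) ⟶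
        ∐ fun n => DerivedCategory.Q.obj (member G (j n))),
      α = γ ≫ Limits.Sigma.map β := by
  have hK : ∀ M : CochainComplex A ℤ, ∃ (I : CochainComplex A ℤ) (f : M ⟶ I),
      I.IsKInjective ∧ QuasiIso f :=
    fun M => (exists_kInjective_resolution M).imp fun I ⟨f, h1, h2, _⟩ => ⟨f, h1, h2⟩
  let Y : ℕ → CochainComplex A ℤ := fun n => DerivedCategory.Q.objPreimage (X n)
  let u : ∀ n, DerivedCategory.Q.obj (Y n) ≅ X n := fun n => DerivedCategory.Q.objObjPreimageIso _
  obtain ⟨hY⟩ := isColimit_Q_cofan hK Y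
  let U : DerivedCategory.Q.obj (∐ Y) ⟶ ∐ X :=
    Cofan.IsColimit.desc hY fun n => (u n).hom ≫ Sigma.ι X n
  have hU : ∀ n, DerivedCategory.Q.map (Sigma.ι Y n) ≫ U = (u n).hom ≫ Sigma.ι X n :=
    fun n => Cofan.IsColimit.fac hY _ n
  let V : ∐ X ⟶ DerivedCategory.Q.obj (∐ Y) :=
    Sigma.desc fun n => (u n).inv ≫ DerivedCategory.Q.map (Sigma.ι Y n)
  have hVU : V ≫ U = 𝟙 _ := Sigma.hom_ext _ _ fun n => by simp [V, hU]
  obtain ⟨N, P, g, δ, hδ⟩ := exists_factor hG (α ≫ V)
  let gn : ∀ n, (P : CochainComplex A ℤ) ⟶ Y n := fun n => g ≫ Sigma.π Y n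
  have hn : ∀ n, ∃ j : Σ k : ℕ, (lev G k).1, Nonempty (member G j ≅ Abelian.image (gn n)) :=
    fun n => by
      obtain ⟨q, hq⟩ := exists_nxt N P (Abelian.factorThruImage (gn n))
      exact ⟨⟨i.1 + 1, ⟨i.2, q⟩⟩, hq⟩
  choose j e using hn
  let Z : ℕ → CochainComplex A ℤ := fun n => member G (j n)
  let ι : ∀ n, Z n ⟶ Y n := fun n => (e n).some.hom ≫ Abelian.image.ι (gn n)
  haveI : ∀ n, Mono (ι n) := fun n => mono_comp _ _
  obtain ⟨g', hg'⟩ := exists_lift_sigma_map Y Z ι g (fun n => by
    show g ≫ Sigma.π Y n ≫ cokernel.π (ι n) = 0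
    refine (Category.assoc _ _ _).symm.trans ?_
    show gn n ≫ _ = 0
    have : Abelian.image.ι (gn n) ≫ cokernel.π (ι n) = 0 := by
      refine (cancel_epi (e n).some.hom).1 ?_
      exact ((Category.assoc _ _ _).symm.trans (cokernel.condition (ι n))).trans comp_zero.symm
    exact (congrArg (· ≫ cokernel.π (ι n)) (Abelian.image.fac (gn n)).symm).trans
      ((Category.assoc _ _ _).trans ((congrArg (Abelian.factorThruImage (gn n) ≫ ·) this).trans comp_zero)))
  obtain ⟨hZ⟩ := isColimit_Q_cofan hK Z
  refine ⟨j, fun n => DerivedCategory.Q.map (ι n) ≫ (u n).hom,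
    δ ≫ DerivedCategory.Q.map g' ≫ Cofan.IsColimit.desc hZ
      (fun n => Sigma.ι (fun n => DerivedCategory.Q.obj (Z n)) n), ?_⟩
  have h1 : α = δ ≫ DerivedCategory.Q.map g' ≫ DerivedCategory.Q.map (Limits.Sigma.map ι) ≫ U := by
    rw [← Functor.map_comp_assoc, hg', ← reassoc_of% hδ, hVU, Category.comp_id]
  refine h1.trans ?_
  simp only [Category.assoc]
  congr 2
  refine Cofan.IsColimit.hom_ext hZ _ _ fun n => ?_
  show DerivedCategory.Q.map (Sigma.ι Z n) ≫ _ = DerivedCategory.Q.map (Sigma.ι Z n) ≫ _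
  rw [← Functor.map_comp_assoc, Limits.Sigma.ι_map, Functor.map_comp, Category.assoc, hU]
  have h2 : DerivedCategory.Q.map (Sigma.ι Z n) ≫ Cofan.IsColimit.desc hZ
      (fun n => Sigma.ι (fun n => DerivedCategory.Q.obj (Z n)) n) =
        Sigma.ι (fun n => DerivedCategory.Q.obj (Z n)) n := Cofan.IsColimit.fac hZ _ n
  rw [reassoc_of% h2]
  simp

omit [IsGrothendieckAbelian.{v} A] in
lemma isZero_Q {K : CochainComplex A ℤ} (hK : K.Acyclic) :
    IsZero (DerivedCategory.Q.obj K) := by
  have hZ : IsZero (0 : CochainComplex A ℤ) := isZero_zero _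
  haveI : QuasiIso (0 : K ⟶ (0 : CochainComplex A ℤ)) := by
    rw [quasiIso_iff]
    intro k
    rw [quasiIsoAt_iff_isIso_homologyMap]
    exact ⟨0, ((HomologicalComplex.exactAt_iff_isZero_homology _ _).1 (hK k)).eq_of_src _ _,
      ((HomologicalComplex.homologyFunctor A (ComplexShape.up ℤ) k).map_isZero hZ).eq_of_src _ _⟩
  exact IsZero.of_iso (DerivedCategory.Q.map_isZero hZ)
    (asIso (DerivedCategory.Q.map (0 : K ⟶ (0 : CochainComplex A ℤ))))

lemma generates_member (hG : IsSeparator G) (X : DerivedCategory A) (hX : ¬ IsZero X) :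
    ∃ (i : Σ k : ℕ, (lev G k).1) (n : ℤ)
      (f : (shiftFunctor (DerivedCategory A) n).obj (DerivedCategory.Q.obj (member G i)) ⟶ X),
      f ≠ 0 := by
  let K := DerivedCategory.Q.objPreimage X
  let u : DerivedCategory.Q.obj K ≅ X := DerivedCategory.Q.objObjPreimageIso X
  have hK : ¬ K.Acyclic := fun hK => hX (IsZero.of_iso (isZero_Q hK) u.symm)
  obtain ⟨m, hm⟩ := not_forall.1 hK
  rw [HomologicalComplex.exactAt_iff_isZero_homology, IsZero.iff_id_eq_zero] at hm
  obtain ⟨c, hc⟩ : ∃ c : G ⟶ K.cycles m, c ≫ K.homologyπ m ≠ 0 := by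
    by_contra hne
    push Not at hne
    refine hm ?_
    rw [← cancel_epi (K.homologyπ m), comp_zero, Category.comp_id]
    exact hG.def _ _ fun c => (hne c).trans comp_zero.symm
  let s := HomologicalComplex.mkHomFromSingle (K := K) (c ≫ K.iCycles m) (fun j _ => by simp)
  refine ⟨⟨0, ⟨m⟩⟩, 0, (shiftFunctorZero (DerivedCategory A) ℤ).hom.app _ ≫
    DerivedCategory.Q.map s ≫ u.hom, fun h0 => hc ?_⟩
  have h1 : DerivedCategory.Q.map s = 0 :=
    (cancel_mono u.hom).1 (((cancel_epi ((shiftFunctorZero (DerivedCategory A) ℤ).hom.app _)).1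
      (h0.trans comp_zero.symm)).trans zero_comp.symm)
  have h2 : HomologicalComplex.homologyMap s m = 0 := by
    have := (DerivedCategory.homologyFunctorFactors A m).hom.naturality s
    simp only [Functor.comp_map, h1, Functor.map_zero, zero_comp] at this
    exact (cancel_epi ((DerivedCategory.homologyFunctorFactors A m).hom.app _)).1
      (this.symm.trans comp_zero.symm)
  have h3 : HomologicalComplex.cyclesMap s m =
      (HomologicalComplex.singleObjCyclesSelfIso (ComplexShape.up ℤ) m G).hom ≫ c := by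
    rw [← cancel_mono (K.iCycles m)]
    simp [s, HomologicalComplex.mkHomFromSingle_f, HomologicalComplex.singleObjCyclesSelfIso_hom]
  have h4 := HomologicalComplex.homologyπ_naturality s m
  rw [h2, comp_zero, h3, Category.assoc] at h4
  exact (cancel_epi _).1 (h4.symm.trans comp_zero.symm)

theorem brown_derivedCategory [HasCoproducts.{v} (DerivedCategory A)]
    (H : (DerivedCategory A)ᵒᵖ ⥤ AddCommGrpCat.{v}) [H.IsHomological]
    [∀ (J : Type v), PreservesLimitsOfShape (Discrete J) H] :
    (H ⋙ forget AddCommGrpCat.{v}).IsRepresentable := by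
  have := hasCoproductsNat (D := DerivedCategory A)
  exact brown (fun i => DerivedCategory.Q.obj (member (separator A) i))
    (generates_member (isSeparator_separator A))
    (fun i X α => factors_member (isSeparator_separator A) i X α) H

end Groth.Agent.TriH
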