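import Mathlib.Algebra.Homology.HomotopyCategory.KInjective
import Mathlib.Algebra.Homology.HomologicalComplexLimits
import Mathlib.CategoryTheory.Functor.OfSequence

/-!
# K-injectivity of sequential limits with degreewise split transition maps
-/

set_option autoImplicit false

open CategoryTheory CategoryTheory.Limits Opposite CochainComplex CochainComplex.HomComplex

namespace Groth.Agent.TriH

universe v u

variable {A : Type u} [Category.{v} A] [Abelian A]

lemma exists_compatible_cochain {K L M : CochainComplex A ℤ} [L.IsKInjective] [M.IsKInjective]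
    (hK : K.Acyclic) (π : M ⟶ L) [∀ m, IsSplitEpi (π.f m)] (g : K ⟶ M) (z : Cochain K L (-1))
    (hz : δ (-1) 0 z = Cochain.ofHom (g ≫ π)) :
    ∃ z' : Cochain K M (-1), δ (-1) 0 z' = Cochain.ofHom g ∧
      z'.comp (Cochain.ofHom π) (add_zero _) = z := by
  obtain ⟨z₀, hz₀⟩ := IsKInjective.eq_δ_of_cocycle (Cocycle.ofHom g) hK (-1) (by norm_num)
  have hz₀' : δ (-1) 0 z₀ = Cochain.ofHom g := hz₀
  let c : Cochain K L (-1) := z₀.comp (Cochain.ofHom π) (add_zero _) - z
  have hc : δ (-1) 0 c = 0 := by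
    simp [c, δ_sub, δ_comp_ofHom, hz₀', hz]
  obtain ⟨w, hw⟩ := IsKInjective.eq_δ_of_cocycle (Cocycle.mk c 0 (by norm_num) hc) hK (-2)
    (by norm_num)
  have hw' : δ (-2) (-1) w = c := hw
  let w' : Cochain K M (-2) := Cochain.mk fun p q hpq => w.v p q hpq ≫ section_ (π.f q)
  have hw'' : w'.comp (Cochain.ofHom π) (add_zero _) = w := by
    ext p q hpq
    simp [w']
  refine ⟨z₀ - δ (-2) (-1) w', by simp [δ_sub, hz₀', δ_δ], ?_⟩
  rw [Cochain.sub_comp, ← δ_comp_ofHom, hw'', hw']
  simp [c]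

theorem isKInjective_limit [HasLimitsOfShape ℕᵒᵖ A] (I : ℕᵒᵖ ⥤ CochainComplex A ℤ)
    (h1 : ∀ n : ℕ, (I.obj (op n)).IsKInjective)
    (h2 : ∀ (n : ℕ) (m : ℤ), IsSplitEpi ((I.map (homOfLE (Nat.le_succ n)).op).f m)) :
    (limit I).IsKInjective where
  nonempty_homotopy_zero {K} f hK := by
    haveI := h1
    let π : ∀ n, I.obj (op (n + 1)) ⟶ I.obj (op n) := fun n => I.map (homOfLE (Nat.le_succ n)).op
    haveI : ∀ n m, IsSplitEpi ((π n).f m) := h2
    let g : ∀ n, K ⟶ I.obj (op n) := fun n => f ≫ limit.π I (op n)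
    have hg : ∀ n, g (n + 1) ≫ π n = g n := fun n => by
      simp only [g, π, Category.assoc, limit.w]
    let P : ∀ n, Set (Cochain K (I.obj (op n)) (-1)) := fun n =>
      {z | δ (-1) 0 z = Cochain.ofHom (g n)}
    have h0 : ∃ z, z ∈ P 0 :=
      IsKInjective.eq_δ_of_cocycle (Cocycle.ofHom (g 0)) hK (-1) (by norm_num)
    have hs : ∀ n (z : P n), ∃ z' : P (n + 1),
        z'.1.comp (Cochain.ofHom (π n)) (add_zero _) = z.1 := fun n z => by
      obtain ⟨z', h, h'⟩ := exists_compatible_cochain hK (π n) (g (n + 1)) z.1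
        (by rw [hg]; exact z.2)
      exact ⟨⟨z', h⟩, h'⟩
    choose next hnext using hs
    let z : ∀ n, P n := fun n => Nat.rec (motive := fun n => P n) ⟨h0.choose, h0.choose_spec⟩ next n
    let ev := HomologicalComplex.eval A (ComplexShape.up ℤ)
    let hl : ∀ m, IsLimit ((ev m).mapCone (limit.cone I)) :=
      fun m => isLimitOfPreserves _ (limit.isLimit I)
    let cone : ∀ (p q : ℤ), p + -1 = q → Cone (I ⋙ ev q) := fun p q hpq =>
      { pt := K.X p
        π := NatTrans.ofOpSequence (F := (Functor.const ℕᵒᵖ).obj (K.X p)) (G := I ⋙ ev q)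
          (fun n => (z n).1.v p q hpq) (fun n => by
            have := Cochain.congr_v (hnext n (z n)) p q hpq
            simp only [Cochain.comp_zero_cochain_v, Cochain.ofHom_v] at this
            exact (Category.id_comp _).trans this.symm) }
    let Z : Cochain K (limit I) (-1) := Cochain.mk fun p q hpq => (hl q).lift (cone p q hpq)
    have hZ : ∀ n, Z.comp (Cochain.ofHom (limit.π I (op n))) (add_zero _) = (z n).1 := fun n => by
      ext p q hpq
      simp only [Cochain.comp_zero_cochain_v, Cochain.ofHom_v, Z, Cochain.mk_v]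
      exact (hl q).fac (cone p q hpq) (op n)
    refine ⟨(Cochain.equivHomotopy f 0).symm ⟨Z, ?_⟩⟩
    rw [Cochain.ofHom_zero, add_zero]
    ext p
    refine (hl p).hom_ext fun ⟨n⟩ => ?_
    show (Cochain.ofHom f).v p p (add_zero p) ≫ (limit.π I (op n)).f p =
      (δ (-1) 0 Z).v p p (add_zero p) ≫ (limit.π I (op n)).f p
    rw [Cochain.ofHom_v]
    have h := Cochain.congr_v (δ_comp_ofHom Z (limit.π I (op n)) 0) p p (add_zero p)
    rw [hZ, (z n).2] at h
    simpa [g] using h

end Groth.Agent.TriH
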