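import Mathlib.CategoryTheory.Triangulated.Orthogonal
import Mathlib.CategoryTheory.Adjunction.PartialAdjoint

/-!
# Orthogonal decompositions in triangulated categories
-/

set_option autoImplicit false

open CategoryTheory CategoryTheory.Limits CategoryTheory.Pretriangulated ZeroObject

namespace Groth.Agent.TriH

universe v u

variable {D : Type u} [Category.{v} D] [Preadditive D] [HasZeroObject D] [HasShift D ℤ]
  [∀ n : ℤ, (shiftFunctor D n).Additive] [Pretriangulated D]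
  (B : ObjectProperty D) [B.IsTriangulated]

/-- `g : X ⟶ Y` is a reflection of `X` into `B`. -/
def IsRefl {X Y : D} (g : X ⟶ Y) : Prop :=
  B Y ∧ ∀ ⦃Q : D⦄, B Q → Function.Bijective (fun l : Y ⟶ Q => g ≫ l)

/-- `X` has a decomposition `A ⟶ X ⟶ Y` with `Y` in `B` and `A` left orthogonal to `B`. -/
def HasDecompL (X : D) : Prop :=
  ∃ (A Y : D) (f : A ⟶ X) (g : X ⟶ Y) (h : Y ⟶ (shiftFunctor D (1 : ℤ)).obj A),
    Triangle.mk f g h ∈ distinguishedTriangles ∧ B Y ∧ B.leftOrthogonal A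

lemma hasDecompL_iff (X : D) : HasDecompL B X ↔ ∃ (Y : D) (g : X ⟶ Y), IsRefl B g := by
  constructor
  · rintro ⟨A, Y, f, g, h, hT, hY, hA⟩
    refine ⟨Y, g, hY, fun Q hQ => ⟨?_, fun k => ?_⟩⟩
    · intro l l' hl
      rw [← sub_eq_zero]
      obtain ⟨m, hm⟩ : ∃ m, l - l' = h ≫ m := Triangle.yoneda_exact₃ _ hT (l - l')
        (show g ≫ (l - l') = 0 by rw [Preadditive.comp_sub, sub_eq_zero]; exact hl)
      rw [hm, B.leftOrthogonal.le_shift (1 : ℤ) _ hA m hQ, comp_zero]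
    · obtain ⟨l, hl⟩ : ∃ l, k = g ≫ l := Triangle.yoneda_exact₂ _ hT k (hA (f ≫ k) hQ)
      exact ⟨l, hl.symm⟩
  · rintro ⟨Y, g, hY, hg⟩
    obtain ⟨A, f, h, hT⟩ := distinguished_cocone_triangle₁ g
    refine ⟨A, Y, f, g, h, hT, hY, fun Q k hQ => ?_⟩
    have hQ' : B (Q⟦(1 : ℤ)⟧) := B.le_shift 1 _ hQ
    have h0 : h ≫ k⟦(1 : ℤ)⟧' = 0 := (hg hQ').1 (by
      show g ≫ h ≫ k⟦(1 : ℤ)⟧' = g ≫ 0
      have h23 : g ≫ h = 0 := comp_distTriang_mor_zero₂₃ _ hT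
      rw [reassoc_of% h23, zero_comp, comp_zero])
    obtain ⟨j, hj⟩ : ∃ j : X⟦(1 : ℤ)⟧ ⟶ Q⟦(1 : ℤ)⟧, k⟦(1 : ℤ)⟧' = (-f⟦(1 : ℤ)⟧') ≫ j :=
      Triangle.yoneda_exact₂ _ (rot_of_distTriang _ (rot_of_distTriang _ hT)) _ h0
    obtain ⟨j', rfl⟩ := (shiftFunctor D (1 : ℤ)).map_surjective j
    obtain ⟨l, rfl⟩ := (hg hQ).2 j'
    have hk : k = -(f ≫ g ≫ l) := (shiftFunctor D (1 : ℤ)).map_injective (by
      rw [hj, Functor.map_neg, Functor.map_comp, Preadditive.neg_comp]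
      simp only [Functor.map_comp])
    have h12 : f ≫ g = 0 := comp_distTriang_mor_zero₁₂ _ hT
    rw [hk, reassoc_of% h12, zero_comp, neg_zero]

/-- The property of being reflectable into `B`. -/
def ReflProp : ObjectProperty D := fun X => ∃ (Y : D) (g : X ⟶ Y), IsRefl B g

instance : (ReflProp B).IsClosedUnderIsomorphisms where
  of_iso := fun {X X'} e ⟨Y, g, hY, hg⟩ => ⟨Y, e.inv ≫ g, hY, fun Q hQ => by
    refine ⟨fun l l' hl => (hg hQ).1 ?_, fun k => ?_⟩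
    · exact (cancel_epi e.inv).1 (by simpa using hl)
    · obtain ⟨l, hl⟩ := (hg hQ).2 (e.hom ≫ k)
      refine ⟨l, ?_⟩
      show (e.inv ≫ g) ≫ l = k
      rw [Category.assoc]
      exact (congrArg (e.inv ≫ ·) hl).trans (e.inv_hom_id_assoc k)⟩

instance isTriangulated_reflProp : (ReflProp B).IsTriangulated where
  exists_zero := by
    obtain ⟨Z, hZ, hBZ⟩ := ObjectProperty.ContainsZero.exists_zero (P := B)
    exact ⟨Z, hZ, Z, 𝟙 Z, hBZ, fun Q _ =>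
      ⟨fun l l' _ => hZ.eq_of_src _ _, fun k => ⟨k, Category.id_comp k⟩⟩⟩
  isStableUnderShiftBy a := ⟨fun X ⟨Y, g, hY, hg⟩ => by
    refine ⟨Y⟦a⟧, g⟦a⟧', B.le_shift a _ hY, fun Q hQ => ?_⟩
    let adj := (shiftEquiv D a).toAdjunction
    have h := hg (B.le_shift (-a) _ hQ)
    have : (fun l : Y⟦a⟧ ⟶ Q => g⟦a⟧' ≫ l) =
        (adj.homEquiv X Q).symm ∘ (fun l => g ≫ l) ∘ (adj.homEquiv Y Q) := by
      funext l
      exact ((Equiv.symm_apply_eq _).2 (adj.homEquiv_naturality_left g l).symm).symm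
    rw [this]
    exact (adj.homEquiv X Q).symm.bijective.comp (h.comp (adj.homEquiv Y Q).bijective)⟩
  toIsTriangulatedClosed₂ := .mk' fun T hT ⟨Y₁, g₁, hY₁, hg₁⟩ ⟨Y₃, g₃, hY₃, hg₃⟩ => by
    obtain ⟨c, hc⟩ := (hg₃ (B.le_shift (1 : ℤ) _ hY₁)).2 (T.mor₃ ≫ g₁⟦(1 : ℤ)⟧')
    obtain ⟨Y₂, a, b, hT'⟩ := distinguished_cocone_triangle₂ c
    replace hc : g₃ ≫ c = T.mor₃ ≫ g₁⟦(1 : ℤ)⟧' := hc
    obtain ⟨g₂, hg₂a, hg₂b⟩ : ∃ g₂ : T.obj₂ ⟶ Y₂, T.mor₁ ≫ g₂ = g₁ ≫ a ∧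
        T.mor₂ ≫ g₃ = g₂ ≫ b :=
      complete_distinguished_triangle_morphism₂ T _ hT hT' g₁ g₃ hc.symm
    obtain ⟨Y₂', hY₂', ⟨e⟩⟩ := ObjectProperty.ext_of_isTriangulatedClosed₂' B _ hT' hY₁ hY₃
    refine ⟨Y₂', g₂ ≫ e.hom, hY₂', fun Q hQ => ?_⟩
    suffices h : Function.Bijective (fun l : Y₂ ⟶ Q => g₂ ≫ l) by
      have : (fun l : Y₂' ⟶ Q => (g₂ ≫ e.hom) ≫ l) = (fun l => g₂ ≫ l) ∘ (fun l => e.hom ≫ l) := by
        funext l; exact Category.assoc _ _ _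
      rw [this]
      exact h.comp ⟨fun l l' hl => (cancel_epi e.hom).1 hl, fun k => ⟨e.inv ≫ k, e.hom_inv_id_assoc k⟩⟩
    have hab : a ≫ b = 0 := comp_distTriang_mor_zero₁₂ _ hT'
    have hbc : b ≫ c = 0 := comp_distTriang_mor_zero₂₃ _ hT'
    have hQ' : B (Q⟦(-1 : ℤ)⟧) := B.le_shift _ _ hQ
    let adj := (shiftEquiv D (1 : ℤ)).toAdjunction
    have hg₁' : Function.Bijective (fun l : Y₁⟦(1 : ℤ)⟧ ⟶ Q => g₁⟦(1 : ℤ)⟧' ≫ l) := by
      have : (fun l : Y₁⟦(1 : ℤ)⟧ ⟶ Q => g₁⟦(1 : ℤ)⟧' ≫ l) =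
          (adj.homEquiv T.obj₁ Q).symm ∘ (fun l => g₁ ≫ l) ∘ (adj.homEquiv Y₁ Q) := by
        funext l
        exact ((Equiv.symm_apply_eq _).2 (adj.homEquiv_naturality_left g₁ l).symm).symm
      rw [this]
      exact (adj.homEquiv T.obj₁ Q).symm.bijective.comp
        ((hg₁ hQ').comp (adj.homEquiv Y₁ Q).bijective)
    constructor
    · intro l l' hl
      replace hl : g₂ ≫ l = g₂ ≫ l' := hl
      rw [← sub_eq_zero]
      have hm : g₂ ≫ (l - l') = 0 := by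
        rw [Preadditive.comp_sub, sub_eq_zero]; exact hl
      have ham : a ≫ (l - l') = 0 := (hg₁ hQ).1 (by
        show g₁ ≫ a ≫ (l - l') = g₁ ≫ 0
        rw [← reassoc_of% hg₂a, hm, comp_zero, comp_zero])
      obtain ⟨n, hn⟩ : ∃ n, l - l' = b ≫ n := Triangle.yoneda_exact₂ _ hT' _ ham
      obtain ⟨p, hp⟩ : ∃ p, g₃ ≫ n = T.mor₃ ≫ p := Triangle.yoneda_exact₃ _ hT _
        (by rw [reassoc_of% hg₂b, ← hn, hm])
      obtain ⟨p', hp'⟩ := hg₁'.2 p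
      have hn' : n = c ≫ p' := (hg₃ hQ).1 (by
        show g₃ ≫ n = g₃ ≫ c ≫ p'
        rw [hp, ← hp']
        show T.mor₃ ≫ g₁⟦(1 : ℤ)⟧' ≫ p' = _
        rw [← Category.assoc, ← hc, Category.assoc])
      rw [hn, hn', reassoc_of% hbc, zero_comp]
    · intro k
      obtain ⟨l₁, hl₁⟩ := (hg₁ hQ).2 (T.mor₁ ≫ k)
      replace hl₁ : g₁ ≫ l₁ = T.mor₁ ≫ k := hl₁
      have h31 : T.mor₃ ≫ T.mor₁⟦(1 : ℤ)⟧' = 0 := comp_distTriang_mor_zero₃₁ _ hT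
      have h0 : c ≫ l₁⟦(1 : ℤ)⟧' = 0 := (hg₃ (B.le_shift (1 : ℤ) _ hQ)).1 (by
        show g₃ ≫ c ≫ l₁⟦(1 : ℤ)⟧' = g₃ ≫ 0
        rw [comp_zero, reassoc_of% hc, ← Functor.map_comp, hl₁, Functor.map_comp, reassoc_of% h31,
          zero_comp])
      obtain ⟨j, hj⟩ : ∃ j : Y₂⟦(1 : ℤ)⟧ ⟶ Q⟦(1 : ℤ)⟧, l₁⟦(1 : ℤ)⟧' = (-a⟦(1 : ℤ)⟧') ≫ j :=
        Triangle.yoneda_exact₂ _ (rot_of_distTriang _ (rot_of_distTriang _ hT')) _ h0
      obtain ⟨m, rfl⟩ := (shiftFunctor D (1 : ℤ)).map_surjective j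
      have hm : l₁ = -(a ≫ m) := (shiftFunctor D (1 : ℤ)).map_injective (by
        rw [hj, Functor.map_neg, Functor.map_comp, Preadditive.neg_comp])
      obtain ⟨n, hn⟩ : ∃ n, k + g₂ ≫ m = T.mor₂ ≫ n := Triangle.yoneda_exact₂ _ hT _ (by
        rw [Preadditive.comp_add, reassoc_of% hg₂a, ← hl₁, hm, Preadditive.comp_neg,
          neg_add_cancel])
      obtain ⟨n', hn'⟩ := (hg₃ hQ).2 n
      replace hn' : g₃ ≫ n' = n := hn'
      refine ⟨b ≫ n' - m, ?_⟩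
      show g₂ ≫ (b ≫ n' - m) = k
      rw [Preadditive.comp_sub, ← reassoc_of% hg₂b, hn', ← hn, add_sub_cancel_right]

/-- `f : Y ⟶ X` is a coreflection of `X` into `B`. -/
def IsCorefl {X Y : D} (f : Y ⟶ X) : Prop :=
  B Y ∧ ∀ ⦃Q : D⦄, B Q → Function.Bijective (fun l : Q ⟶ Y => l ≫ f)

/-- `X` has a decomposition `Y ⟶ X ⟶ Z` with `Y` in `B` and `Z` right orthogonal to `B`. -/
def HasDecompR (X : D) : Prop :=
  ∃ (Y Z : D) (f : Y ⟶ X) (g : X ⟶ Z) (h : Z ⟶ (shiftFunctor D (1 : ℤ)).obj Y),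
    Triangle.mk f g h ∈ distinguishedTriangles ∧ B Y ∧ B.rightOrthogonal Z

lemma hasDecompR_iff (X : D) : HasDecompR B X ↔ ∃ (Y : D) (f : Y ⟶ X), IsCorefl B f := by
  constructor
  · rintro ⟨Y, Z, f, g, h, hT, hY, hZ⟩
    refine ⟨Y, f, hY, fun Q hQ => ⟨fun l l' hl => ?_, fun k => ?_⟩⟩
    · replace hl : l ≫ f = l' ≫ f := hl
      rw [← sub_eq_zero]
      obtain ⟨m, hm⟩ : ∃ m : Q⟦(1 : ℤ)⟧ ⟶ Z, (l - l')⟦(1 : ℤ)⟧' = m ≫ h :=
        Triangle.coyoneda_exact₁ _ hT ((l - l')⟦(1 : ℤ)⟧')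
          (show (l - l')⟦(1 : ℤ)⟧' ≫ f⟦(1 : ℤ)⟧' = 0 by
            rw [← Functor.map_comp, Preadditive.sub_comp, hl, sub_self, Functor.map_zero])
      apply (shiftFunctor D (1 : ℤ)).map_injective
      rw [hm, hZ m (B.le_shift (1 : ℤ) _ hQ), zero_comp, Functor.map_zero]
    · obtain ⟨l, hl⟩ : ∃ l, k = l ≫ f := Triangle.coyoneda_exact₂ _ hT k (hZ (k ≫ g) hQ)
      exact ⟨l, hl.symm⟩
  · rintro ⟨Y, f, hY, hf⟩
    obtain ⟨Z, g, h, hT⟩ := distinguished_cocone_triangle f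
    refine ⟨Y, Z, f, g, h, hT, hY, fun Q k hQ => ?_⟩
    have hkh : k ≫ h = 0 := by
      obtain ⟨Q', ⟨e⟩⟩ : ∃ Q' : D, Nonempty (Q'⟦(1 : ℤ)⟧ ≅ Q) :=
        ⟨Q⟦(-1 : ℤ)⟧, ⟨(shiftEquiv D (1 : ℤ)).counitIso.app Q⟩⟩
      have hQ1 : B.isoClosure (Q'⟦(1 : ℤ)⟧) := ⟨Q, hQ, ⟨e⟩⟩
      have hQ'i : B.isoClosure Q' :=
        B.isoClosure.prop_of_iso ((shiftShiftNeg Q' (1 : ℤ)))
          (B.isoClosure.le_shift (-1 : ℤ) _ hQ1)
      obtain ⟨Q'', hQ'', ⟨e'⟩⟩ := hQ'i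
      obtain ⟨m, hm⟩ := (shiftFunctor D (1 : ℤ)).map_surjective (e.hom ≫ k ≫ h)
      have h31 : h ≫ f⟦(1 : ℤ)⟧' = 0 := comp_distTriang_mor_zero₃₁ _ hT
      have hm0 : m ≫ f = 0 := (shiftFunctor D (1 : ℤ)).map_injective (by
        rw [Functor.map_comp, hm, Category.assoc, Category.assoc, h31, comp_zero, comp_zero,
          Functor.map_zero])
      have : e'.inv ≫ m = 0 := (hf hQ'').1 (by
        show (e'.inv ≫ m) ≫ f = 0 ≫ f
        rw [Category.assoc, hm0, comp_zero, zero_comp])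
      have hm' : m = 0 := by
        rw [← cancel_epi e'.inv]
        simpa using this
      rw [hm', Functor.map_zero] at hm
      rw [← cancel_epi e.hom, comp_zero]
      exact hm.symm
    obtain ⟨j, rfl⟩ : ∃ j, k = j ≫ g := Triangle.coyoneda_exact₃ _ hT k hkh
    obtain ⟨l, rfl⟩ := (hf hQ).2 j
    have h12 : f ≫ g = 0 := comp_distTriang_mor_zero₁₂ _ hT
    show (l ≫ f) ≫ g = 0
    rw [Category.assoc, h12, comp_zero]

/-- The property of being coreflectable into `B`. -/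
def CoreflProp : ObjectProperty D := fun X => ∃ (Y : D) (f : Y ⟶ X), IsCorefl B f

instance : (CoreflProp B).IsClosedUnderIsomorphisms where
  of_iso := fun {X X'} e ⟨Y, f, hY, hf⟩ => ⟨Y, f ≫ e.hom, hY, fun Q hQ => by
    refine ⟨fun l l' hl => (hf hQ).1 ?_, fun k => ?_⟩
    · exact (cancel_mono e.hom).1 (by simpa using hl)
    · obtain ⟨l, hl⟩ := (hf hQ).2 (k ≫ e.inv)
      refine ⟨l, ?_⟩
      show l ≫ f ≫ e.hom = k
      rw [← Category.assoc]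
      exact (congrArg (· ≫ e.hom) hl).trans ((Category.assoc _ _ _).trans (by simp))⟩

instance isTriangulated_coreflProp : (CoreflProp B).IsTriangulated where
  exists_zero := by
    obtain ⟨Z, hZ, hBZ⟩ := ObjectProperty.ContainsZero.exists_zero (P := B)
    exact ⟨Z, hZ, Z, 𝟙 Z, hBZ, fun Q _ =>
      ⟨fun l l' _ => hZ.eq_of_tgt _ _, fun k => ⟨k, Category.comp_id k⟩⟩⟩
  isStableUnderShiftBy a := ⟨fun X ⟨Y, f, hY, hf⟩ => by
    refine ⟨Y⟦a⟧, f⟦a⟧', B.le_shift a _ hY, fun Q hQ => ?_⟩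
    let adj := (shiftEquiv D a).symm.toAdjunction
    have h := hf (B.le_shift (-a) _ hQ)
    have : (fun l : Q ⟶ Y⟦a⟧ => l ≫ f⟦a⟧') =
        (adj.homEquiv Q X) ∘ (fun l => l ≫ f) ∘ (adj.homEquiv Q Y).symm := by
      funext l
      exact ((congrArg (· ≫ f⟦a⟧') ((adj.homEquiv Q Y).apply_symm_apply l)).symm.trans
        (adj.homEquiv_naturality_right _ f).symm)
    rw [this]
    exact (adj.homEquiv Q X).bijective.comp (h.comp (adj.homEquiv Q Y).symm.bijective)⟩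
  toIsTriangulatedClosed₂ := .mk' fun T hT ⟨Y₁, f₁, hY₁, hf₁⟩ ⟨Y₃, f₃, hY₃, hf₃⟩ => by
    have hbij1 : ∀ {Q : D}, B Q →
        Function.Bijective (fun l : Q ⟶ Y₁⟦(1 : ℤ)⟧ => l ≫ f₁⟦(1 : ℤ)⟧') := fun {Q} hQ => by
      let adj := (shiftEquiv D (1 : ℤ)).symm.toAdjunction
      have h := hf₁ (B.le_shift (-1 : ℤ) _ hQ)
      have : (fun l : Q ⟶ Y₁⟦(1 : ℤ)⟧ => l ≫ f₁⟦(1 : ℤ)⟧') =
          (adj.homEquiv Q T.obj₁) ∘ (fun l => l ≫ f₁) ∘ (adj.homEquiv Q Y₁).symm := by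
        funext l
        exact ((congrArg (· ≫ f₁⟦(1 : ℤ)⟧') ((adj.homEquiv Q Y₁).apply_symm_apply l)).symm.trans
          (adj.homEquiv_naturality_right _ f₁).symm)
      rw [this]
      exact (adj.homEquiv Q T.obj₁).bijective.comp (h.comp (adj.homEquiv Q Y₁).symm.bijective)
    obtain ⟨c, hc⟩ := (hbij1 hY₃).2 (f₃ ≫ T.mor₃)
    replace hc : c ≫ f₁⟦(1 : ℤ)⟧' = f₃ ≫ T.mor₃ := hc
    obtain ⟨Y₂, a, b, hT'⟩ := distinguished_cocone_triangle₂ c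
    obtain ⟨f₂, hf₂a, hf₂b⟩ : ∃ f₂ : Y₂ ⟶ T.obj₂, a ≫ f₂ = f₁ ≫ T.mor₁ ∧
        b ≫ f₃ = f₂ ≫ T.mor₂ :=
      complete_distinguished_triangle_morphism₂ _ T hT' hT f₁ f₃ hc
    obtain ⟨Y₂', hY₂', ⟨e⟩⟩ := ObjectProperty.ext_of_isTriangulatedClosed₂' B _ hT' hY₁ hY₃
    refine ⟨Y₂', e.inv ≫ f₂, hY₂', fun Q hQ => ?_⟩
    suffices h : Function.Bijective (fun l : Q ⟶ Y₂ => l ≫ f₂) by
      have : (fun l : Q ⟶ Y₂' => l ≫ e.inv ≫ f₂) = (fun l => l ≫ f₂) ∘ (fun l => l ≫ e.inv) := by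
        funext l; exact (Category.assoc _ _ _).symm
      rw [this]
      exact h.comp ⟨fun l l' hl => (cancel_mono e.inv).1 hl, fun k => ⟨k ≫ e.hom,
        (Category.assoc _ _ _).trans ((congrArg (k ≫ ·) e.hom_inv_id).trans (Category.comp_id k))⟩⟩
    constructor
    · intro l l' hl
      replace hl : l ≫ f₂ = l' ≫ f₂ := hl
      rw [← sub_eq_zero]
      have hm : (l - l') ≫ f₂ = 0 := by rw [Preadditive.sub_comp, hl, sub_self]
      have hbm : (l - l') ≫ b = 0 := (hf₃ hQ).1 (by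
        show ((l - l') ≫ b) ≫ f₃ = 0 ≫ f₃
        rw [Category.assoc, hf₂b, reassoc_of% hm, zero_comp, zero_comp])
      obtain ⟨n, hn⟩ : ∃ n, l - l' = n ≫ a := Triangle.coyoneda_exact₂ _ hT' _ hbm
      obtain ⟨p, hp⟩ : ∃ p : Q⟦(1 : ℤ)⟧ ⟶ T.obj₃, (n ≫ f₁)⟦(1 : ℤ)⟧' = p ≫ T.mor₃ :=
        Triangle.coyoneda_exact₁ _ hT _ (by
          rw [← Functor.map_comp, Category.assoc, ← hf₂a, ← Category.assoc, ← hn, hm,
            Functor.map_zero])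
      obtain ⟨p', hp'⟩ := (hf₃ (B.le_shift (1 : ℤ) _ hQ)).2 p
      replace hp' : p' ≫ f₃ = p := hp'
      have hn' : n⟦(1 : ℤ)⟧' = p' ≫ c := (hbij1 (B.le_shift (1 : ℤ) _ hQ)).1 (by
        show n⟦(1 : ℤ)⟧' ≫ f₁⟦(1 : ℤ)⟧' = (p' ≫ c) ≫ f₁⟦(1 : ℤ)⟧'
        rw [← Functor.map_comp, hp, ← hp', Category.assoc, Category.assoc, hc])
      apply (shiftFunctor D (1 : ℤ)).map_injective
      have h31 : c ≫ a⟦(1 : ℤ)⟧' = 0 := comp_distTriang_mor_zero₃₁ _ hT'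
      rw [hn, Functor.map_comp, hn', Category.assoc, h31, comp_zero, Functor.map_zero]
    · intro k
      obtain ⟨l₃, hl₃⟩ := (hf₃ hQ).2 (k ≫ T.mor₂)
      replace hl₃ : l₃ ≫ f₃ = k ≫ T.mor₂ := hl₃
      have h0 : l₃ ≫ c = 0 := (hbij1 hQ).1 (by
        show (l₃ ≫ c) ≫ f₁⟦(1 : ℤ)⟧' = 0 ≫ f₁⟦(1 : ℤ)⟧'
        rw [Category.assoc, hc, reassoc_of% hl₃, comp_distTriang_mor_zero₂₃ _ hT, comp_zero,
          zero_comp])
      obtain ⟨m, hm⟩ : ∃ m, l₃ = m ≫ b := Triangle.coyoneda_exact₃ _ hT' l₃ h0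
      obtain ⟨n, hn⟩ : ∃ n, k - m ≫ f₂ = n ≫ T.mor₁ := Triangle.coyoneda_exact₂ _ hT _ (by
        rw [Preadditive.sub_comp, Category.assoc, ← hf₂b, ← hl₃, hm, Category.assoc, sub_self])
      obtain ⟨n', hn'⟩ := (hf₁ hQ).2 n
      replace hn' : n' ≫ f₁ = n := hn'
      refine ⟨n' ≫ a + m, ?_⟩
      show (n' ≫ a + m) ≫ f₂ = k
      rw [Preadditive.add_comp, Category.assoc, hf₂a, reassoc_of% hn', ← hn, sub_add_cancel]

omit [HasZeroObject D] [∀ n : ℤ, (shiftFunctor D n).Additive] [Pretriangulated D] [HasShift D ℤ]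
  [B.IsTriangulated] [Preadditive D] in
lemma ι_isRightAdjoint_iff : B.ι.IsRightAdjoint ↔ ∀ X : D, ∃ (Y : D) (g : X ⟶ Y), IsRefl B g := by
  constructor
  · intro h X
    let adj := Adjunction.ofIsRightAdjoint B.ι
    refine ⟨(B.ι.leftAdjoint.obj X).obj, adj.unit.app X, (B.ι.leftAdjoint.obj X).property,
      fun Q hQ => ?_⟩
    have : (fun l : (B.ι.leftAdjoint.obj X).obj ⟶ Q => adj.unit.app X ≫ l) =
        (adj.homEquiv X ⟨Q, hQ⟩) ∘ (fun l => ObjectProperty.homMk l) := by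
      funext l; exact (adj.homEquiv_unit X ⟨Q, hQ⟩ (ObjectProperty.homMk l)).symm
    rw [this]
    exact (adj.homEquiv X ⟨Q, hQ⟩).bijective.comp
      ⟨fun l l' h => congrArg InducedCategory.Hom.hom h, fun k => ⟨k.hom, rfl⟩⟩
  · intro h
    refine Functor.isRightAdjoint_of_leftAdjointObjIsDefined_eq_top ?_
    ext X
    simp only [Pi.top_apply, Prop.top_eq_true, iff_true]
    obtain ⟨Y, g, hY, hg⟩ := h X
    exact Functor.CorepresentableBy.isCorepresentable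
      (X := (⟨Y, hY⟩ : B.FullSubcategory))
      { homEquiv := fun {Q} => InducedCategory.homEquiv.trans (Equiv.ofBijective _ (hg Q.property))
        homEquiv_comp := fun u v => (Category.assoc _ _ _).symm }

omit [HasZeroObject D] [∀ n : ℤ, (shiftFunctor D n).Additive] [Pretriangulated D] [HasShift D ℤ]
  [B.IsTriangulated] [Preadditive D] in
lemma ι_isLeftAdjoint_iff : B.ι.IsLeftAdjoint ↔ ∀ X : D, ∃ (Y : D) (f : Y ⟶ X), IsCorefl B f := by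
  constructor
  · intro h X
    let adj := Adjunction.ofIsLeftAdjoint B.ι
    refine ⟨(B.ι.rightAdjoint.obj X).obj, adj.counit.app X, (B.ι.rightAdjoint.obj X).property,
      fun Q hQ => ?_⟩
    have : (fun l : Q ⟶ (B.ι.rightAdjoint.obj X).obj => l ≫ adj.counit.app X) =
        (adj.homEquiv ⟨Q, hQ⟩ X).symm ∘ (fun l => ObjectProperty.homMk l) := by
      funext l; exact (adj.homEquiv_counit ⟨Q, hQ⟩ X (ObjectProperty.homMk l)).symm
    rw [this]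
    exact (adj.homEquiv ⟨Q, hQ⟩ X).symm.bijective.comp
      ⟨fun l l' h => congrArg InducedCategory.Hom.hom h, fun k => ⟨k.hom, rfl⟩⟩
  · intro h
    refine Functor.isLeftAdjoint_of_rightAdjointObjIsDefined_eq_top ?_
    ext X
    simp only [Pi.top_apply, Prop.top_eq_true, iff_true]
    obtain ⟨Y, f, hY, hf⟩ := h X
    exact Functor.RepresentableBy.isRepresentable
      (Y := (⟨Y, hY⟩ : B.FullSubcategory))
      { homEquiv := fun {Q} => InducedCategory.homEquiv.trans (Equiv.ofBijective _ (hf Q.property))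
        homEquiv_comp := fun u v => Category.assoc _ _ _ }

end Groth.Agent.TriH
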