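import Groth.Agent.TriH.KInjExist
import Groth.Agent.TriH.KInjLimit

/-!
# Functorial K-injective resolutions, contractible covers, kernels of split epimorphisms
-/

set_option autoImplicit false

open CategoryTheory CategoryTheory.Limits ZeroObject CochainComplex CochainComplex.HomComplex

namespace Groth.Agent.TriH

universe v u

variable {A : Type u} [Category.{v} A] [Abelian A]

section Disks

/-- A product of disks covering `I`. -/
noncomputable abbrev cover [HasProductsOfShape ℤ (CochainComplex A ℤ)] (I : CochainComplex A ℤ) :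
    CochainComplex A ℤ :=
  ∏ᶜ fun m : ℤ => disk (I.X m) m

end Disks

lemma exists_kernel_props {M L : CochainComplex A ℤ} [M.IsKInjective] [L.IsKInjective]
    (π : M ⟶ L) [∀ m, IsSplitEpi (π.f m)] [∀ m, Injective (M.X m)] :
    (kernel π).IsKInjective ∧ ∀ m, Injective ((kernel π).X m) := by
  refine ⟨⟨fun {K} g hK => ?_⟩, fun m => ?_⟩
  · let g' : K ⟶ M := g ≫ kernel.ι π
    have hg' : g' ≫ π = 0 := by simp [g']
    obtain ⟨z, hz, hzπ⟩ := exists_compatible_cochain hK π g' 0 (by simp [hg'])
    have hk : ∀ m, IsLimit ((HomologicalComplex.eval A (ComplexShape.up ℤ) m).mapCone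
        (KernelFork.ofι (kernel.ι π) (kernel.condition π))) :=
      fun m => isLimitOfPreserves _ (kernelIsKernel π)
    haveI : ∀ m, Mono ((kernel.ι π).f m) := fun m =>
      (HomologicalComplex.eval A (ComplexShape.up ℤ) m).map_mono (kernel.ι π)
    have hex : ∀ m, ((ShortComplex.mk (kernel.ι π) π (kernel.condition π)).map
        (HomologicalComplex.eval A (ComplexShape.up ℤ) m)).Exact := fun m =>
      (ShortComplex.exact_of_f_is_kernel _ (kernelIsKernel π)).map _
    have hv : ∀ p q h, z.v p q h ≫ π.f q = 0 := fun p q h => by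
      have := Cochain.congr_v hzπ p q h
      simpa using this
    haveI : ∀ m, Mono ((ShortComplex.mk (kernel.ι π) π (kernel.condition π)).map
        (HomologicalComplex.eval A (ComplexShape.up ℤ) m)).f := fun m =>
      inferInstanceAs (Mono ((kernel.ι π).f m))
    let z' : Cochain K (kernel π) (-1) := Cochain.mk fun p q h => (hex q).lift (z.v p q h) (hv p q h)
    have hz' : z'.comp (Cochain.ofHom (kernel.ι π)) (add_zero _) = z := by
      ext p q h
      simp only [Cochain.comp_zero_cochain_v, Cochain.ofHom_v, z', Cochain.mk_v]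
      exact (hex q).lift_f _ _
    refine ⟨(Cochain.equivHomotopy g 0).symm ⟨z', ?_⟩⟩
    rw [Cochain.ofHom_zero, add_zero]
    ext p
    rw [← cancel_mono ((kernel.ι π).f p)]
    have h := Cochain.congr_v (δ_comp_ofHom z' (kernel.ι π) 0) p p (add_zero p)
    rw [hz', hz] at h
    simpa [g'] using h
  · let S := (ShortComplex.mk (kernel.ι π) π (kernel.condition π)).map
      (HomologicalComplex.eval A (ComplexShape.up ℤ) m)
    haveI : Mono S.f :=
      (HomologicalComplex.eval A (ComplexShape.up ℤ) m).map_mono (kernel.ι π)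
    have hS : S.Exact := (ShortComplex.exact_of_f_is_kernel _ (kernelIsKernel π)).map _
    haveI : IsSplitEpi S.g := inferInstanceAs (IsSplitEpi (π.f m))
    haveI : Injective S.X₂ := inferInstanceAs (Injective (M.X m))
    show Injective S.X₁
    let r : S.X₂ ⟶ S.X₁ := hS.lift (𝟙 S.X₂ - S.g ≫ section_ S.g) (by simp)
    have hr : S.f ≫ r = 𝟙 _ := by
      rw [← cancel_mono S.f, Category.assoc, hS.lift_f, Preadditive.comp_sub,
        S.zero_assoc, zero_comp, sub_zero, Category.comp_id, Category.id_comp]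
    refine ⟨fun {X Y} g f hf => ?_⟩
    refine ⟨Injective.factorThru (g ≫ S.f) f ≫ r, ?_⟩
    rw [Injective.comp_factorThru_assoc, Category.assoc, hr, Category.comp_id]

variable [IsGrothendieckAbelian.{v} A]

section Res

/-- The functor `X ↦ (X ⟶ 0)`. -/
noncomputable def toZeroArrow : CochainComplex A ℤ ⥤ Arrow (CochainComplex A ℤ) where
  obj X := Arrow.mk (0 : X ⟶ (0 : CochainComplex A ℤ))
  map f := Arrow.homMk f (𝟙 _) (by simp)

/-- The factorisation data used for resolutions. -/
noncomputable def injResData : MorphismProperty.FunctorialFactorizationData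
    (acyclicGenMonos (separator A)).rlp.llp (acyclicGenMonos (separator A)).rlp :=
  MorphismProperty.functorialFactorizationData _ _

/-- Functorial K-injective resolution. -/
noncomputable def injRes : CochainComplex A ℤ ⥤ CochainComplex A ℤ := toZeroArrow ⋙ (injResData (A := A)).Z

/-- The resolution map. -/
noncomputable def resι (X : CochainComplex A ℤ) : X ⟶ injRes.obj X :=
  (injResData (A := A)).i.app (toZeroArrow.obj X)

lemma injResι_naturality {X Y : CochainComplex A ℤ} (f : X ⟶ Y) :
    f ≫ resι Y = resι X ≫ injRes.map f :=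
  (injResData (A := A)).i.naturality (toZeroArrow.map f)

lemma injRes_props (X : CochainComplex A ℤ) :
    (injRes.obj X).IsKInjective ∧ QuasiIso (resι X) ∧ (∀ n, Mono ((resι X).f n)) ∧
      ∀ n, Injective ((injRes.obj X).X n) :=
  resolution_props (isSeparator_separator A) (resι X)
    ((injResData (A := A)).hi _) ((injResData (A := A)).p.app (toZeroArrow.obj X)) ((injResData (A := A)).hp _)

end Res

section Cover

lemma acyclic_double_id (Z : A) (n : ℤ) : (disk Z n).Acyclic := by
  have hne : n ≠ n + 1 := by omega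
  intro k
  by_cases h0 : k = n
  · subst h0
    rw [HomologicalComplex.exactAt_iff' _ (k - 1) k (k + 1) (by simp) (by simp)]
    refine (ShortComplex.exact_iff_mono _ ?_).2 ?_
    · exact HomologicalComplex.double_d_eq_zero₀ (𝟙 Z) (Closure.rel_succ k) _ _ (by omega)
    · show Mono ((disk Z k).d k (k + 1))
      rw [HomologicalComplex.double_d (𝟙 Z) _ hne]
      infer_instance
  · by_cases h1 : k = n + 1
    · subst h1
      rw [HomologicalComplex.exactAt_iff' _ n (n + 1) (n + 1 + 1) (by simp) (by simp)]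
      refine (ShortComplex.exact_iff_epi _ ?_).2 ?_
      · exact HomologicalComplex.double_d_eq_zero₀ (𝟙 Z) (Closure.rel_succ n) _ _ (by omega)
      · show Epi ((disk Z n).d n (n + 1))
        rw [HomologicalComplex.double_d (𝟙 Z) _ hne]
        infer_instance
    · exact ShortComplex.exact_of_isZero_X₂ _
        (HomologicalComplex.isZero_double_X (𝟙 Z) (Closure.rel_succ n) k h0 h1)

lemma hasAcyclicExtension_pi {T : Type*} (I : T → CochainComplex A ℤ) [HasProduct I]
    (h : ∀ t, HasAcyclicExtension (I t)) : HasAcyclicExtension (∏ᶜ I) := fun S hS h3 φ => by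
  choose ψ hψ using fun t => h t S hS h3 (φ ≫ Pi.π I t)
  exact ⟨Pi.lift ψ, Pi.hom_ext _ _ fun t => by simp [hψ]⟩

lemma hasAcyclicExtension_disk (E : A) [Injective E] (m : ℤ) :
    HasAcyclicExtension (disk E m) := fun S hS _ φ => by
  haveI := hS.mono_f
  haveI := hasLiftingProperty_disk E m S.f (isZero_zero (CochainComplex A ℤ)) 0
  have sq : CommSq φ S.f (0 : disk E m ⟶ 0) (0 : S.X₂ ⟶ 0) := ⟨by simp⟩
  exact ⟨sq.lift, sq.fac_left⟩

omit [IsGrothendieckAbelian.{v} A] in
lemma nullHomotopic_id_pi {T : Type*} (I : T → CochainComplex A ℤ) [HasProduct I]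
    (h : ∀ t, Nonempty (Homotopy (𝟙 (I t)) 0)) : Nonempty (Homotopy (𝟙 (∏ᶜ I)) 0) := by
  rw [nullHomotopic_iff_exists_extension]
  choose ψ hψ using fun t => (nullHomotopic_iff_exists_extension (Pi.π I t)).1
    ((h t).map fun H => (Homotopy.ofEq (by simp)).trans ((H.compLeft (Pi.π I t)).trans
      (Homotopy.ofEq (by simp))))
  exact ⟨Pi.lift ψ, Pi.hom_ext _ _ fun t => by simp [hψ]⟩

variable (I : CochainComplex A ℤ) [∀ m, Injective (I.X m)]

lemma cover_hasAcyclicExtension : HasAcyclicExtension (cover I) :=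
  hasAcyclicExtension_pi _ fun m => hasAcyclicExtension_disk (I.X m) m

lemma cover_nullHomotopic : Nonempty (Homotopy (𝟙 (cover I)) 0) :=
  nullHomotopic_id_pi _ fun m => by
    haveI := isKInjective_of_hasAcyclicExtension _ (hasAcyclicExtension_disk (I.X m) m)
    exact IsKInjective.nonempty_homotopy_zero _ (acyclic_double_id (I.X m) m)

omit [∀ m, Injective (I.X m)] in
lemma disk_π_comm (i : ℤ) :
    (Pi.π (fun m : ℤ => disk (I.X m) m) i).f i ≫
        (HomologicalComplex.doubleXIso₀ (𝟙 (I.X i)) (Closure.rel_succ i)).hom =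
      (cover I).d i (i + 1) ≫ (Pi.π (fun m : ℤ => disk (I.X m) m) i).f (i + 1) ≫
        (HomologicalComplex.doubleXIso₁ (𝟙 (I.X i)) (Closure.rel_succ i) (ne_succ i)).hom := by
  rw [disk_comm _ _ (Pi.π (fun m : ℤ => disk (I.X m) m) i)]
  simp

/-- The degree `n` component of the covering map. -/
noncomputable def coverMapF (n : ℤ) : (cover I).X n ⟶ I.X n :=
  (Pi.π (fun m : ℤ => disk (I.X m) m) n).f n ≫
      (HomologicalComplex.doubleXIso₀ (𝟙 (I.X n)) (Closure.rel_succ n)).hom +
    (Pi.π (fun m : ℤ => disk (I.X m) m) (n - 1)).f n ≫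
      eqToHom (congrArg (fun x => (disk (I.X (n - 1)) (n - 1)).X x) (sub_add_cancel n 1).symm) ≫
        (HomologicalComplex.doubleXIso₁ (𝟙 (I.X (n - 1))) (Closure.rel_succ (n - 1))
          (ne_succ (n - 1))).hom ≫ I.d (n - 1) n

omit [∀ m, Injective (I.X m)] in
lemma coverMapF_succ (i : ℤ) : coverMapF I (i + 1) =
    (Pi.π (fun m : ℤ => disk (I.X m) m) (i + 1)).f (i + 1) ≫
      (HomologicalComplex.doubleXIso₀ (𝟙 (I.X (i + 1))) (Closure.rel_succ (i + 1))).hom +
    (Pi.π (fun m : ℤ => disk (I.X m) m) i).f (i + 1) ≫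
      (HomologicalComplex.doubleXIso₁ (𝟙 (I.X i)) (Closure.rel_succ i) (ne_succ i)).hom ≫
        I.d i (i + 1) := by
  have key : ∀ (j : ℤ) (hj : j = i) (e : (disk (I.X j) j).X (i + 1) = (disk (I.X j) j).X (j + 1)),
      (Pi.π (fun m : ℤ => disk (I.X m) m) j).f (i + 1) ≫ eqToHom e ≫
        (HomologicalComplex.doubleXIso₁ (𝟙 (I.X j)) (Closure.rel_succ j) (ne_succ j)).hom ≫
          I.d j (i + 1) =
      (Pi.π (fun m : ℤ => disk (I.X m) m) i).f (i + 1) ≫
        (HomologicalComplex.doubleXIso₁ (𝟙 (I.X i)) (Closure.rel_succ i) (ne_succ i)).hom ≫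
          I.d i (i + 1) := by
    rintro j rfl e
    simp
  unfold coverMapF
  rw [key (i + 1 - 1) (by omega)]

/-- The covering map. -/
noncomputable def coverMap : cover I ⟶ I where
  f := coverMapF I
  comm' i j hij := by
    change i + 1 = j at hij
    subst hij
    rw [coverMapF_succ, Preadditive.comp_add, ← reassoc_of% (disk_π_comm I i)]
    have h : (cover I).d i (i + 1) ≫ (Pi.π (fun m : ℤ => disk (I.X m) m) (i + 1)).f (i + 1) = 0 := by
      refine ((Pi.π (fun m : ℤ => disk (I.X m) m) (i + 1)).comm i (i + 1)).symm.trans ?_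
      rw [HomologicalComplex.double_d_eq_zero₀ _ _ _ _ (by omega), comp_zero]
    rw [reassoc_of% h, zero_comp, zero_add]
    unfold coverMapF
    simp [HomologicalComplex.d_comp_d]

omit [∀ m, Injective (I.X m)] in
lemma isSplitEpi_coverMap (n : ℤ) : IsSplitEpi ((coverMap I).f n) := by
  classical
  let hl : IsLimit (Fan.mk ((cover I).X n) (fun m => (Pi.π (fun m : ℤ => disk (I.X m) m) m).f n) :
      Fan fun m : ℤ => (disk (I.X m) m).X n) :=
    isLimitFanMkObjOfIsLimit (HomologicalComplex.eval A (ComplexShape.up ℤ) n) _ _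
      (productIsProduct fun m : ℤ => disk (I.X m) m)
  let g : ∀ m : ℤ, I.X n ⟶ (disk (I.X m) m).X n := fun m =>
    if h : m = n then eqToHom (by rw [h]) ≫
      (HomologicalComplex.doubleXIso₀ (𝟙 (I.X m)) (Closure.rel_succ m)).inv ≫
        eqToHom (by rw [h]) else 0
  have hfac : ∀ m, Fan.IsLimit.desc hl g ≫ (Pi.π (fun m : ℤ => disk (I.X m) m) m).f n = g m :=
    fun m => Fan.IsLimit.fac hl g m
  refine ⟨⟨⟨Fan.IsLimit.desc hl g, ?_⟩⟩⟩
  show Fan.IsLimit.desc hl g ≫ coverMapF I n = 𝟙 _
  unfold coverMapF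
  rw [Preadditive.comp_add, reassoc_of% (hfac n), reassoc_of% (hfac (n - 1))]
  simp [g]

end Cover

end Groth.Agent.TriH
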