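import Mathlib.Algebra.Homology.DerivedCategory.FullyFaithful
import Mathlib.Algebra.Homology.DerivedCategory.TStructure
import Mathlib.CategoryTheory.Triangulated.TStructure.TruncLEGT

/-!
# Factorization of truncations of a morphism inducing zero in two degrees
-/

set_option autoImplicit false
set_option linter.style.haveILetI false

universe w v u

open CategoryTheory CategoryTheory.Limits CategoryTheory.Pretriangulated DerivedCategory

namespace Groth.Agent.TriH.TruncMap

variable {A : Type u} [Category.{v} A] [Abelian A] [HasDerivedCategory.{w} A]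

lemma eq_zero_of_concentrated {X Y : DerivedCategory A} (a : ℤ) [X.IsGE a] [X.IsLE a] [Y.IsGE a]
    [Y.IsLE a] (f : X ⟶ Y) (hf : (homologyFunctor A a).map f = 0) : f = 0 := by
  obtain ⟨X', ⟨e⟩⟩ := X.exists_iso_singleFunctor_obj_of_isGE_of_isLE a
  obtain ⟨Y', ⟨e'⟩⟩ := Y.exists_iso_singleFunctor_obj_of_isGE_of_isLE a
  obtain ⟨φ, hφ⟩ := (singleFunctor A a).map_surjective (e.inv ≫ f ≫ e'.hom)
  have h : φ = 0 := by
    have := NatIso.naturality_1 (singleFunctorCompHomologyFunctorIso A a) φ
    simp only [Functor.comp_map, Functor.id_map] at this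
    rw [← this, hφ, Functor.map_comp, Functor.map_comp, hf]
    simp
  rw [h, Functor.map_zero] at hφ
  have := congrArg (fun g => e.hom ≫ g ≫ e'.inv) hφ
  simpa using this.symm

lemma isIso_homology_truncGEπ (X : DerivedCategory A) (n i : ℤ) (hi : n ≤ i) :
    IsIso ((homologyFunctor A i).map ((TStructure.t.truncGEπ n).app X)) := by
  have hT := (TStructure.t (C := A)).triangleLTGE_distinguished n X
  haveI : ((TStructure.t (C := A)).truncLT n |>.obj X).IsLE (n - 1) := inferInstance
  have : Mono ((homologyFunctor A i).map ((TStructure.t.truncGEπ n).app X)) :=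
    (HomologySequence.mono_homologyMap_mor₂_iff _ hT i).2
      ((DerivedCategory.isZero_of_isLE _ (n - 1) i (by omega)).eq_of_src _ _)
  have : Epi ((homologyFunctor A i).map ((TStructure.t.truncGEπ n).app X)) :=
    (HomologySequence.epi_homologyMap_mor₂_iff _ hT i (i + 1) rfl).2
      ((DerivedCategory.isZero_of_isLE _ (n - 1) (i + 1) (by omega)).eq_of_tgt _ _)
  exact isIso_of_mono_of_epi _

lemma isIso_homology_truncLTι (X : DerivedCategory A) (n i : ℤ) (hi : i < n) :
    IsIso ((homologyFunctor A i).map ((TStructure.t.truncLTι n).app X)) := by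
  have hT := (TStructure.t (C := A)).triangleLTGE_distinguished n X
  have : Mono ((homologyFunctor A i).map ((TStructure.t.truncLTι n).app X)) :=
    (HomologySequence.mono_homologyMap_mor₁_iff _ hT (i - 1) i (by omega)).2
      ((DerivedCategory.isZero_of_isGE _ n (i - 1) (by omega)).eq_of_src _ _)
  have : Epi ((homologyFunctor A i).map ((TStructure.t.truncLTι n).app X)) :=
    (HomologySequence.epi_homologyMap_mor₁_iff _ hT i).2
      ((DerivedCategory.isZero_of_isGE _ n i (by omega)).eq_of_tgt _ _)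
  exact isIso_of_mono_of_epi _

/-- The abstract statement: a map between objects with amplitude `[q-1, q]` which is zero in homology
factors uniquely through the edge maps. -/
theorem existsUnique_factor (q : ℤ) {M P N' M' : DerivedCategory A} [M.IsGE (q - 1)] [P.IsGE q] [P.IsLE q]
    [N'.IsGE (q - 1)] [N'.IsLE (q - 1)] [M'.IsGE (q - 1)] [M'.IsLE q]
    (p : M ⟶ P) (j : N' ⟶ M')
    (hp : ∀ i, q ≤ i → IsIso ((homologyFunctor A i).map p))
    (hj : ∀ i, i < q → IsIso ((homologyFunctor A i).map j))
    (g : M ⟶ M') (h₁ : (homologyFunctor A (q - 1)).map g = 0) (h₂ : (homologyFunctor A q).map g = 0) :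
    ∃! L : P ⟶ N', g = p ≫ L ≫ j := by
  obtain ⟨F, u, d, hT⟩ := distinguished_cocone_triangle₁ p
  obtain ⟨G, w, e, hT'⟩ := distinguished_cocone_triangle j
  haveI : F.IsGE (q - 1) := by
    rw [isGE_iff]
    intro i hi
    exact (HomologySequence.exact₁ _ hT (i - 1) i (by omega)).isZero_of_both_zeros
      ((P.isZero_of_isGE q (i - 1) (by omega)).eq_of_src _ _)
      ((M.isZero_of_isGE (q - 1) i hi).eq_of_tgt _ _)
  haveI : F.IsLE (q - 1) := by
    rw [isLE_iff]
    intro i hi
    refine (HomologySequence.exact₁ _ hT (i - 1) i (by omega)).isZero_of_both_zeros ?_ ?_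
    · rcases eq_or_lt_of_le (show q ≤ i by omega) with rfl | hi'
      · exact (P.isZero_of_isGE q (q - 1) (by omega)).eq_of_src _ _
      · haveI := hp (i - 1) (by omega)
        exact (HomologySequence.epi_homologyMap_mor₂_iff _ hT (i - 1) i (by omega)).1
          (inferInstanceAs (Epi ((homologyFunctor A (i - 1)).map p)))
    · haveI := hp i (by omega)
      exact (HomologySequence.mono_homologyMap_mor₂_iff _ hT i).1
        (inferInstanceAs (Mono ((homologyFunctor A i).map p)))
  haveI : G.IsGE q := by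
    rw [isGE_iff]
    intro i hi
    refine (HomologySequence.exact₃ _ hT' i (i + 1) rfl).isZero_of_both_zeros ?_ ?_
    · haveI := hj i hi
      exact (HomologySequence.epi_homologyMap_mor₁_iff _ hT' i).1
        (inferInstanceAs (Epi ((homologyFunctor A i).map j)))
    · rcases eq_or_lt_of_le (show i + 1 ≤ q by omega) with hq | hi'
      · exact (N'.isZero_of_isLE (q - 1) (i + 1) (by omega)).eq_of_tgt _ _
      · haveI := hj (i + 1) hi'
        exact (HomologySequence.mono_homologyMap_mor₁_iff _ hT' i (i + 1) rfl).1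
          (inferInstanceAs (Mono ((homologyFunctor A (i + 1)).map j)))
  haveI : G.IsLE q := by
    rw [isLE_iff]
    intro i hi
    exact (HomologySequence.exact₃ _ hT' i (i + 1) rfl).isZero_of_both_zeros
      ((M'.isZero_of_isLE q i hi).eq_of_src _ _)
      ((N'.isZero_of_isLE (q - 1) (i + 1) (by omega)).eq_of_tgt _ _)
  have hfac₁ : (u ≫ g) ≫ w = 0 :=
    TStructure.t.zero_of_isLE_of_isGE _ (q - 1) q (by omega) inferInstance inferInstance
  obtain ⟨c, hc⟩ : ∃ c : F ⟶ N', u ≫ g = c ≫ j :=
    Triangle.coyoneda_exact₂ _ hT' (u ≫ g) hfac₁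
  have hc0 : c = 0 := by
    refine eq_zero_of_concentrated (q - 1) c ?_
    haveI := hj (q - 1) (by omega)
    rw [← cancel_mono ((homologyFunctor A (q - 1)).map j), zero_comp, ← Functor.map_comp]
    exact (congrArg _ hc.symm).trans (by rw [Functor.map_comp, h₁, comp_zero])
  obtain ⟨L₁, hL₁⟩ : ∃ L₁ : P ⟶ M', g = p ≫ L₁ := Triangle.yoneda_exact₂ _ hT g (by
    refine hc.trans ?_
    rw [hc0]
    exact zero_comp)
  have hw : L₁ ≫ w = 0 := by
    refine eq_zero_of_concentrated q _ ?_
    haveI := hp q le_rfl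
    rw [← cancel_epi ((homologyFunctor A q).map p), comp_zero, Functor.map_comp, ← Category.assoc,
      ← Functor.map_comp]
    exact (congrArg (fun z => (homologyFunctor A q).map z ≫ _) hL₁.symm).trans
      (by rw [h₂, zero_comp])
  obtain ⟨L, hL⟩ : ∃ L : P ⟶ N', L₁ = L ≫ j := Triangle.coyoneda_exact₂ _ hT' L₁ hw
  refine ⟨L, hL₁.trans (congrArg (p ≫ ·) hL), fun L' hL' => ?_⟩
  have hd : p ≫ (L' - L) ≫ j = 0 := by
    rw [Preadditive.sub_comp, Preadditive.comp_sub, sub_eq_zero, ← hL']
    exact hL₁.trans (congrArg (p ≫ ·) hL)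
  obtain ⟨r, hr⟩ : ∃ r : F⟦(1 : ℤ)⟧ ⟶ M', (L' - L) ≫ j = d ≫ r := Triangle.yoneda_exact₃ _ hT ((L' - L) ≫ j) hd
  haveI : (F⟦(1 : ℤ)⟧).IsLE (q - 2) := TStructure.t.isLE_shift F (q - 1) 1 (q - 2) (by omega)
  have hr0 : r = 0 :=
    TStructure.t.zero_of_isLE_of_isGE _ (q - 2) (q - 1) (by omega) inferInstance inferInstance
  obtain ⟨s, hs⟩ : ∃ s : P ⟶ G⟦(-1 : ℤ)⟧, L' - L = s ≫ (Triangle.mk j w e).invRotate.mor₁ :=
    Triangle.coyoneda_exact₂ _ (inv_rot_of_distTriang _ hT') (L' - L)
    (hr.trans (by rw [hr0]; exact comp_zero))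
  haveI : (G⟦(-1 : ℤ)⟧).IsGE (q + 1) := TStructure.t.isGE_shift G q (-1) (q + 1) (by omega)
  have hs0 : s = 0 :=
    TStructure.t.zero_of_isLE_of_isGE _ q (q + 1) (by omega) inferInstance inferInstance
  rw [← sub_eq_zero, hs, hs0]
  exact zero_comp

/-- `τ_[q-1,q](f)` factors uniquely when `f` is zero on `Hᵍ⁻¹` and `Hᵍ`. -/
theorem existsUnique_truncMap {K K' : DerivedCategory A} (f : K ⟶ K') (q : ℤ)
    (h₁ : (homologyFunctor A (q - 1)).map f = 0) (h₂ : (homologyFunctor A q).map f = 0) :
    ∃! L : ((TStructure.t (C := A)).truncGELT q (q + 1)).obj K ⟶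
        ((TStructure.t (C := A)).truncGELT (q - 1) q).obj K',
      ((TStructure.t (C := A)).truncGELT (q - 1) (q + 1)).map f =
        ((TStructure.t (C := A)).natTransTruncGEOfLE (q - 1) q (sub_one_lt q).le).app
            (((TStructure.t (C := A)).truncLT (q + 1)).obj K) ≫ L ≫
          ((TStructure.t (C := A)).truncGE (q - 1)).map
            (((TStructure.t (C := A)).natTransTruncLTOfLE q (q + 1) (lt_add_one q).le).app K') := by
  let t := TStructure.t (C := A)
  haveI : ((t.truncLT (q + 1)).obj K).IsLE q := t.isLE_truncLT_obj _ _ _ (by omega)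
  haveI : ((t.truncLT (q + 1)).obj K').IsLE q := t.isLE_truncLT_obj _ _ _ (by omega)
  haveI : ((t.truncLT q).obj K').IsLE (q - 1) := t.isLE_truncLT_obj _ _ _ (by omega)
  haveI : ((t.truncGELT q (q + 1)).obj K).IsGE q := t.isGE_truncGE_obj _ _ _
  haveI : ((t.truncGELT q (q + 1)).obj K).IsLE q := inferInstanceAs (t.IsLE ((t.truncGE q).obj _) q)
  haveI : ((t.truncGELT (q - 1) (q + 1)).obj K).IsGE (q - 1) := t.isGE_truncGE_obj _ _ _
  haveI : ((t.truncGELT (q - 1) (q + 1)).obj K').IsGE (q - 1) := t.isGE_truncGE_obj _ _ _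
  haveI : ((t.truncGELT (q - 1) (q + 1)).obj K').IsLE q :=
    inferInstanceAs (t.IsLE ((t.truncGE (q - 1)).obj _) q)
  haveI : ((t.truncGELT (q - 1) q).obj K').IsGE (q - 1) := t.isGE_truncGE_obj _ _ _
  haveI : ((t.truncGELT (q - 1) q).obj K').IsLE (q - 1) :=
    inferInstanceAs (t.IsLE ((t.truncGE (q - 1)).obj _) (q - 1))
  have key : ∀ i, q - 1 ≤ i → i ≤ q → (homologyFunctor A i).map f = 0 →
      (homologyFunctor A i).map ((t.truncGELT (q - 1) (q + 1)).map f) = 0 := by
    intro i hi hi' h
    haveI := isIso_homology_truncGEπ ((t.truncLT (q + 1)).obj K) (q - 1) i hi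
    haveI := isIso_homology_truncLTι K' (q + 1) i (by omega)
    rw [← cancel_epi ((homologyFunctor A i).map ((t.truncGEπ (q - 1)).app ((t.truncLT (q + 1)).obj K))),
      comp_zero, ← Functor.map_comp]
    change (homologyFunctor A i).map ((t.truncGEπ (q - 1)).app _ ≫ (t.truncGE (q - 1)).map _) = 0
    rw [t.truncGEπ_naturality, Functor.map_comp]
    have : (homologyFunctor A i).map ((t.truncLT (q + 1)).map f) = 0 := by
      rw [← cancel_mono ((homologyFunctor A i).map ((t.truncLTι (q + 1)).app K')), zero_comp,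
        ← Functor.map_comp, (t.truncLTι (q + 1)).naturality f, Functor.map_comp]
      exact (congrArg (_ ≫ ·) h).trans comp_zero
    rw [this, zero_comp]
  refine existsUnique_factor q _ _ (fun i hi => ?_) (fun i hi => ?_) _
    (key _ le_rfl (by omega) h₁) (key _ (by omega) le_rfl h₂)
  · haveI := isIso_homology_truncGEπ ((t.truncLT (q + 1)).obj K) (q - 1) i (by omega)
    haveI := isIso_homology_truncGEπ ((t.truncLT (q + 1)).obj K) q i hi
    have hc : (homologyFunctor A i).map ((t.truncGEπ (q - 1)).app ((t.truncLT (q + 1)).obj K)) ≫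
        (homologyFunctor A i).map ((t.natTransTruncGEOfLE (q - 1) q (sub_one_lt q).le).app _) =
        (homologyFunctor A i).map ((t.truncGEπ q).app _) := by
      rw [← Functor.map_comp, t.π_natTransTruncGEOfLE_app]
    exact IsIso.of_isIso_fac_left hc
  · by_cases hi' : q - 1 ≤ i
    · haveI := isIso_homology_truncGEπ ((t.truncLT q).obj K') (q - 1) i hi'
      haveI := isIso_homology_truncGEπ ((t.truncLT (q + 1)).obj K') (q - 1) i hi'
      haveI := isIso_homology_truncLTι K' q i hi
      haveI := isIso_homology_truncLTι K' (q + 1) i (by omega)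
      let ν := (t.natTransTruncLTOfLE q (q + 1) (lt_add_one q).le).app K'
      have hc : (homologyFunctor A i).map ν ≫ (homologyFunctor A i).map ((t.truncLTι (q + 1)).app K') =
          (homologyFunctor A i).map ((t.truncLTι q).app K') := by
        rw [← Functor.map_comp, t.natTransTruncLTOfLE_ι_app]
      haveI : IsIso ((homologyFunctor A i).map ν) := IsIso.of_isIso_fac_right hc
      have hc' : (homologyFunctor A i).map ((t.truncGEπ (q - 1)).app ((t.truncLT q).obj K')) ≫
          (homologyFunctor A i).map ((t.truncGE (q - 1)).map ν) =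
          (homologyFunctor A i).map ν ≫
            (homologyFunctor A i).map ((t.truncGEπ (q - 1)).app ((t.truncLT (q + 1)).obj K')) := by
        rw [← Functor.map_comp, ← Functor.map_comp, t.truncGEπ_naturality]
      exact IsIso.of_isIso_fac_left hc'
    · exact ⟨⟨0, (DerivedCategory.isZero_of_isGE _ (q - 1) i (by omega)).eq_of_src _ _,
        (DerivedCategory.isZero_of_isGE _ (q - 1) i (by omega)).eq_of_src _ _⟩⟩

end Groth.Agent.TriH.TruncMap
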