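import Mathlib.Algebra.Homology.DerivedCategory.Ext.ExactSequences
import Mathlib.Algebra.Homology.DerivedCategory.Fractions

/-!
# Ext classes of positive degree are killed by a monomorphism of the target
-/

set_option autoImplicit false

open CategoryTheory CategoryTheory.Limits CategoryTheory.Abelian

namespace Groth.Agent.TriH

universe w v u

variable {A : Type u} [Category.{v} A] [Abelian A]

lemma exists_mono_comp_eq_zero_derived [HasDerivedCategory.{w} A] {B C : A} {m : ℤ} (hm : m ≠ 0)
    (f : DerivedCategory.Q.obj ((HomologicalComplex.single A (ComplexShape.up ℤ) 0).obj B) ⟶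
      DerivedCategory.Q.obj ((HomologicalComplex.single A (ComplexShape.up ℤ) m).obj C)) :
    ∃ (E : A) (u : C ⟶ E), Mono u ∧
      f ≫ DerivedCategory.Q.map ((HomologicalComplex.single A (ComplexShape.up ℤ) m).map u) = 0 := by
  haveI : CochainComplex.IsStrictlyGE ((HomologicalComplex.single A (ComplexShape.up ℤ) m).obj C) m :=
    inferInstanceAs (((CochainComplex.singleFunctor A m).obj C).IsStrictlyGE m)
  obtain ⟨Y', hY', g, s, hs, rfl⟩ := DerivedCategory.left_fac_of_isStrictlyGE f m
  haveI : QuasiIso s := (DerivedCategory.isIso_Q_map_iff_quasiIso (C := A) (φ := s)).1 hs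
  let K := (HomologicalComplex.single A (ComplexShape.up ℤ) m).obj C
  have hprev : ∀ (L : CochainComplex A ℤ) [L.IsStrictlyGE m], L.d (m - 1) m = 0 := fun L _ =>
    (L.isZero_of_isStrictlyGE m (m - 1) (by omega)).eq_of_src _ _
  haveI : IsIso (HomologicalComplex.cyclesMap s m) := by
    haveI := K.isIso_homologyπ (m - 1) m (by simp) (hprev K)
    haveI := Y'.isIso_homologyπ (m - 1) m (by simp) (hprev Y')
    haveI : IsIso (HomologicalComplex.homologyMap s m) :=
      (quasiIsoAt_iff_isIso_homologyMap s m).1 inferInstance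
    haveI : IsIso (HomologicalComplex.cyclesMap s m ≫ Y'.homologyπ m) := by
      rw [← HomologicalComplex.homologyπ_naturality]
      infer_instance
    exact IsIso.of_isIso_comp_right _ (Y'.homologyπ m)
  let σ := HomologicalComplex.singleObjXSelf (ComplexShape.up ℤ) m C
  haveI : IsIso (K.iCycles m) :=
    K.isIso_iCycles m (m + 1) (by simp) (HomologicalComplex.single_obj_d _ _ _ _ _)
  have hmono : Mono (s.f m) := by
    have h := HomologicalComplex.cyclesMap_i s m
    have : s.f m = inv (K.iCycles m) ≫ HomologicalComplex.cyclesMap s m ≫ Y'.iCycles m := by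
      rw [IsIso.eq_inv_comp]
      exact h.symm
    rw [this]
    infer_instance
  let p : Y' ⟶ (HomologicalComplex.single A (ComplexShape.up ℤ) m).obj (Y'.X m) :=
    HomologicalComplex.mkHomToSingle (𝟙 _) (fun i hi => by
      change i + 1 = m at hi
      exact (Y'.isZero_of_isStrictlyGE m i (by omega)).eq_of_src _ _)
  have hp : s ≫ p = (HomologicalComplex.single A (ComplexShape.up ℤ) m).map (σ.inv ≫ s.f m) := by
    apply HomologicalComplex.to_single_hom_ext
    rw [← cancel_mono (HomologicalComplex.singleObjXSelf (ComplexShape.up ℤ) m (Y'.X m)).hom]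
    simp [p, σ, HomologicalComplex.single_map_f_self]
  refine ⟨Y'.X m, σ.inv ≫ s.f m, mono_comp _ _, ?_⟩
  have hgp : g ≫ p = 0 := HomologicalComplex.to_single_hom_ext
    ((HomologicalComplex.isZero_single_obj_X (ComplexShape.up ℤ) 0 B m hm).eq_of_src _ _)
  rw [← hp, Functor.map_comp, Category.assoc, IsIso.inv_hom_id_assoc, ← Functor.map_comp, hgp,
    Functor.map_zero]

lemma exists_mono_comp_eq_zero [HasExt.{w} A] {B C : A} {n : ℕ} (x : Ext.{w} B C (n + 1)) :
    ∃ (E : A) (u : C ⟶ E), Mono u ∧ x.comp (Ext.mk₀ u) (add_zero _) = 0 := by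
  letI := HasDerivedCategory.standard A
  let m : ℤ := -((n + 1 : ℕ) : ℤ)
  let e := (DerivedCategory.singleFunctors A).shiftIso ((n + 1 : ℕ) : ℤ) m 0 (by omega)
  obtain ⟨E, u, hu, h⟩ := exists_mono_comp_eq_zero_derived (B := B) (C := C) (m := m) (by omega)
    (x.hom ≫ e.hom.app C)
  refine ⟨E, u, hu, Ext.ext ?_⟩
  rw [Ext.comp_hom, Ext.mk₀_hom, Ext.zero_hom, ShiftedHom.comp_mk₀]
  rw [← cancel_mono (e.hom.app E), Category.assoc]
  erw [e.hom.naturality u]
  exact ((Category.assoc _ _ _).symm.trans h).trans zero_comp.symm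

theorem ext_eq_zero_of_vanishing [HasExt.{w} A] (p : ℕ) (h : ∀ (B C : A) (x : Ext.{w} B C p), x = 0)
    (i : ℕ) (hi : p ≤ i) : ∀ (B C : A) (x : Ext.{w} B C i), x = 0 := by
  induction i, hi using Nat.le_induction with
  | base => exact h
  | succ i hi ih =>
    intro B C x
    obtain ⟨E, u, hu, hx⟩ := exists_mono_comp_eq_zero x
    haveI := hu
    have hS : (ShortComplex.mk u (cokernel.π u) (cokernel.condition u)).ShortExact :=
      { exact := ShortComplex.exact_cokernel u }
    obtain ⟨y, hy⟩ := Ext.covariant_sequence_exact₁ B hS x hx (n₀ := i) rfl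
    rw [← hy, ih _ _ y, Ext.zero_comp]

end Groth.Agent.TriH
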