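import Mathlib.CategoryTheory.Triangulated.Pretriangulated
import Mathlib.CategoryTheory.Triangulated.TriangleShift
import Mathlib.Algebra.Homology.HomologicalComplex

/-!
# Postnikov systems
-/

set_option autoImplicit false
set_option linter.style.haveILetI false
set_option linter.unusedSectionVars false

universe v u

open CategoryTheory CategoryTheory.Limits CategoryTheory.Pretriangulated

namespace Groth.Agent.TriH.Postnikov

variable {D : Type u} [Category.{v} D] [Preadditive D] [HasZeroObject D] [HasShift D ℤ]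
  [∀ n : ℤ, (shiftFunctor D n).Additive] [Pretriangulated D]

/-- Every morphism `A ⟶ B` vanishes. -/
def Van (A B : D) : Prop := ∀ f : A ⟶ B, f = 0

lemma Van.of_iso {A A' B B' : D} (h : Van A B) (e : A ≅ A') (e' : B ≅ B') : Van A' B' := fun f => by
  rw [← cancel_epi e.hom, ← cancel_mono e'.inv, h ((e.hom ≫ f) ≫ e'.inv), comp_zero, zero_comp]

lemma Van.shift_left {A B : D} {p q r : ℤ} (hr : r + q = p)
    (h : Van ((shiftFunctor D p).obj A) ((shiftFunctor D q).obj B)) :
    Van ((shiftFunctor D r).obj A) B := fun f => by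
  refine (shiftFunctor D q).map_injective ?_
  rw [Functor.map_zero]
  exact h.of_iso ((shiftFunctorAdd' D r q p hr).app A) (Iso.refl _) _

lemma Van.shift_right {A B : D} {p q r : ℤ} (hr : r + p = q)
    (h : Van ((shiftFunctor D p).obj A) ((shiftFunctor D q).obj B)) :
    Van A ((shiftFunctor D r).obj B) := fun f => by
  refine (shiftFunctor D p).map_injective ?_
  rw [Functor.map_zero]
  exact h.of_iso (Iso.refl _) ((shiftFunctorAdd' D r p q hr).app B) _

lemma Van.right_zero {A B : D} {s : ℤ} (hs : s = 0) (h : Van A B) :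
    Van A ((shiftFunctor D s).obj B) := by
  subst hs
  exact h.of_iso (Iso.refl _) ((shiftFunctorZero D ℤ).app B).symm

lemma Van.left_zero {A B : D} {s : ℤ} (hs : s = 0) (h : Van A B) :
    Van ((shiftFunctor D s).obj A) B := by
  subst hs
  exact h.of_iso ((shiftFunctorZero D ℤ).app A).symm (Iso.refl _)

lemma Van.of_right_zero {A B : D} (h : Van A ((shiftFunctor D (0 : ℤ)).obj B)) : Van A B :=
  h.of_iso (Iso.refl _) ((shiftFunctorZero D ℤ).app B)

lemma Van.of_left_zero {A B : D} (h : Van ((shiftFunctor D (0 : ℤ)).obj A) B) : Van A B :=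
  h.of_iso ((shiftFunctorZero D ℤ).app A) (Iso.refl _)

variable {Y' X' Y : D} {a : Y' ⟶ X'} {b : X' ⟶ Y} {c : Y ⟶ (shiftFunctor D (1 : ℤ)).obj Y'}

lemma van_to_next (hT : Triangle.mk a b c ∈ distTriang D) {Z : D} {s : ℤ}
    (h1 : Van Z ((shiftFunctor D s).obj X')) (h2 : Van Z ((shiftFunctor D (s - 1)).obj Y)) :
    Van Z ((shiftFunctor D s).obj Y') := by
  intro f
  obtain ⟨g, hg⟩ := Triangle.coyoneda_exact₂ _
    (inv_rot_of_distTriang _ (Triangle.shift_distinguished _ hT s)) f (h1 _)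
  have : g = 0 :=
    h2.of_iso (Iso.refl _) ((shiftFunctorAdd' D s (-1) (s - 1) (by omega)).app Y) g
  rw [hg, this]
  exact zero_comp

lemma van_from_next (hT : Triangle.mk a b c ∈ distTriang D) {W : D} {s : ℤ}
    (h1 : Van ((shiftFunctor D s).obj X') W) (h2 : Van ((shiftFunctor D (s - 1)).obj Y) W) :
    Van ((shiftFunctor D s).obj Y') W := by
  intro f
  obtain ⟨g, hg⟩ := Triangle.yoneda_exact₂ _
    (inv_rot_of_distTriang _ (Triangle.shift_distinguished _ hT s)) f
    (h2.of_iso ((shiftFunctorAdd' D s (-1) (s - 1) (by omega)).app Y) (Iso.refl _) _)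
  rw [hg, h1 g]
  exact comp_zero

/-- A map killed by `a` factors through the previous stage. -/
lemma eq_zero_of_comp_a (hT : Triangle.mk a b c ∈ distTriang D) {Z : D}
    (h : Van Z ((shiftFunctor D (-1 : ℤ)).obj Y)) (f : Z ⟶ Y') (hf : f ≫ a = 0) : f = 0 := by
  obtain ⟨g, hg⟩ := Triangle.coyoneda_exact₂ _ (inv_rot_of_distTriang _ hT) f hf
  rw [hg, h g]
  exact zero_comp

section

variable {X : ℕ → D} {n : ℕ} {Yf : ℕ → D} (af : ∀ k, Yf k ⟶ X k) (bf : ∀ k, X (k + 1) ⟶ Yf k)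
  (cf : ∀ k, Yf k ⟶ (shiftFunctor D (1 : ℤ)).obj (Yf (k + 1))) (h0 : IsIso (af 0))
  (hP : ∀ k, k < n → Triangle.mk (af (k + 1)) (bf k) (cf k) ∈ distTriang D)

include bf cf h0 hP

lemma van_to : ∀ (k : ℕ) (_ : k ≤ n) (Z : D) (s : ℤ)
    (_ : ∀ j, j ≤ k → Van Z ((shiftFunctor D (s + j - k)).obj (X j))),
    Van Z ((shiftFunctor D s).obj (Yf k)) := by
  intro k
  induction k with
  | zero =>
    intro _ Z s h
    haveI := h0
    have h' : Van Z ((shiftFunctor D s).obj (X 0)) := by simpa using h 0 le_rfl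
    exact h'.of_iso (Iso.refl _) ((shiftFunctor D s).mapIso (asIso (af 0)).symm)
  | succ k ih =>
    intro hk Z s h
    refine van_to_next (hP k (by omega)) ?_ (ih (by omega) Z (s - 1) fun j hj => ?_)
    · simpa using h (k + 1) le_rfl
    · rw [show s - 1 + (j : ℤ) - k = s + j - ((k + 1 : ℕ) : ℤ) by omega]
      exact h j (by omega)

lemma van_from : ∀ (k : ℕ) (_ : k ≤ n) (W : D) (s : ℤ)
    (_ : ∀ j, j ≤ k → Van ((shiftFunctor D (s + j - k)).obj (X j)) W),
    Van ((shiftFunctor D s).obj (Yf k)) W := by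
  intro k
  induction k with
  | zero =>
    intro _ W s h
    haveI := h0
    have h' : Van ((shiftFunctor D s).obj (X 0)) W := by simpa using h 0 le_rfl
    exact h'.of_iso ((shiftFunctor D s).mapIso (asIso (af 0)).symm) (Iso.refl _)
  | succ k ih =>
    intro hk W s h
    refine van_from_next (hP k (by omega)) ?_ (ih (by omega) W (s - 1) fun j hj => ?_)
    · simpa using h (k + 1) le_rfl
    · rw [show s - 1 + (j : ℤ) - k = s + j - ((k + 1 : ℕ) : ℤ) by omega]
      exact h j (by omega)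

end

section Morphisms

variable (X X' : ChainComplex D ℕ) (φ : X ⟶ X') (n : ℕ)
  (Y : ℕ → D) (a : ∀ k, Y k ⟶ X.X k) (b : ∀ k, X.X (k + 1) ⟶ Y k)
  (c : ∀ k, Y k ⟶ (shiftFunctor D (1 : ℤ)).obj (Y (k + 1)))
  (h0 : IsIso (a 0))
  (hP : ∀ k, k < n → Triangle.mk (a (k + 1)) (b k) (c k) ∈ distTriang D ∧
    b k ≫ a k = X.d (k + 1) k)
  (qY : ℕ → D) (qa : ∀ k, qY k ⟶ X'.X k) (qb : ∀ k, X'.X (k + 1) ⟶ qY k)
  (qc : ∀ k, qY k ⟶ (shiftFunctor D (1 : ℤ)).obj (qY (k + 1)))
  (qh0 : IsIso (qa 0))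
  (qhP : ∀ k, k < n → Triangle.mk (qa (k + 1)) (qb k) (qc k) ∈ distTriang D ∧
    qb k ≫ qa k = X'.d (k + 1) k)

include h0 hP qh0 qhP

theorem exists_morphism
    (hX : ∀ i j : ℕ, j + 1 < i → i ≤ n →
      Van ((shiftFunctor D ((i : ℤ) - j - 1)).obj (X.X i)) (X'.X j)) :
    ∃ y : ∀ k, Y k ⟶ qY k,
      (∀ k, k ≤ n → y k ≫ qa k = a k ≫ φ.f k) ∧
      (∀ k, k < n → b k ≫ y k = φ.f (k + 1) ≫ qb k ∧
        c k ≫ (shiftFunctor D (1 : ℤ)).map (y (k + 1)) = y k ≫ qc k) := by
  haveI := qh0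
  suffices H : ∀ m, m ≤ n → ∃ y : ∀ k, Y k ⟶ qY k,
      (∀ k, k ≤ m → y k ≫ qa k = a k ≫ φ.f k) ∧
      (∀ k, k < m → b k ≫ y k = φ.f (k + 1) ≫ qb k ∧
        c k ≫ (shiftFunctor D (1 : ℤ)).map (y (k + 1)) = y k ≫ qc k) from H n le_rfl
  intro m
  induction m with
  | zero =>
    intro _
    refine ⟨fun k => match k with
      | 0 => a 0 ≫ φ.f 0 ≫ inv (qa 0)
      | _ + 1 => 0, fun k hk => ?_, fun k hk => absurd hk (by omega)⟩
    obtain rfl : k = 0 := by omega
    simp
  | succ m ih =>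
    intro hm
    obtain ⟨y, hy1, hy2⟩ := ih (by omega)
    have hcomm : b m ≫ y m = φ.f (m + 1) ≫ qb m := by
      rw [← sub_eq_zero]
      have h1 : (b m ≫ y m - φ.f (m + 1) ≫ qb m) ≫ qa m = 0 := by
        rw [Preadditive.sub_comp, Category.assoc, Category.assoc, hy1 m le_rfl, ← Category.assoc,
          (hP m (by omega)).2, (qhP m (by omega)).2, φ.comm, sub_self]
      rcases m with _ | p
      · exact zero_of_comp_mono (qa 0) h1
      · refine eq_zero_of_comp_a (qhP p (by omega)).1 ?_ _ h1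
        refine van_to qa qb qc qh0 (fun k hk => (qhP k hk).1) p (by omega) _ (-1) fun j hj => ?_
        exact (Van.right_zero rfl (hX (p + 1 + 1) j (by omega) hm)).shift_right
          (by push_cast; omega)
    obtain ⟨y', h1, h2⟩ := complete_distinguished_triangle_morphism₁ _ _ (hP m (by omega)).1
      (qhP m (by omega)).1 (φ.f (m + 1)) (y m) hcomm
    have hne : ∀ k, k ≤ m → Function.update y (m + 1) y' k = y k := fun k hk =>
      Function.update_of_ne (by omega) _ _
    have he : Function.update y (m + 1) y' (m + 1) = y' := Function.update_self _ _ _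
    refine ⟨Function.update y (m + 1) y', fun k hk => ?_, fun k hk => ?_⟩
    · rcases Nat.lt_or_eq_of_le hk with hk' | rfl
      · rw [hne k (by omega)]
        exact hy1 k (by omega)
      · rw [he]
        exact h1.symm
    · rcases Nat.lt_or_eq_of_le (Nat.le_of_lt_succ hk) with hk' | rfl
      · rw [hne k (by omega), hne (k + 1) (by omega)]
        exact hy2 k hk'
      · rw [hne k le_rfl, he]
        exact ⟨hcomm, h2⟩

theorem unique_top
    (hv : ∀ i : ℕ, 1 ≤ i → i ≤ n →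
      Van ((shiftFunctor D (i : ℤ)).obj (X.X i)) ((shiftFunctor D (n : ℤ)).obj (qY n)))
    (y z : ∀ k, Y k ⟶ qY k)
    (hy : (∀ k, k ≤ n → y k ≫ qa k = a k ≫ φ.f k) ∧
      (∀ k, k < n → b k ≫ y k = φ.f (k + 1) ≫ qb k ∧
        c k ≫ (shiftFunctor D (1 : ℤ)).map (y (k + 1)) = y k ≫ qc k))
    (hz : (∀ k, k ≤ n → z k ≫ qa k = a k ≫ φ.f k) ∧
      (∀ k, k < n → b k ≫ z k = φ.f (k + 1) ≫ qb k ∧
        c k ≫ (shiftFunctor D (1 : ℤ)).map (z (k + 1)) = z k ≫ qc k)) :
    y n = z n := by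
  suffices H : ∀ k, k ≤ n → ∀ (s : ℤ) (W : D),
      (∀ i, 1 ≤ i → i ≤ k → Van ((shiftFunctor D (s + i - k)).obj (X.X i)) W) →
      ∀ v : (shiftFunctor D s).obj (qY k) ⟶ W,
        (shiftFunctor D s).map (y k - z k) ≫ v = 0 by
    have h := H n le_rfl 0 (qY n) (fun i h1 h2 => (hv i h1 h2).shift_left (by omega))
      ((shiftFunctorZero D ℤ).hom.app (qY n))
    have h' : (shiftFunctorZero D ℤ).hom.app (Y n) ≫ (y n - z n) = 0 :=
      (((shiftFunctorZero D ℤ).hom.naturality (y n - z n)).symm.trans h)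
    exact sub_eq_zero.1 ((cancel_epi ((shiftFunctorZero D ℤ).hom.app (Y n))).1
      (h'.trans comp_zero.symm))
  intro k
  induction k with
  | zero =>
    intro hk s W _ v
    haveI := qh0
    have : y 0 - z 0 = 0 := zero_of_comp_mono (qa 0) (by
      rw [Preadditive.sub_comp, hy.1 0 hk, hz.1 0 hk, sub_self])
    rw [this, Functor.map_zero, zero_comp]
  | succ k ih =>
    intro hk s W hW v
    let w : Triangle.mk (a (k + 1)) (b k) (c k) ⟶ Triangle.mk (qa (k + 1)) (qb k) (qc k) :=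
      Triangle.homMk _ _ (y (k + 1) - z (k + 1)) (0 : X.X (k + 1) ⟶ X'.X (k + 1)) (y k - z k)
        (by
          show a (k + 1) ≫ 0 = (y (k + 1) - z (k + 1)) ≫ qa (k + 1)
          rw [comp_zero, Preadditive.sub_comp, hy.1 _ hk, hz.1 _ hk, sub_self])
        (by
          show b k ≫ (y k - z k) = 0 ≫ qb k
          rw [zero_comp, Preadditive.comp_sub, (hy.2 k hk).1, (hz.2 k hk).1, sub_self])
        (by
          show c k ≫ (shiftFunctor D (1 : ℤ)).map (y (k + 1) - z (k + 1)) = (y k - z k) ≫ qc k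
          rw [Functor.map_sub, Preadditive.comp_sub, Preadditive.sub_comp, (hy.2 k hk).2,
            (hz.2 k hk).2])
    let w' := (invRotate D).map ((Triangle.shiftFunctor D s).map w)
    obtain ⟨g, hg⟩ := Triangle.yoneda_exact₂ _
      (inv_rot_of_distTriang _ (Triangle.shift_distinguished _ (hP k (by omega)).1 s))
      ((shiftFunctor D s).map (y (k + 1) - z (k + 1)) ≫ v) (by
        refine ((Category.assoc _ _ _).symm.trans ((congrArg (· ≫ v) w'.comm₁).trans
          (Category.assoc _ _ _))).trans ?_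
        refine (cancel_epi ((shiftFunctorAdd' D s (-1) (s - 1) (by omega)).hom.app (Y k))).1 ?_
        refine ((Category.assoc _ _ _).symm.trans (congrArg (· ≫ _)
          ((shiftFunctorAdd' D s (-1) (s - 1) (by omega)).hom.naturality (y k - z k)).symm)).trans ?_
        refine (Category.assoc _ _ _).trans (Eq.trans ?_ comp_zero.symm)
        refine ih (by omega) (s - 1) W (fun i h1 h2 => ?_) _
        rw [show s - 1 + (i : ℤ) - k = s + i - ((k + 1 : ℕ) : ℤ) by omega]
        exact hW i h1 (by omega))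
    have h := hW (k + 1) (by omega) le_rfl
    rw [show s + ((k + 1 : ℕ) : ℤ) - ((k + 1 : ℕ) : ℤ) = s by omega] at h
    exact hg.trans ((congrArg (_ ≫ ·) (h g)).trans comp_zero)

theorem unique
    (hv : ∀ i j : ℕ, 0 < i → i ≤ j → j ≤ n →
      Van ((shiftFunctor D (1 - (i : ℤ))).obj (X.X (j - i))) (X'.X j) ∧
      Van (X.X j) ((shiftFunctor D (-(i : ℤ))).obj (X'.X (j - i))))
    (y z : ∀ k, Y k ⟶ qY k)
    (hy : (∀ k, k ≤ n → y k ≫ qa k = a k ≫ φ.f k) ∧
      (∀ k, k < n → b k ≫ y k = φ.f (k + 1) ≫ qb k ∧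
        c k ≫ (shiftFunctor D (1 : ℤ)).map (y (k + 1)) = y k ≫ qc k))
    (hz : (∀ k, k ≤ n → z k ≫ qa k = a k ≫ φ.f k) ∧
      (∀ k, k < n → b k ≫ z k = φ.f (k + 1) ≫ qb k ∧
        c k ≫ (shiftFunctor D (1 : ℤ)).map (z (k + 1)) = z k ≫ qc k))
    (k : ℕ) (hk : k ≤ n) : y k = z k := by
  induction k with
  | zero =>
    haveI := qh0
    rw [← cancel_mono (qa 0), hy.1 0 hk, hz.1 0 hk]
  | succ k ih =>
    specialize ih (by omega)
    have hc : c k ≫ (shiftFunctor D (1 : ℤ)).map (y (k + 1) - z (k + 1)) = 0 := by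
      rw [Functor.map_sub, Preadditive.comp_sub, (hy.2 k hk).2, (hz.2 k hk).2, ih, sub_self]
    obtain ⟨e, he⟩ := Triangle.yoneda_exact₃ _ (rot_of_distTriang _ (hP k hk).1)
      ((shiftFunctor D (1 : ℤ)).map (y (k + 1) - z (k + 1))) hc
    obtain ⟨g, rfl⟩ : ∃ g : X.X (k + 1) ⟶ qY (k + 1), (shiftFunctor D (1 : ℤ)).map g = e :=
      (shiftFunctor D (1 : ℤ)).map_surjective e
    have hw : y (k + 1) - z (k + 1) = a (k + 1) ≫ (-g) := by
      apply (shiftFunctor D (1 : ℤ)).map_injective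
      refine he.trans ?_
      rw [Functor.map_comp, Functor.map_neg, Preadditive.comp_neg]
      exact Preadditive.neg_comp _ _
    have hga : (-g) ≫ qa (k + 1) = 0 := by
      have h1 : a (k + 1) ≫ (-g) ≫ qa (k + 1) = 0 := by
        rw [← Category.assoc, ← hw, Preadditive.sub_comp, hy.1 _ hk, hz.1 _ hk, sub_self]
      obtain ⟨h, hh⟩ := Triangle.yoneda_exact₂ _ (hP k hk).1 ((-g) ≫ qa (k + 1)) h1
      have hvan : Van (Y k) (X'.X (k + 1)) :=
        (van_from a b c h0 (fun l hl => (hP l hl).1) k (by omega) _ 0 fun j hj => by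
          have := (hv (k + 1 - j) (k + 1) (by omega) (by omega) hk).1
          rw [show k + 1 - (k + 1 - j) = j by omega,
            show 1 - (((k + 1 - j : ℕ)) : ℤ) = 0 + j - k by omega] at this
          exact this).of_left_zero
      exact hh.trans ((congrArg (_ ≫ ·) (hvan h)).trans comp_zero)
    have hg : -g = 0 := by
      refine eq_zero_of_comp_a (qhP k hk).1 ?_ _ hga
      refine van_to qa qb qc qh0 (fun l hl => (qhP l hl).1) k (by omega) _ (-1) fun j hj => ?_
      have := (hv (k + 1 - j) (k + 1) (by omega) (by omega) hk).2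
      rw [show k + 1 - (k + 1 - j) = j by omega,
        show -(((k + 1 - j : ℕ)) : ℤ) = -1 + j - k by omega] at this
      exact this
    rw [← sub_eq_zero, hw, hg, comp_zero]

end Morphisms

section Existence

variable (X : ChainComplex D ℕ) (n : ℕ)

/-- One stage of a Postnikov system. -/
structure Lvl (k : ℕ) where
  /-- the object -/
  Y : D
  /-- the map to the complex -/
  a : Y ⟶ X.X k
  lift : k < n → ∃ b : X.X (k + 1) ⟶ Y, b ≫ a = X.d (k + 1) k
  inj : k + 2 ≤ n → ∀ f : X.X (k + 2) ⟶ Y, f ≫ a = 0 → f = 0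
  van : k ≤ n → ∀ (Z : D) (s : ℤ),
    (∀ j, j ≤ k → Van Z ((shiftFunctor D (s + j - k)).obj (X.X j))) →
      Van Z ((shiftFunctor D s).obj Y)

/-- The initial stage. -/
def lvl0 : Lvl X n 0 where
  Y := X.X 0
  a := 𝟙 _
  lift _ := ⟨X.d 1 0, Category.comp_id _⟩
  inj _ f hf := by simpa using hf
  van _ Z s h := by simpa using h 0 le_rfl

variable {X n}

lemma exists_next
    (hX : ∀ i j : ℕ, j + 2 < i → i ≤ n →
      Van ((shiftFunctor D ((i : ℤ) - j - 2)).obj (X.X i)) (X.X j))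
    {k : ℕ} (L : Lvl X n k) :
    ∃ (L' : Lvl X n (k + 1)) (b : X.X (k + 1) ⟶ L.Y)
      (c : L.Y ⟶ (shiftFunctor D (1 : ℤ)).obj L'.Y),
      k < n → Triangle.mk L'.a b c ∈ distTriang D ∧ b ≫ L.a = X.d (k + 1) k := by
  by_cases hk : k < n
  · obtain ⟨b, hb⟩ := L.lift hk
    obtain ⟨Y', a', c, hT⟩ := distinguished_cocone_triangle₁ b
    refine ⟨⟨Y', a', fun hk' => ?_, fun hk' f hf => ?_, fun _ Z s h => ?_⟩, b, c,
      fun _ => ⟨hT, hb⟩⟩
    · have h0 : X.d (k + 2) (k + 1) ≫ b = 0 := L.inj hk' _ (by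
        rw [Category.assoc, hb, X.d_comp_d])
      obtain ⟨b', hb'⟩ := Triangle.coyoneda_exact₂ _ hT _ h0
      exact ⟨b', hb'.symm⟩
    · refine eq_zero_of_comp_a hT (L.van hk.le _ (-1) fun j hj => ?_) f hf
      exact (Van.right_zero rfl (hX (k + 1 + 2) j (by omega) hk')).shift_right
        (by push_cast; omega)
    · refine van_to_next hT ?_ (L.van hk.le Z (s - 1) fun j hj => ?_)
      · simpa using h (k + 1) le_rfl
      · rw [show s - 1 + (j : ℤ) - k = s + j - ((k + 1 : ℕ) : ℤ) by omega]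
        exact h j (by omega)
  · exact ⟨⟨X.X (k + 1), 𝟙 _, fun h => absurd h (by omega), fun h => absurd h (by omega),
      fun h => absurd h (by omega)⟩, 0, 0, fun h => absurd h hk⟩

theorem exists_system
    (hX : ∀ i j : ℕ, j + 2 < i → i ≤ n →
      Van ((shiftFunctor D ((i : ℤ) - j - 2)).obj (X.X i)) (X.X j)) :
    ∃ (Y : ℕ → D) (a : ∀ k, Y k ⟶ X.X k) (b : ∀ k, X.X (k + 1) ⟶ Y k)
      (c : ∀ k, Y k ⟶ (shiftFunctor D (1 : ℤ)).obj (Y (k + 1))),
      IsIso (a 0) ∧ ∀ k, k < n → Triangle.mk (a (k + 1)) (b k) (c k) ∈ distinguishedTriangles ∧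
        b k ≫ a k = X.d (k + 1) k := by
  have h := fun (k : ℕ) (L : Lvl X n k) => exists_next hX L
  choose nxt b c hbc using h
  let L : ∀ k, Lvl X n k := fun k => Nat.rec (lvl0 X n) nxt k
  exact ⟨fun k => (L k).Y, fun k => (L k).a, fun k => b k (L k), fun k => c k (L k),
    inferInstanceAs (IsIso (𝟙 (X.X 0))), fun k hk => hbc k (L k) hk⟩

end Existence

end Groth.Agent.TriH.Postnikov
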