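import Groth.Agent.DerAdj.Devissage

/-!
# Dévissage for way-out functors
-/

set_option autoImplicit false
set_option linter.style.haveILetI false
set_option linter.unusedSectionVars false

open CategoryTheory CategoryTheory.Limits CategoryTheory.Pretriangulated DerivedCategory

namespace Groth.Agent.TriH.WayOut

open Groth.Agent.DerAdj

universe w w' v v' u u'

section Four

variable {D : Type u} [Category.{v} D] [Preadditive D] [HasZeroObject D] [HasShift D ℤ]
  [∀ n : ℤ, (shiftFunctor D n).Additive] [Pretriangulated D]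
  {B : Type u'} [Category.{v'} B] [Abelian B]
  {K L : D ⥤ B} [K.IsHomological] [L.IsHomological] (τ : K ⟶ L)

lemma mono_app₂ (T : Triangle D) (hT : T ∈ distTriang D)
    (h₀ : Epi (τ.app (T.obj₃⟦(-1 : ℤ)⟧))) (h₁ : Mono (τ.app T.obj₁)) (h₃ : Mono (τ.app T.obj₃)) :
    Mono (τ.app T.obj₂) := by
  have hT' := inv_rot_of_distTriang _ hT
  let φ : ComposableArrows.mk₃ (K.map T.invRotate.mor₁) (K.map T.mor₁) (K.map T.mor₂) ⟶
      ComposableArrows.mk₃ (L.map T.invRotate.mor₁) (L.map T.mor₁) (L.map T.mor₂) :=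
    ComposableArrows.homMk₃ (τ.app _) (τ.app _) (τ.app _) (τ.app _) (τ.naturality _) (τ.naturality _)
      (τ.naturality _)
  exact Abelian.mono_of_epi_of_mono_of_mono φ
    (ComposableArrows.exact_of_δ₀
      (K.map_distinguished_exact _ hT').exact_toComposableArrows
      (K.map_distinguished_exact _ hT).exact_toComposableArrows)
    (ComposableArrows.exact_of_δ₀
      (L.map_distinguished_exact _ hT').exact_toComposableArrows
      (L.map_distinguished_exact _ hT).exact_toComposableArrows) h₀ h₁ h₃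

lemma epi_app₂ (T : Triangle D) (hT : T ∈ distTriang D)
    (h₁ : Epi (τ.app T.obj₁)) (h₃ : Epi (τ.app T.obj₃)) (h₄ : Mono (τ.app (T.obj₁⟦(1 : ℤ)⟧))) :
    Epi (τ.app T.obj₂) := by
  have hT' := rot_of_distTriang _ hT
  let φ : ComposableArrows.mk₃ (K.map T.mor₁) (K.map T.mor₂) (K.map T.mor₃) ⟶
      ComposableArrows.mk₃ (L.map T.mor₁) (L.map T.mor₂) (L.map T.mor₃) :=
    ComposableArrows.homMk₃ (τ.app _) (τ.app _) (τ.app _) (τ.app _) (τ.naturality _) (τ.naturality _)
      (τ.naturality _)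
  exact Abelian.epi_of_epi_of_epi_of_mono φ
    (ComposableArrows.exact_of_δ₀
      (K.map_distinguished_exact _ hT).exact_toComposableArrows
      (K.map_distinguished_exact _ hT').exact_toComposableArrows)
    (ComposableArrows.exact_of_δ₀
      (L.map_distinguished_exact _ hT).exact_toComposableArrows
      (L.map_distinguished_exact _ hT').exact_toComposableArrows) h₁ h₃ h₄

end Four

variable {A : Type u} {B : Type u'} [Category.{v} A] [Category.{v'} B] [Abelian A] [Abelian B]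
  [HasDerivedCategory.{w} A] [HasDerivedCategory.{w'} B]

/-- `Φ` is way-out right. -/
def Right (Φ : DerivedCategory A ⥤ DerivedCategory B) : Prop :=
  ∀ n₁ : ℤ, ∃ n₂ : ℤ, ∀ Y : DerivedCategory A, Y.IsGE n₂ → (Φ.obj Y).IsGE n₁

/-- `Φ` is way-out left. -/
def Left (Φ : DerivedCategory A ⥤ DerivedCategory B) : Prop :=
  ∀ n₁ : ℤ, ∃ n₂ : ℤ, ∀ Y : DerivedCategory A, Y.IsLE n₂ → (Φ.obj Y).IsLE n₁

lemma isIso_homology_mor₂ {T : Triangle (DerivedCategory A)} (hT : T ∈ distinguishedTriangles)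
    (k : ℤ) [T.obj₁.IsLE k] (i : ℤ) (hi : k < i) :
    IsIso ((homologyFunctor A i).map T.mor₂) := by
  have : Mono ((homologyFunctor A i).map T.mor₂) :=
    (HomologySequence.mono_homologyMap_mor₂_iff _ hT i).2
      ((T.obj₁.isZero_of_isLE k i hi).eq_of_src _ _)
  have : Epi ((homologyFunctor A i).map T.mor₂) :=
    (HomologySequence.epi_homologyMap_mor₂_iff _ hT i (i + 1) rfl).2
      ((T.obj₁.isZero_of_isLE k (i + 1) (by omega)).eq_of_tgt _ _)
  exact isIso_of_mono_of_epi _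

variable {Φ Ψ : DerivedCategory A ⥤ DerivedCategory B} [Φ.CommShift ℤ] [Ψ.CommShift ℤ]
  [Φ.IsTriangulated] [Ψ.IsTriangulated] (τ : Φ ⟶ Ψ) [NatTrans.CommShift τ ℤ]

theorem bounded (Y : DerivedCategory A) (a b : ℤ) [Y.IsGE a] [Y.IsLE b]
    (hY : ∀ q, IsIso (τ.app ((singleFunctor A 0).obj ((homologyFunctor A q).obj Y)))) :
    IsIso (τ.app Y) := by
  haveI : Y.IsLE (a + (b - a + 1).toNat - 1) := TStructure.t.isLE_of_le Y b _ (by omega)
  exact isIso_app_of_bounded τ (b - a + 1).toNat Y a hY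

theorem right (hΦ : Right Φ) (hΨ : Right Ψ) (Y : DerivedCategory A) (n : ℤ) [Y.IsGE n]
    (hY : ∀ q, IsIso (τ.app ((singleFunctor A 0).obj ((homologyFunctor A q).obj Y)))) :
    IsIso (τ.app Y) := by
  rw [DerivedCategory.isIso_iff]
  intro i
  obtain ⟨a, ha⟩ := hΦ (i + 1)
  obtain ⟨b, hb⟩ := hΨ (i + 1)
  let m := max (max a b) n
  obtain ⟨X₁, X₃, h₁, h₃, f, g, h, hT⟩ :=
    (TStructure.t (C := A)).exists_triangle Y m (m + 1) rfl
  haveI hX₁ : (Triangle.mk f g h).obj₁.IsLE m := ⟨h₁⟩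
  haveI hX₃ : (Triangle.mk f g h).obj₃.IsGE (m + 1) := ⟨h₃⟩
  haveI : (Triangle.mk f g h).obj₂.IsGE n := ‹_›
  haveI := isGE_obj₁ hT m n
  haveI : X₁.IsLE m := hX₁
  haveI : X₁.IsGE n := ‹(Triangle.mk f g h).obj₁.IsGE n›
  haveI : IsIso (τ.app X₁) := by
    refine bounded τ X₁ n m fun q => ?_
    by_cases hq : q ≤ m
    · haveI := isIso_homology_mor₁ hT (m + 1) q (by omega)
      exact isIso_app_of_iso τ ((singleFunctor A 0).mapIso
        (asIso ((homologyFunctor A q).map (Triangle.mk f g h).mor₁)).symm) (hY q)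
    · exact isIso_app_of_isZero τ ((singleFunctor A 0).map_isZero
        (X₁.isZero_of_isLE m q (by omega)))
  have hΦT := Φ.map_distinguished _ hT
  have hΨT := Ψ.map_distinguished _ hT
  haveI : (Φ.mapTriangle.obj (Triangle.mk f g h)).obj₃.IsGE (i + 1) :=
    ha _ (TStructure.t.isGE_of_ge _ a (m + 1) (by omega))
  haveI : (Ψ.mapTriangle.obj (Triangle.mk f g h)).obj₃.IsGE (i + 1) :=
    hb _ (TStructure.t.isGE_of_ge _ b (m + 1) (by omega))
  haveI : IsIso ((homologyFunctor B i).map (Φ.map f)) := isIso_homology_mor₁ hΦT (i + 1) i (by omega)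
  haveI : IsIso ((homologyFunctor B i).map (Ψ.map f)) := isIso_homology_mor₁ hΨT (i + 1) i (by omega)
  have h' : (homologyFunctor B i).map (Φ.map f) ≫ (homologyFunctor B i).map (τ.app Y) =
      (homologyFunctor B i).map (τ.app X₁) ≫ (homologyFunctor B i).map (Ψ.map f) := by
    rw [← Functor.map_comp, ← Functor.map_comp, τ.naturality]
  haveI : IsIso ((homologyFunctor B i).map (Φ.map f) ≫ (homologyFunctor B i).map (τ.app Y)) := by
    rw [h']; infer_instance
  exact IsIso.of_isIso_comp_left ((homologyFunctor B i).map (Φ.map f)) _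

theorem both (hΦ : Right Φ) (hΨ : Right Ψ) (hΦ' : Left Φ) (hΨ' : Left Ψ) (Y : DerivedCategory A)
    (hY : ∀ q, IsIso (τ.app ((singleFunctor A 0).obj ((homologyFunctor A q).obj Y)))) :
    IsIso (τ.app Y) := by
  rw [DerivedCategory.isIso_iff]
  intro i
  obtain ⟨a, ha⟩ := hΦ' (i - 1)
  obtain ⟨b, hb⟩ := hΨ' (i - 1)
  let m := min a b
  obtain ⟨X₁, X₃, h₁, h₃, f, g, h, hT⟩ :=
    (TStructure.t (C := A)).exists_triangle Y m (m + 1) rfl
  haveI hX₁ : (Triangle.mk f g h).obj₁.IsLE m := ⟨h₁⟩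
  haveI hX₃ : (Triangle.mk f g h).obj₃.IsGE (m + 1) := ⟨h₃⟩
  haveI : X₃.IsGE (m + 1) := hX₃
  haveI : IsIso (τ.app X₃) := by
    refine right τ hΦ hΨ X₃ (m + 1) fun q => ?_
    by_cases hq : m < q
    · have hiq := isIso_homology_mor₂ hT m q hq
      exact isIso_app_of_iso τ ((singleFunctor A 0).mapIso
        (@asIso _ _ _ _ _ hiq)) (hY q)
    · exact isIso_app_of_isZero τ ((singleFunctor A 0).map_isZero
        (X₃.isZero_of_isGE (m + 1) q (by omega)))
  have hΦT := Φ.map_distinguished _ hT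
  have hΨT := Ψ.map_distinguished _ hT
  haveI : (Φ.mapTriangle.obj (Triangle.mk f g h)).obj₁.IsLE (i - 1) :=
    ha _ (TStructure.t.isLE_of_le _ m a (by omega))
  haveI : (Ψ.mapTriangle.obj (Triangle.mk f g h)).obj₁.IsLE (i - 1) :=
    hb _ (TStructure.t.isLE_of_le _ m b (by omega))
  haveI : IsIso ((homologyFunctor B i).map (Φ.map g)) := isIso_homology_mor₂ hΦT (i - 1) i (by omega)
  haveI : IsIso ((homologyFunctor B i).map (Ψ.map g)) := isIso_homology_mor₂ hΨT (i - 1) i (by omega)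
  have h' : (homologyFunctor B i).map (τ.app Y) ≫ (homologyFunctor B i).map (Ψ.map g) =
      (homologyFunctor B i).map (Φ.map g) ≫ (homologyFunctor B i).map (τ.app X₃) := by
    rw [← Functor.map_comp, ← Functor.map_comp, τ.naturality]
  haveI : IsIso ((homologyFunctor B i).map (τ.app Y) ≫ (homologyFunctor B i).map (Ψ.map g)) := by
    rw [h']; infer_instance
  exact IsIso.of_isIso_comp_right _ ((homologyFunctor B i).map (Ψ.map g))

theorem cogenerating (P : ObjectProperty A) (hP : ∀ X : A, ∃ (Y : A) (i : X ⟶ Y), P Y ∧ Mono i)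
    (hΦ : Right Φ) (hΨ : Right Ψ)
    (hτ : ∀ X : A, P X → IsIso (τ.app ((singleFunctor A 0).obj X))) (X : A) :
    IsIso (τ.app ((singleFunctor A 0).obj X)) := by
  rw [DerivedCategory.isIso_iff]
  intro i
  let σ := Functor.whiskerRight τ (homologyFunctor B i)
  let S : ℤ → Prop := fun q => ∀ X : A, IsIso (σ.app ((singleFunctor A q).obj X))
  have hσ : ∀ {Y Y' : DerivedCategory A} (_ : Y ≅ Y'), IsIso (σ.app Y) → IsIso (σ.app Y') :=
    fun e he => (NatTrans.isIso_app_iff_of_iso σ e).1 he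
  obtain ⟨a, ha⟩ := hΦ (i + 1)
  obtain ⟨b, hb⟩ := hΨ (i + 1)
  have hbase : ∀ q, max a b ≤ q → S q := by
    intro q hq Z
    haveI := ha ((singleFunctor A q).obj Z) (TStructure.t.isGE_of_ge _ a q (by omega))
    haveI := hb ((singleFunctor A q).obj Z) (TStructure.t.isGE_of_ge _ b q (by omega))
    exact ⟨⟨0, (DerivedCategory.isZero_of_isGE _ (i + 1) i (by omega)).eq_of_src _ _,
      (DerivedCategory.isZero_of_isGE _ (i + 1) i (by omega)).eq_of_src _ _⟩⟩
  have hI : ∀ (q : ℤ) (I : A), P I → IsIso (σ.app ((singleFunctor A q).obj I)) := fun q I hI' =>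
    haveI := isIso_app_singleFunctor τ I q (hτ I hI')
    inferInstanceAs (IsIso ((homologyFunctor B i).map (τ.app _)))
  have hstep : ∀ q, S (q + 1) → S q := by
    intro q hq
    have e : ∀ (Z : A) (p r : ℤ) (_ : r + p = 0),
        ((singleFunctor A 0).obj Z)⟦r⟧ ≅ (singleFunctor A p).obj Z :=
      fun Z p r hr => ((singleFunctors A).shiftIso r p 0 hr).app Z
    have key : ∀ Z : A, ∃ (T : Triangle (DerivedCategory A)) (_ : T ∈ distTriang _) (W I : A),
        P I ∧ Nonempty (T.obj₁ ≅ (singleFunctor A (q + 1)).obj W) ∧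
          Nonempty (T.obj₂ ≅ (singleFunctor A q).obj Z) ∧
          Nonempty (T.obj₃ ≅ (singleFunctor A q).obj I) := by
      intro Z
      obtain ⟨I, j, hI', _⟩ := hP Z
      have hse : (ShortComplex.mk j (cokernel.π j) (cokernel.condition j)).ShortExact :=
        { exact := ShortComplex.exact_cokernel j }
      exact ⟨_, Triangle.shift_distinguished _ (inv_rot_of_distTriang _ hse.singleTriangle_distinguished)
        (-q), cokernel j, I, hI',
        ⟨((shiftFunctorAdd' _ (-1 : ℤ) (-q) (-(q + 1)) (by omega)).app _).symm ≪≫ e (cokernel j) (q + 1) (-(q + 1)) (by omega)⟩,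
        ⟨e Z q (-q) (by omega)⟩, ⟨e I q (-q) (by omega)⟩⟩
    have hmono : ∀ Z : A, Mono (σ.app ((singleFunctor A q).obj Z)) := by
      intro Z
      obtain ⟨T, hT, W, I, hI', ⟨e₁⟩, ⟨e₂⟩, ⟨e₃⟩⟩ := key Z
      haveI := hσ e₁.symm (hq W)
      haveI := hσ e₃.symm (hI q I hI')
      haveI := hσ ((shiftFunctor _ (-1 : ℤ)).mapIso e₃ ≪≫
        ((singleFunctors A).shiftIso (-1) (q + 1) q (by omega)).app I).symm (hI (q + 1) I hI')
      haveI := mono_app₂ σ T hT inferInstance inferInstance inferInstance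
      rw [show σ.app ((singleFunctor A q).obj Z) = (Φ ⋙ homologyFunctor B i).map e₂.inv ≫ σ.app T.obj₂ ≫
        (Ψ ⋙ homologyFunctor B i).map e₂.hom by
          rw [← σ.naturality, Iso.map_inv_hom_id_assoc]]
      infer_instance
    intro Z
    obtain ⟨T, hT, W, I, hI', ⟨e₁⟩, ⟨e₂⟩, ⟨e₃⟩⟩ := key Z
    refine hσ e₂ ?_
    haveI := hσ e₁.symm (hq W)
    haveI := hσ e₃.symm (hI q I hI')
    haveI := hσ ((shiftFunctor _ (-1 : ℤ)).mapIso e₃ ≪≫
      ((singleFunctors A).shiftIso (-1) (q + 1) q (by omega)).app I).symm (hI (q + 1) I hI')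
    let e₄ := (shiftFunctor _ (1 : ℤ)).mapIso e₁ ≪≫
      ((singleFunctors A).shiftIso 1 q (q + 1) (by omega)).app W
    have h₄ : Mono (σ.app (T.obj₁⟦(1 : ℤ)⟧)) := by
      haveI := hmono W
      rw [show σ.app (T.obj₁⟦(1 : ℤ)⟧) = (Φ ⋙ homologyFunctor B i).map e₄.hom ≫ σ.app _ ≫
        (Ψ ⋙ homologyFunctor B i).map e₄.inv by
          rw [← σ.naturality, Iso.map_hom_inv_id_assoc]]
      infer_instance
    haveI := mono_app₂ σ T hT inferInstance inferInstance inferInstance
    haveI := epi_app₂ σ T hT inferInstance inferInstance h₄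
    exact isIso_of_mono_of_epi _
  have all : ∀ (k : ℕ) (q : ℤ), max a b ≤ q + k → S q := by
    intro k
    induction k with
    | zero => intro q hq; exact hbase q (by omega)
    | succ k ih => intro q hq; exact hstep q (ih (q + 1) (by omega))
  exact all (max a b).toNat 0 (by omega) X

end Groth.Agent.TriH.WayOut
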