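import Groth.Agent.TriH.RightRes
import Mathlib.Algebra.Homology.HomotopyCategory.KInjective
import Mathlib.CategoryTheory.Triangulated.TStructure.TruncLTGE
import Mathlib.Algebra.Homology.SingleHomology
import Mathlib.Algebra.Homology.DerivedCategory.KInjective
import Mathlib.Algebra.Homology.DerivedCategory.TStructure
import Mathlib.Algebra.Homology.DerivedCategory.FullyFaithful
import Mathlib.Algebra.Homology.Refinements
import Mathlib.Algebra.Homology.Single
import Mathlib.CategoryTheory.Preadditive.Injective.Basic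

/-!
# Injective amplitude
-/

set_option autoImplicit false
set_option linter.style.haveILetI false

open CategoryTheory CategoryTheory.Limits DerivedCategory ZeroObject

namespace Groth.Agent.TriH.InjAmp

universe w v u

variable {A : Type u} [Category.{v} A] [Abelian A] [HasDerivedCategory.{w} A]

/-- `Hom(Y[0], X⟦i⟧) = 0` for all objects `Y`. -/
def VanAt (X : DerivedCategory A) (i : ℤ) : Prop :=
  ∀ (Y : A) (φ : (singleFunctor A 0).obj Y ⟶ X⟦i⟧), φ = 0

lemma VanAt.of_iso {X X' : DerivedCategory A} (e : X ≅ X') {i : ℤ} (h : VanAt X i) : VanAt X' i :=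
  fun Y φ => by
    rw [← cancel_mono (e.inv⟦i⟧'), h Y (φ ≫ e.inv⟦i⟧'), zero_comp]

lemma VanAt.eq_zero {X : DerivedCategory A} {i : ℤ} (h : VanAt X i) (Z : A)
    (ψ : (singleFunctor A i).obj Z ⟶ X) : ψ = 0 := by
  let e := ((singleFunctors A).shiftIso i 0 i (by omega)).app Z
  refine (shiftFunctor (DerivedCategory A) i).map_injective ?_
  rw [Functor.map_zero, ← cancel_epi e.inv, comp_zero]
  exact h Z _

lemma mk_vanAt {X : DerivedCategory A} {i : ℤ}
    (h : ∀ (Z : A) (ψ : (singleFunctor A i).obj Z ⟶ X), ψ = 0) : VanAt X i := by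
  intro Y φ
  let e := ((singleFunctors A).shiftIso i 0 i (by omega)).app Y
  obtain ⟨ψ, hψ⟩ := (shiftFunctor (DerivedCategory A) i).map_surjective (e.hom ≫ φ)
  rw [h Y ψ, Functor.map_zero] at hψ
  rw [← cancel_epi e.hom, ← hψ, comp_zero]

lemma vanAt_of_isZero_X (J : CochainComplex A ℤ) [J.IsKInjective] (i : ℤ) (h : IsZero (J.X i)) :
    VanAt (Q.obj J) i := by
  refine mk_vanAt fun Z ψ => ?_
  let θ := (quotientCompQhIso A).app ((CochainComplex.singleFunctor A i).obj Z)
  let θ' := (quotientCompQhIso A).app J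
  obtain ⟨g, hg⟩ := (CochainComplex.IsKInjective.Qh_map_bijective _ J).surjective
    (θ.hom ≫ (show Q.obj ((CochainComplex.singleFunctor A i).obj Z) ⟶ Q.obj J from ψ) ≫ θ'.inv)
  obtain ⟨g', rfl⟩ := (HomotopyCategory.quotient A (ComplexShape.up ℤ)).map_surjective g
  have : g' = 0 := by
    ext n
    by_cases hn : n = i
    · subst hn; exact h.eq_of_tgt _ _
    · exact (HomologicalComplex.isZero_single_obj_X (ComplexShape.up ℤ) i Z n hn).eq_of_src _ _
  rw [this, Functor.map_zero, Functor.map_zero] at hg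
  have := congrArg (fun z => θ.inv ≫ z ≫ θ'.hom) hg
  simp at this
  exact this.symm.trans ((congrArg (θ.inv ≫ ·) zero_comp).trans comp_zero)

/-- Vanishing gives a lift of cycles through the differential. -/
lemma exists_section (J : CochainComplex A ℤ) [J.IsKInjective] (i : ℤ) (h : VanAt (Q.obj J) i) :
    ∃ s : J.cycles i ⟶ J.X (i - 1), s ≫ J.d (i - 1) i = J.iCycles i := by
  let f : (CochainComplex.singleFunctor A i).obj (J.cycles i) ⟶ J :=
    HomologicalComplex.mkHomFromSingle (J.iCycles i) (fun k _ => J.iCycles_d i k)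
  have hf : Q.map f = 0 := h.eq_zero _ _
  have hf' : (HomotopyCategory.quotient A (ComplexShape.up ℤ)).map f = 0 :=
    (CochainComplex.IsKInjective.Qh_map_bijective _ J).injective (by
      have := (quotientCompQhIso A).hom.naturality f
      simp only [Functor.comp_map] at this
      rw [Functor.map_zero, ← cancel_mono ((quotientCompQhIso A).hom.app J), this, hf, comp_zero, zero_comp])
  let H : Homotopy f 0 := HomotopyCategory.homotopyOfEq _ _ (hf'.trans (Functor.map_zero _ _ _).symm)
  have hi := H.comm i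
  rw [dNext_eq _ (show (ComplexShape.up ℤ).Rel i (i + 1) from rfl),
    prevD_eq _ (show (ComplexShape.up ℤ).Rel (i - 1) i by simp), HomologicalComplex.zero_f, add_zero] at hi
  have hd : ((CochainComplex.singleFunctor A i).obj (J.cycles i)).d i (i + 1) = 0 :=
    (HomologicalComplex.isZero_single_obj_X (ComplexShape.up ℤ) i _ (i + 1) (by omega)).eq_of_tgt _ _
  rw [hd, zero_comp, zero_add] at hi
  refine ⟨(HomologicalComplex.singleObjXSelf (ComplexShape.up ℤ) i (J.cycles i)).inv ≫ H.hom i (i - 1), ?_⟩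
  have hfi : f.f i = (HomologicalComplex.singleObjXSelf (ComplexShape.up ℤ) i (J.cycles i)).hom ≫
      J.iCycles i := HomologicalComplex.mkHomFromSingle_f _ _
  exact (Category.assoc _ _ _).trans (((Iso.inv_comp_eq _).2 (hi.symm.trans hfi)))

lemma exactAt (J : CochainComplex A ℤ) [J.IsKInjective] (i : ℤ) (h : VanAt (Q.obj J) i) :
    J.ExactAt i := by
  obtain ⟨s, hs⟩ := exists_section J i h
  rw [HomologicalComplex.exactAt_iff_isZero_homology]
  refine IsZero.of_epi_eq_zero (J.homologyπ i) ?_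
  have : 𝟙 (J.cycles i) = s ≫ J.toCycles (i - 1) i := by
    rw [← cancel_mono (J.iCycles i)]
    simp [hs]
  rw [← Category.id_comp (J.homologyπ i), this, Category.assoc, J.toCycles_comp_homologyπ, comp_zero]

lemma injective_cycles (J : CochainComplex A ℤ) [J.IsKInjective] (i : ℤ) (h : VanAt (Q.obj J) i)
    [Injective (J.X (i - 1))] : Injective (J.cycles i) := by
  obtain ⟨s, hs⟩ := exists_section J i h
  exact Retract.injective
    { i := s
      r := J.toCycles (i - 1) i
      retract := by rw [← cancel_mono (J.iCycles i)]; simp [hs] }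

lemma injective_cycles_pred (J : CochainComplex A ℤ) [J.IsKInjective] (i : ℤ) (h : VanAt (Q.obj J) (i + 1))
    [Injective (J.X i)] : Injective (J.cycles i) := by
  obtain ⟨s, hs⟩ := exists_section J (i + 1) h
  let s' : J.cycles (i + 1) ⟶ J.X i := s ≫ (J.XIsoOfEq (show i + 1 - 1 = i by omega)).hom
  have hs' : s' ≫ J.d i (i + 1) = J.iCycles (i + 1) := by
    dsimp [s']
    rw [Category.assoc, J.XIsoOfEq_hom_comp_d, hs]
  let r : J.X i ⟶ J.cycles i := J.liftCycles (𝟙 _ - J.toCycles i (i + 1) ≫ s') (i + 1) (by simp) (by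
    rw [Preadditive.sub_comp, Category.id_comp, Category.assoc, hs', J.toCycles_i, sub_self])
  exact Retract.injective
    { i := J.iCycles i
      r := r
      retract := by
        rw [← cancel_mono (J.iCycles i)]
        have h0 : J.iCycles i ≫ J.toCycles i (i + 1) = 0 := by
          rw [← cancel_mono (J.iCycles (i + 1))]
          simp
        simp [r, reassoc_of% h0] }

/-- Vanishing in one degree kills homology, for any complex. -/
lemma isZero_homology (K : CochainComplex A ℤ) (i : ℤ) (h : VanAt (Q.obj K) i) :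
    IsZero (K.homology i) := by
  let f : (CochainComplex.singleFunctor A i).obj (K.cycles i) ⟶ K :=
    HomologicalComplex.mkHomFromSingle (K.iCycles i) (fun k _ => K.iCycles_d i k)
  have hf : Q.map f = 0 := h.eq_zero _ _
  have hH : HomologicalComplex.homologyMap f i = 0 := by
    have := NatIso.naturality_1 (homologyFunctorFactors A i) f
    simp only [Functor.comp_map, hf, Functor.map_zero, zero_comp, comp_zero] at this
    exact this.symm
  refine IsZero.of_epi_eq_zero (K.homologyπ i) ?_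
  have hid : (HomologicalComplex.singleObjCyclesSelfIso (ComplexShape.up ℤ) i (K.cycles i)).inv ≫
      HomologicalComplex.cyclesMap f i = 𝟙 _ := by
    rw [← cancel_mono (K.iCycles i), Category.id_comp, Category.assoc]
    simp [f, CochainComplex.singleFunctor, CochainComplex.singleFunctors]
  rw [← Category.id_comp (K.homologyπ i), ← hid, Category.assoc]
  exact (congrArg (_ ≫ ·) ((HomologicalComplex.homologyπ_naturality f i).symm.trans
    (by rw [hH, comp_zero]))).trans comp_zero

/-- Truncation above of a bounded below complex of injectives. -/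
lemma truncAbove (J : CochainComplex A ℤ) (a : ℤ) [J.IsStrictlyGE a] [∀ n, Injective (J.X n)] (b : ℤ)
    (h : ∀ i, b < i → VanAt (Q.obj J) i) :
    QuasiIso (J.ιTruncLE b) ∧ (∀ n, Injective ((J.truncLE b).X n)) := by
  haveI := CochainComplex.isKInjective_of_injective J a
  refine ⟨?_, fun n => ?_⟩
  · rw [J.quasiIso_ιTruncLE_iff, J.isLE_iff]
    exact fun i hi => exactAt J i (h i hi)
  · rcases lt_trichotomy n b with hn | rfl | hn
    · exact Injective.of_iso (J.truncLEXIso b n hn).symm inferInstance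
    · haveI := injective_cycles_pred J n (h (n + 1) (by omega))
      exact Injective.of_iso (J.truncLEXIsoCycles n).symm inferInstance
    · exact IsZero.injective ((J.truncLE b).isZero_of_isStrictlyLE b n hn)

omit [HasDerivedCategory.{w} A] in
lemma exists_map_truncAbove (J : CochainComplex A ℤ) (a b : ℤ) [J.IsStrictlyGE a]
    [∀ n, Injective (J.X n)] (hq : QuasiIso (J.ιTruncLE b)) (hinj : ∀ n, Injective ((J.truncLE b).X n)) :
    ∃ g : J ⟶ J.truncLE b, QuasiIso g := by
  haveI := CochainComplex.isKInjective_of_injective J a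
  haveI := hinj
  haveI : (J.truncLE b).IsStrictlyGE a := inferInstance
  haveI := CochainComplex.isKInjective_of_injective (J.truncLE b) a
  obtain ⟨e, he⟩ := (CochainComplex.IsKInjective.quasiIso_iff (J.ιTruncLE b)).1 hq
  exact ⟨e.inv, (homotopyEquivalences_le_quasiIso _ _ _ ⟨e.symm, rfl⟩)⟩

theorem exists_quasiIso_bounded_iff [EnoughInjectives A] (K : CochainComplex A ℤ) (a : ℤ) [K.IsStrictlyGE a] :
    (∃ (I : CochainComplex A ℤ) (b c : ℤ) (f : K ⟶ I), I.IsStrictlyGE b ∧ I.IsStrictlyLE c ∧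
        (∀ n : ℤ, Injective (I.X n)) ∧ QuasiIso f) ↔
      ∃ n₀ : ℤ, ∀ (Y : A) (i : ℤ), n₀ < i →
        ∀ φ : (DerivedCategory.singleFunctor A 0).obj Y ⟶ (DerivedCategory.Q.obj K)⟦i⟧, φ = 0 := by
  constructor
  · rintro ⟨I, b, c, f, _, _, hI, hf⟩
    haveI := hI
    haveI := CochainComplex.isKInjective_of_injective I b
    haveI := (isIso_Q_map_iff_quasiIso A f).2 hf
    exact ⟨c, fun Y i hi => ((vanAt_of_isZero_X I i (I.isZero_of_isStrictlyLE c i hi)).of_iso
      (asIso (Q.map f)).symm) Y⟩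
  · rintro ⟨n₀, hn₀⟩
    obtain ⟨J, f, _, hJ, -, hf⟩ := RightRes.exists_right_resolution (I := fun X : A => Injective X)
      ⟨0, isZero_zero _, inferInstance⟩ (fun X => ⟨Injective.under X, Injective.ι X, inferInstance, inferInstance⟩) K a
    haveI := hJ
    haveI := hf
    haveI := (isIso_Q_map_iff_quasiIso A f).2 hf
    obtain ⟨hq, hinj⟩ := truncAbove J a n₀ (fun i hi =>
      VanAt.of_iso (X := Q.obj K) (asIso (Q.map f)) (fun Y φ => hn₀ Y i hi φ))
    obtain ⟨g, hg⟩ := exists_map_truncAbove J a n₀ hq hinj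
    exact ⟨J.truncLE n₀, a, n₀, f ≫ g, inferInstance, inferInstance, hinj, quasiIso_comp f g⟩

theorem exists_of_distTriang [EnoughInjectives A]
    (T : Pretriangulated.Triangle (DerivedCategory A)) (hT : T ∈ Pretriangulated.distinguishedTriangles)
    (h₁ : (∃ (I : CochainComplex A ℤ) (b c : ℤ), I.IsStrictlyGE b ∧ I.IsStrictlyLE c ∧
        (∀ n : ℤ, Injective (I.X n)) ∧ Nonempty (T.obj₁ ≅ DerivedCategory.Q.obj I)))
    (h₃ : (∃ (I : CochainComplex A ℤ) (b c : ℤ), I.IsStrictlyGE b ∧ I.IsStrictlyLE c ∧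
        (∀ n : ℤ, Injective (I.X n)) ∧ Nonempty (T.obj₃ ≅ DerivedCategory.Q.obj I))) :
    (∃ (I : CochainComplex A ℤ) (b c : ℤ), I.IsStrictlyGE b ∧ I.IsStrictlyLE c ∧
        (∀ n : ℤ, Injective (I.X n)) ∧ Nonempty (T.obj₂ ≅ DerivedCategory.Q.obj I)) := by
  obtain ⟨I₁, b₁, c₁, _, _, hI₁, ⟨e₁⟩⟩ := h₁
  obtain ⟨I₃, b₃, c₃, _, _, hI₃, ⟨e₃⟩⟩ := h₃
  haveI := hI₁
  haveI := hI₃
  haveI := CochainComplex.isKInjective_of_injective I₁ b₁
  haveI := CochainComplex.isKInjective_of_injective I₃ b₃
  have hv : ∀ i, max c₁ c₃ < i → VanAt T.obj₂ i := by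
    intro i hi Y φ
    obtain ⟨ψ, hψ⟩ := Pretriangulated.Triangle.coyoneda_exact₂ _
      (Pretriangulated.Triangle.shift_distinguished _ hT i) φ
      (((vanAt_of_isZero_X I₃ i (I₃.isZero_of_isStrictlyLE c₃ i (by omega))).of_iso e₃.symm) Y _)
    have : ψ = 0 := ((vanAt_of_isZero_X I₁ i (I₁.isZero_of_isStrictlyLE c₁ i (by omega))).of_iso e₁.symm) Y ψ
    rw [hψ, this]
    exact zero_comp
  haveI : T.obj₂.IsGE (min b₁ b₃) := by
    refine TStructure.t.isGE₂ T hT _ ?_ ?_
    · haveI : (Q.obj I₁).IsGE (min b₁ b₃) := by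
        haveI := I₁.isStrictlyGE_of_ge (min b₁ b₃) b₁ (by omega)
        infer_instance
      exact TStructure.t.isGE_of_iso e₁.symm _
    · haveI : (Q.obj I₃).IsGE (min b₁ b₃) := by
        haveI := I₃.isStrictlyGE_of_ge (min b₁ b₃) b₃ (by omega)
        infer_instance
      exact TStructure.t.isGE_of_iso e₃.symm _
  obtain ⟨K, _, ⟨e⟩⟩ := T.obj₂.exists_iso_Q_obj_of_isGE (min b₁ b₃)
  obtain ⟨I, b, c, f, hb, hc, hI, hf⟩ := (exists_quasiIso_bounded_iff K (min b₁ b₃)).2
    ⟨max c₁ c₃, fun Y i hi => ((hv i hi).of_iso e) Y⟩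
  haveI := (isIso_Q_map_iff_quasiIso A f).2 hf
  exact ⟨I, b, c, hb, hc, hI, ⟨e ≪≫ asIso (Q.map f)⟩⟩

theorem amplitude_iff [EnoughInjectives A] (X : DerivedCategory A) (a b : ℤ) :
    (∀ (F : A) (i : ℤ), (i < a ∨ b < i) →
        ∀ φ : (DerivedCategory.singleFunctor A 0).obj F ⟶ (shiftFunctor (DerivedCategory A) i).obj X, φ = 0) ↔
      ∃ I : CochainComplex A ℤ, (∀ i, Injective (I.X i)) ∧ (∀ i, (i < a ∨ b < i) → IsZero (I.X i)) ∧
        Nonempty (DerivedCategory.Q.obj I ≅ X) := by
  constructor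
  · intro h
    let e₀ := Q.objObjPreimageIso X
    have hK : ∀ i, i < a → IsZero ((Q.objPreimage X).homology i) := fun i hi =>
      isZero_homology _ i (VanAt.of_iso e₀.symm (fun Y φ => h Y i (Or.inl hi) φ))
    obtain ⟨J, f, _, hinj, hf⟩ := RightRes.exists_right_resolution_of_isGE (I := fun X : A => Injective X)
      ⟨0, isZero_zero _, inferInstance⟩
      (fun X => ⟨Injective.under X, Injective.ι X, inferInstance, inferInstance⟩) _ a hK
    haveI := hinj
    haveI := (isIso_Q_map_iff_quasiIso A f).2 hf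
    let e : X ≅ Q.obj J := e₀.symm ≪≫ asIso (Q.map f)
    obtain ⟨hq, hI⟩ := truncAbove J a b (fun i hi => VanAt.of_iso e (fun Y φ => h Y i (Or.inr hi) φ))
    haveI := (isIso_Q_map_iff_quasiIso A (J.ιTruncLE b)).2 hq
    refine ⟨J.truncLE b, hI, ?_, ⟨asIso (Q.map (J.ιTruncLE b)) ≪≫ e.symm⟩⟩
    rintro i (hi | hi)
    · exact (J.truncLE b).isZero_of_isStrictlyGE a i hi
    · exact (J.truncLE b).isZero_of_isStrictlyLE b i hi
  · rintro ⟨I, hI, hz, ⟨e⟩⟩ F i hi
    haveI := hI
    haveI : I.IsStrictlyGE a := (I.isStrictlyGE_iff a).2 fun k hk => hz k (Or.inl hk)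
    haveI := CochainComplex.isKInjective_of_injective I a
    exact ((vanAt_of_isZero_X I i (hz i hi)).of_iso e) F

end Groth.Agent.TriH.InjAmp
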