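import Mathlib.Algebra.Homology.Refinements
import Mathlib.Algebra.Homology.Embedding.CochainComplex
import Mathlib.CategoryTheory.Abelian.CommSq
import Mathlib.Algebra.Homology.DerivedCategory.Basic
import Mathlib.CategoryTheory.Preadditive.Injective.Basic
import Mathlib.CategoryTheory.Limits.Preserves.Shapes.Kernels

/-!
# Injective resolutions inside a thick subcategory

A bounded below complex whose cohomology objects lie in a thick subcategory with enough relatively
injective objects maps by a quasi-isomorphism to a complex of such objects.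
-/

set_option autoImplicit false
set_option linter.style.haveILetI false

open CategoryTheory CategoryTheory.Limits HomologicalComplex

namespace Groth.Agent.TriH.SubcatInj

universe v v' u u'

variable {A' : Type u'} [Category.{v'} A'] [Abelian A'] {A : Type u} [Category.{v} A] [Abelian A]
  (ι : A' ⥤ A) [ι.Full] [PreservesFiniteLimits ι] [PreservesFiniteColimits ι]

omit [PreservesFiniteLimits ι] in
lemma essImage_cokernel {X Y : A} (f : X ⟶ Y) (hX : ι.essImage X) (hY : ι.essImage Y) :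
    ι.essImage (cokernel f) := by
  obtain ⟨X', ⟨eX⟩⟩ := hX
  obtain ⟨Y', ⟨eY⟩⟩ := hY
  haveI := ι.preservesZeroMorphisms_of_full
  refine ⟨cokernel (ι.preimage (eX.hom ≫ f ≫ eY.inv)),
    ⟨PreservesCokernel.iso ι _ ≪≫ cokernel.mapIso _ _ eX eY ?_⟩⟩
  simp

omit [PreservesFiniteLimits ι] [PreservesFiniteColimits ι] in
lemma essImage_of_iso {X Y : A} (e : X ≅ Y) (hX : ι.essImage X) : ι.essImage Y := by
  obtain ⟨X', ⟨eX⟩⟩ := hX
  exact ⟨X', ⟨eX ≪≫ e⟩⟩

variable (K : CochainComplex A ℤ)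

/-- One degree of the resolution. -/
structure Data (p : ℤ) where
  /-- the term -/
  J : A'
  inj : Injective (ι.obj J)
  /-- the component of the morphism -/
  α : K.X p ⟶ ι.obj J
  /-- the cokernel of the incoming differential of the resolution -/
  C : A
  mem : ι.essImage C
  /-- the projection -/
  e : ι.obj J ⟶ C
  epi_e : Epi e
  /-- the map on cokernels -/
  β : K.opcycles p ⟶ C
  inj_β : ∀ {T : A} (o : T ⟶ K.opcycles p), o ≫ K.fromOpcycles p (p + 1) = 0 → o ≫ β = 0 → o = 0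
  fac : K.pOpcycles p ≫ β = α ≫ e

/-- Two consecutive degrees of the resolution. -/
def Link {p : ℤ} (D : Data ι K p) (D' : Data ι K (p + 1)) : Prop :=
  ∃ (d : D.C ⟶ ι.obj D'.J) (w : d ≫ D'.e = 0),
    (ShortComplex.mk d D'.e w).Exact ∧
    (K.d p (p + 1) ≫ D'.α = D.α ≫ D.e ≫ d) ∧
    ∀ {T : A} (c : T ⟶ D.C), c ≫ d = 0 → ∃ (T' : A) (π : T' ⟶ T) (_ : Epi π) (o : T' ⟶ K.opcycles p),
      o ≫ D.β = π ≫ c ∧ o ≫ K.fromOpcycles p (p + 1) = 0

variable {ι K}

lemma exists_next
    (hext : ∀ S : ShortComplex A, S.ShortExact → ι.essImage S.X₁ → ι.essImage S.X₃ → ι.essImage S.X₂)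
    (hinj : ∀ X' : A', ∃ (Y' : A') (i : X' ⟶ Y'), Mono i ∧ Injective (ι.obj Y'))
    (hH : ∀ k, ι.essImage (K.homology k)) {p : ℤ} (D : Data ι K p) :
    ∃ D' : Data ι K (p + 1), Link ι K D D' := by
  let dK := K.fromOpcycles p (p + 1)
  let P := pushout dK D.β
  let i₁ : K.X (p + 1) ⟶ P := pushout.inl dK D.β
  let i₂ : D.C ⟶ P := pushout.inr dK D.β
  have hP : IsPushout dK D.β i₁ i₂ := IsPushout.of_hasPushout _ _
  let δ := K.fromOpcycles (p + 1) (p + 1 + 1)
  let f : P ⟶ K.opcycles (p + 1) := hP.desc (K.pOpcycles (p + 1)) 0 (by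
    rw [comp_zero, ← cancel_epi (K.pOpcycles p), comp_zero, K.p_fromOpcycles_assoc]
    exact K.d_pOpcycles p (p + 1))
  have hf₁ : i₁ ≫ f = K.pOpcycles (p + 1) := hP.inl_desc _ _ _
  have hf₂ : i₂ ≫ f = 0 := hP.inr_desc _ _ _
  haveI : Epi f := by
    haveI : Epi (i₁ ≫ f) := by rw [hf₁]; infer_instance
    exact epi_of_epi i₁ f
  have hK1 : K.d p (p + 1) ≫ i₁ = K.pOpcycles p ≫ D.β ≫ i₂ := by
    rw [← K.p_fromOpcycles p (p + 1), Category.assoc, hP.w]
  -- exactness at `P`
  have hPf : (ShortComplex.mk i₂ f hf₂).Exact := ShortComplex.exact_of_g_is_cokernel _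
    (CokernelCofork.IsColimit.ofπ' f hf₂ (fun {T} x hx => ⟨K.descOpcycles (i₁ ≫ x) p (by simp)
      (by rw [reassoc_of% hK1, hx, comp_zero, comp_zero]), hP.hom_ext
        (by rw [reassoc_of% hf₁, K.p_descOpcycles]) (by rw [reassoc_of% hf₂, zero_comp, hx])⟩))
  -- the extension
  let P' := kernel (f ≫ δ)
  let j : kernel f ⟶ P' := kernel.lift _ (kernel.ι f) (by simp)
  have hHk : IsLimit (KernelFork.ofι (K.homologyι (p + 1)) (K.homologyι_comp_fromOpcycles (p + 1) (p + 1 + 1))) :=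
    K.homologyIsKernel (p + 1) (p + 1 + 1) (by simp)
  obtain ⟨g, hg⟩ := KernelFork.IsLimit.lift' hHk (kernel.ι (f ≫ δ) ≫ f)
    (by rw [Category.assoc, kernel.condition])
  change g ≫ K.homologyι (p + 1) = kernel.ι (f ≫ δ) ≫ f at hg
  have hjg : j ≫ g = 0 := by
    rw [← cancel_mono (K.homologyι (p + 1)), Category.assoc, hg, kernel.lift_ι_assoc, kernel.condition,
      zero_comp]
  haveI : Mono j := by
    haveI : Mono (j ≫ kernel.ι (f ≫ δ)) := by rw [kernel.lift_ι]; infer_instance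
    exact mono_of_mono j (kernel.ι (f ≫ δ))
  haveI : Epi g := by
    rw [epi_iff_surjective_up_to_refinements]
    intro T h
    obtain ⟨T', π, hπ, x, hx⟩ := surjective_up_to_refinements_of_epi f (h ≫ K.homologyι (p + 1))
    refine ⟨T', π, hπ, kernel.lift _ x (by
      rw [← Category.assoc x f δ, ← hx, Category.assoc, Category.assoc, K.homologyι_comp_fromOpcycles,
        comp_zero, comp_zero]), ?_⟩
    rw [← cancel_mono (K.homologyι (p + 1)), Category.assoc, Category.assoc, hg, kernel.lift_ι_assoc]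
    exact hx
  have hS : (ShortComplex.mk j g hjg).ShortExact :=
    { exact := by
        rw [ShortComplex.exact_iff_exact_up_to_refinements]
        intro T x hx
        refine ⟨T, 𝟙 T, inferInstance, kernel.lift f (x ≫ kernel.ι (f ≫ δ)) ?_, ?_⟩
        · rw [Category.assoc, ← hg, ← Category.assoc]
          exact (congrArg (· ≫ K.homologyι (p + 1)) hx).trans zero_comp
        · change 𝟙 T ≫ x = kernel.lift f _ _ ≫ j
          rw [← cancel_mono (kernel.ι (f ≫ δ))]
          simp [j] }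
  -- the image of `i₂`
  let m : D.C ⟶ kernel f := kernel.lift f i₂ hf₂
  haveI : Epi m := hPf.epi_kernelLift
  let h : K.homology p ⟶ D.C := K.homologyι p ≫ D.β
  have hhm : h ≫ m = 0 := by
    rw [← cancel_mono (kernel.ι f), zero_comp, Category.assoc, kernel.lift_ι, Category.assoc, ← hP.w,
      K.homologyι_comp_fromOpcycles_assoc, zero_comp]
  have hhex : (ShortComplex.mk h m hhm).Exact := by
    rw [ShortComplex.exact_iff_exact_up_to_refinements]
    intro T c hc
    have hc' : c ≫ i₂ = 0 := by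
      rw [← kernel.lift_ι f i₂ hf₂, ← Category.assoc]
      exact (congrArg (· ≫ kernel.ι f) hc).trans zero_comp
    have h0 : biprod.lift 0 (-c) ≫ hP.shortComplex.g = 0 := by
      show biprod.lift 0 (-c) ≫ biprod.desc i₁ i₂ = 0
      rw [biprod.lift_desc, zero_comp, zero_add, Preadditive.neg_comp]
      exact neg_eq_zero.2 hc'
    obtain ⟨T', π, hπ, o, ho⟩ := hP.exact_shortComplex.exact_up_to_refinements _ h0
    change π ≫ biprod.lift (0 : T ⟶ _) (-c) = o ≫ biprod.lift dK (-D.β) at ho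
    have h1 := congrArg (· ≫ biprod.fst) ho
    have h2 := congrArg (· ≫ biprod.snd) ho
    simp only [Category.assoc, biprod.lift_fst, biprod.lift_snd, Preadditive.comp_neg, neg_inj, comp_zero] at h1 h2
    obtain ⟨t, ht⟩ := KernelFork.IsLimit.lift' (K.homologyIsKernel p (p + 1) (by simp)) o h1.symm
    refine ⟨T', π, hπ, t, (neg_injective (h2.trans (Preadditive.comp_neg _ _))).trans ?_⟩
    show o ≫ D.β = t ≫ h
    exact (congrArg (· ≫ D.β) ht).symm.trans (Category.assoc _ _ _)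
  have hker : ι.essImage (kernel f) :=
    essImage_of_iso ι (IsColimit.coconePointUniqueUpToIso (colimit.isColimit _) hhex.gIsCokernel)
      (essImage_cokernel ι h (hH p) D.mem)
  obtain ⟨N', ⟨eN⟩⟩ := hext _ hS hker (hH (p + 1))
  obtain ⟨J, i, hi, hJ⟩ := hinj N'
  haveI := hJ
  let u' : P' ⟶ ι.obj J := eN.inv ≫ ι.map i
  haveI : Mono u' := mono_comp _ _
  let u : P ⟶ ι.obj J := Injective.factorThru u' (kernel.ι (f ≫ δ))
  have hu : kernel.ι (f ≫ δ) ≫ u = u' := Injective.comp_factorThru _ _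
  have hcancel : ∀ {T : A} (x : T ⟶ P), x ≫ f ≫ δ = 0 → x ≫ u = 0 → x = 0 := by
    intro T x h0 hx
    have : kernel.lift _ x h0 ≫ u' = 0 := by rw [← hu, kernel.lift_ι_assoc, hx]
    rw [← kernel.lift_ι (f ≫ δ) x h0, zero_of_comp_mono u' this, zero_comp]
  let d := i₂ ≫ u
  let e := cokernel.π d
  let β : K.opcycles (p + 1) ⟶ cokernel d := K.descOpcycles (i₁ ≫ u ≫ e) p (by simp) (by
    rw [reassoc_of% hK1]
    show _ ≫ D.β ≫ i₂ ≫ u ≫ e = 0
    rw [← Category.assoc i₂, cokernel.condition, comp_zero, comp_zero])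
  have hβ : K.pOpcycles (p + 1) ≫ β = i₁ ≫ u ≫ e := K.p_descOpcycles _ _ _ _
  let D' : Data ι K (p + 1) :=
    { J := J, inj := hJ, α := i₁ ≫ u, C := cokernel d
      mem := essImage_cokernel ι d D.mem ⟨J, ⟨Iso.refl _⟩⟩
      e := e, epi_e := inferInstance, β := β
      inj_β := fun {T} o h₁ h₂ => by
        obtain ⟨T₁, π₁, hπ₁, x, hx⟩ := surjective_up_to_refinements_of_epi (K.pOpcycles (p + 1)) o
        have hx0 : (x ≫ i₁ ≫ u) ≫ e = 0 := by
          rw [Category.assoc, Category.assoc, ← hβ, ← reassoc_of% hx, h₂, comp_zero]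
        obtain ⟨T₂, π₂, hπ₂, c, hc⟩ :=
          (ShortComplex.exact_cokernel d).exact_up_to_refinements (x ≫ i₁ ≫ u) hx0
        change π₂ ≫ x ≫ i₁ ≫ u = c ≫ i₂ ≫ u at hc
        have h3 : π₂ ≫ x ≫ i₁ = c ≫ i₂ := by
          rw [← sub_eq_zero]
          refine hcancel _ ?_ (by simp only [Preadditive.sub_comp, Category.assoc, hc, sub_self])
          rw [Preadditive.sub_comp, Category.assoc, Category.assoc, reassoc_of% hf₁,
            Category.assoc c, reassoc_of% hf₂, zero_comp, comp_zero, sub_zero, ← reassoc_of% hx, h₁,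
            comp_zero, comp_zero]
        have h4 := congrArg (· ≫ f) h3
        simp only [Category.assoc, hf₁, hf₂, comp_zero] at h4
        rw [← cancel_epi π₁, ← cancel_epi π₂, hx, h4, comp_zero, comp_zero]
      fac := by rw [hβ, Category.assoc] }
  refine ⟨D', d, cokernel.condition d, ShortComplex.exact_cokernel d, ?_, ?_⟩
  · show K.d p (p + 1) ≫ i₁ ≫ u = D.α ≫ D.e ≫ i₂ ≫ u
    rw [reassoc_of% hK1, reassoc_of% D.fac]
  · intro T c hc
    have hc' : c ≫ i₂ = 0 := hcancel _ (by rw [Category.assoc, reassoc_of% hf₂, zero_comp, comp_zero])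
      (by rw [Category.assoc]; exact hc)
    have hcm : c ≫ m = 0 := by rw [← cancel_mono (kernel.ι f), Category.assoc, kernel.lift_ι, hc', zero_comp]
    obtain ⟨T', π, hπ, t, ht⟩ := hhex.exact_up_to_refinements c hcm
    exact ⟨T', π, hπ, t ≫ K.homologyι p, (Category.assoc _ _ _).trans ht.symm,
      by rw [Category.assoc, K.homologyι_comp_fromOpcycles, comp_zero]⟩

lemma exists_seq
    (hext : ∀ S : ShortComplex A, S.ShortExact → ι.essImage S.X₁ → ι.essImage S.X₃ → ι.essImage S.X₂)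
    (hinj : ∀ X' : A', ∃ (Y' : A') (i : X' ⟶ Y'), Mono i ∧ Injective (ι.obj Y'))
    (hH : ∀ k, ι.essImage (K.homology k)) (a : ℤ) [K.IsStrictlyGE a] :
    ∃ D : ∀ p : ℤ, Data ι K p, (∀ p, Link ι K (D p) (D (p + 1))) ∧ ∀ p < a, IsZero (D p).J := by
  haveI := ι.preservesZeroMorphisms_of_full
  obtain ⟨Z, hZ⟩ : ∃ Z : A', IsZero Z := ⟨_, (isZero_zero A')⟩
  have hιZ : IsZero (ι.obj Z) := ι.map_isZero hZ
  have hO : ∀ p < a, IsZero (K.opcycles p) := fun p hp =>
    IsZero.of_epi (K.pOpcycles p) (K.isZero_of_isStrictlyGE a p hp)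
  let triv : ∀ p, p < a → Data ι K p := fun p hp =>
    { J := Z, inj := hιZ.injective, α := 0, C := ι.obj Z, mem := ⟨Z, ⟨Iso.refl _⟩⟩, e := 𝟙 _
      epi_e := inferInstance, β := 0, inj_β := fun o _ _ => (hO p hp).eq_of_tgt _ _, fac := by simp }
  choose nxt hnxt using fun (p : ℤ) (D : Data ι K p) => exists_next hext hinj hH D
  let cast_ : ∀ {p q : ℤ}, p = q → Data ι K p → Data ι K q := fun h D => h ▸ D
  let seq : ∀ k : ℕ, Data ι K (a - 1 + k) := fun k =>
    Nat.rec (motive := fun k => Data ι K (a - 1 + k)) (triv _ (by simp))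
      (fun k D => cast_ (by omega) (nxt (a - 1 + (k : ℤ)) D)) k
  let D : ∀ p : ℤ, Data ι K p := fun p =>
    if h : p < a then triv p h else cast_ (by omega) (seq (p - (a - 1)).toNat)
  have hD : ∀ (k : ℕ), D (a - 1 + k) = seq k := by
    intro k
    rcases k with _ | k
    · simp only [D]
      rw [dif_pos (by simp)]
      rfl
    · simp only [D]
      rw [dif_neg (by omega)]
      have key : ∀ (m : ℕ) (e : a - 1 + (m : ℤ) = a - 1 + ((k + 1 : ℕ) : ℤ)), m = k + 1 →
          cast_ e (seq m) = seq (k + 1) := by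
        rintro m e rfl
        rfl
      exact key _ _ (by omega)
  refine ⟨D, fun p => ?_, fun p hp => ?_⟩
  · by_cases hp : p + 1 < a
    · show Link ι K (D p) (D (p + 1))
      simp only [D, dif_pos hp, dif_pos (show p < a by omega)]
      exact ⟨0, zero_comp, ShortComplex.exact_of_isZero_X₂ _ hιZ,
        (K.isZero_of_isStrictlyGE a p (by omega)).eq_of_src _ _,
        fun {T} c _ => ⟨T, 𝟙 T, inferInstance, 0, hιZ.eq_of_tgt _ _, zero_comp⟩⟩
    · obtain ⟨k, hk⟩ : ∃ k : ℕ, p = a - 1 + k := ⟨(p - (a - 1)).toNat, by omega⟩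
      subst hk
      have h1 : a - 1 + ((k + 1 : ℕ) : ℤ) = a - 1 + (k : ℤ) + 1 := by omega
      have key : ∀ {q r : ℤ} (h : q = r) (x : Data ι K q), D q = x → D r = cast_ h x := by
        rintro q r rfl x hx
        exact hx
      rw [key h1 _ (hD (k + 1)), hD k]
      have key₂ : ∀ {q r : ℤ} (h : q = r) (h' : r = q) (x : Data ι K q), cast_ h' (cast_ h x) = x := by
        rintro q r rfl _ x
        rfl
      show Link ι K (seq k) (cast_ h1 (cast_ h1.symm (nxt _ (seq k))))
      rw [key₂]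
      exact hnxt _ _
  · simp only [D, dif_pos hp]
    exact hZ

theorem exists_resolution [ι.Additive] [ι.Faithful]
    (hext : ∀ S : ShortComplex A, S.ShortExact → ι.essImage S.X₁ → ι.essImage S.X₃ → ι.essImage S.X₂)
    (hinj : ∀ X' : A', ∃ (Y' : A') (i : X' ⟶ Y'), Mono i ∧ Injective (ι.obj Y'))
    (hH : ∀ k, ι.essImage (K.homology k)) (a : ℤ) [K.IsStrictlyGE a] :
    ∃ (I : CochainComplex A' ℤ) (α : K ⟶ (ι.mapHomologicalComplex (ComplexShape.up ℤ)).obj I),
      I.IsStrictlyGE a ∧ (∀ n, Injective (ι.obj (I.X n))) ∧ QuasiIso α := by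
  obtain ⟨D, hD, hD0⟩ := exists_seq hext hinj hH a
  choose d w hex hcomm hker using hD
  haveI he : ∀ p, Epi (D p).e := fun p => (D p).epi_e
  let δ : ∀ p, (D p).J ⟶ (D (p + 1)).J := fun p => ι.preimage ((D p).e ≫ d p)
  let I : CochainComplex A' ℤ := CochainComplex.of (fun p => (D p).J) δ
    (fun p => ι.map_injective (by
      rw [ι.map_comp, ι.map_preimage, ι.map_preimage, Category.assoc, reassoc_of% (w p), zero_comp,
        comp_zero, ι.map_zero]))
  let L := (ι.mapHomologicalComplex (ComplexShape.up ℤ)).obj I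
  have hLd : ∀ p, L.d p (p + 1) = (D p).e ≫ d p := fun p => by
    exact (congrArg ι.map (CochainComplex.of_d (fun p => (D p).J) δ p)).trans (ι.map_preimage _)
  let α : K ⟶ L :=
    { f := fun p => (D p).α
      comm' := fun i j hij => by
        change i + 1 = j at hij
        subst hij
        rw [hLd]
        exact (hcomm i).symm }
  refine ⟨I, α, (I.isStrictlyGE_iff a).2 (fun i hi => hD0 i hi), fun n => (D n).inj, ?_⟩
  rw [quasiIso_iff]
  intro k
  obtain ⟨p, rfl⟩ : ∃ p, k = p + 1 := ⟨k - 1, by omega⟩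
  rw [quasiIsoAt_iff_isIso_homologyMap]
  have hb : ∀ {T : A} (y : T ⟶ ι.obj (D (p + 1)).J), y ≫ (D (p + 1)).e = 0 →
      ∃ (T' : A) (π : T' ⟶ T) (_ : Epi π) (y₁ : T' ⟶ ι.obj (D p).J), π ≫ y = y₁ ≫ L.d p (p + 1) := by
    intro T y hy
    obtain ⟨T₁, π₁, hπ₁, c, hc⟩ := (hex p).exact_up_to_refinements y hy
    obtain ⟨T₂, π₂, hπ₂, y₁, hy₁⟩ := surjective_up_to_refinements_of_epi (D p).e c
    refine ⟨T₂, π₂ ≫ π₁, epi_comp _ _, y₁, ?_⟩
    rw [hLd, Category.assoc, hc]
    exact ((Category.assoc _ _ _).symm.trans (congrArg (· ≫ d p) hy₁)).trans (Category.assoc _ _ _)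
  have hbe : L.d p (p + 1) ≫ (D (p + 1)).e = 0 := by
    exact (congrArg (· ≫ (D (p + 1)).e) (hLd p)).trans ((Category.assoc _ _ _).trans (by rw [w, comp_zero]))
  haveI : Mono (HomologicalComplex.homologyMap α (p + 1)) := by
    rw [HomologicalComplex.mono_homologyMap_iff_up_to_refinements α p (p + 1) (p + 1 + 1)
      (by simp) (by simp)]
    intro T x hx y hy
    have h1 : (x ≫ K.pOpcycles (p + 1)) ≫ (D (p + 1)).β = 0 := by
      rw [Category.assoc, (D (p + 1)).fac, ← Category.assoc]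
      refine (congrArg (· ≫ (D (p + 1)).e) hy).trans ?_
      exact (Category.assoc _ _ _).trans ((congrArg (y ≫ ·) hbe).trans comp_zero)
    have h2 : x ≫ K.pOpcycles (p + 1) = 0 := (D (p + 1)).inj_β _
      (by rw [Category.assoc, K.p_fromOpcycles]; exact hx) h1
    have hq : (ShortComplex.mk (K.d p (p + 1)) (K.pOpcycles (p + 1)) (K.d_pOpcycles _ _)).Exact :=
      ShortComplex.exact_of_g_is_cokernel _ (K.opcyclesIsCokernel p (p + 1) (by simp))
    obtain ⟨T', π, hπ, x₁, hx₁⟩ := hq.exact_up_to_refinements x h2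
    exact ⟨T', π, hπ, x₁, hx₁⟩
  haveI : Epi (HomologicalComplex.homologyMap α (p + 1)) := by
    rw [HomologicalComplex.epi_homologyMap_iff_up_to_refinements α p (p + 1) (p + 1 + 1)
      (by simp) (by simp)]
    intro T y₀ hy
    let y : T ⟶ ι.obj (D (p + 1)).J := y₀
    obtain ⟨T₀, π₀, hπ₀, o, ho, ho'⟩ := hker (p + 1) (y ≫ (D (p + 1)).e) (by
      rw [Category.assoc]
      exact ((congrArg (y ≫ ·) (hLd (p + 1))).symm.trans hy))
    obtain ⟨T₁, π₁, hπ₁, x, hx⟩ := surjective_up_to_refinements_of_epi (K.pOpcycles (p + 1)) o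
    have hxd : x ≫ K.d (p + 1) (p + 1 + 1) = 0 := by
      rw [← K.p_fromOpcycles (p + 1) (p + 1 + 1), ← Category.assoc, ← hx, Category.assoc, ho', comp_zero]
    have h0 : ((π₁ ≫ π₀) ≫ y - x ≫ (D (p + 1)).α) ≫ (D (p + 1)).e = 0 := by
      rw [Preadditive.sub_comp, sub_eq_zero, Category.assoc, Category.assoc π₁, ← ho, Category.assoc x,
        ← (D (p + 1)).fac, ← Category.assoc π₁, hx, Category.assoc]
    obtain ⟨T₂, π₂, hπ₂, y₁, hy₁⟩ := hb _ h0
    refine ⟨T₂, π₂ ≫ π₁ ≫ π₀, epi_comp _ _, π₂ ≫ x, ?_, y₁, ?_⟩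
    · rw [Category.assoc, hxd, comp_zero]
    · show (π₂ ≫ π₁ ≫ π₀) ≫ y = (π₂ ≫ x) ≫ (D (p + 1)).α + _
      refine Eq.trans ?_ (congrArg (fun z => (π₂ ≫ x) ≫ (D (p + 1)).α + z) hy₁)
      rw [Preadditive.comp_sub]
      simp only [Category.assoc]
      exact (add_sub_cancel _ _).symm
  exact isIso_of_mono_of_epi _

end Groth.Agent.TriH.SubcatInj
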