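import Mathlib.CategoryTheory.Functor.KanExtension.Basic
import Mathlib.CategoryTheory.Limits.Shapes.IsTerminal

/-!
# Kan extensions along localization functors, from adapted objects
-/

set_option autoImplicit false
set_option linter.style.haveILetI false
set_option linter.unusedSectionVars false

open CategoryTheory CategoryTheory.Limits

namespace Groth.Agent.TriH.AdaptedKan

universe v v' v'' u u' u''

variable {C : Type u} [Category.{v} C] {D : Type u'} [Category.{v'} D] {E : Type u''}
  [Category.{v''} E] {L : C ⥤ D} {Φ : C ⥤ E} {Hf : D ⥤ E} (G : C → Prop)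
  (hess : ∀ Y : D, ∃ P, G P ∧ Nonempty (L.obj P ≅ Y))

include hess in
lemma isRightKanExtension (c : L ⋙ Hf ⟶ Φ)
    (hfac : ∀ (P X : C) (φ : L.obj P ⟶ L.obj X), G P →
      ∃ (P' : C) (s : P' ⟶ P) (g : P' ⟶ X), G P' ∧ IsIso (L.map s) ∧ L.map g = L.map s ≫ φ)
    (hc : ∀ P, G P → IsIso (c.app P)) : Hf.IsRightKanExtension c := by
  choose pr hpr he using hess
  let e : ∀ Y : D, L.obj (pr Y) ≅ Y := fun Y => (he Y).some
  refine ⟨⟨IsTerminal.ofUniqueHom (fun R => ?_) (fun R m => ?_)⟩⟩
  · haveI : ∀ Y, IsIso (c.app (pr Y)) := fun Y => hc _ (hpr Y)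
    let v : ∀ P (_ : G P), R.left.obj (L.obj P) ⟶ Hf.obj (L.obj P) := fun P hP =>
      haveI := hc P hP
      R.hom.app P ≫ inv (c.app P)
    have hvc : ∀ P (hP : G P), v P hP ≫ c.app P = R.hom.app P := fun P hP => by simp [v]
    clear_value v
    have key : ∀ (P P₂ : C) (hP : G P) (hP₂ : G P₂) (φ : L.obj P ⟶ L.obj P₂),
        R.left.map φ ≫ v P₂ hP₂ = v P hP ≫ Hf.map φ := by
      intro P P₂ hP hP₂ φ
      obtain ⟨P', s, g, hP', hs, hg⟩ := hfac P P₂ φ hP
      have hn : ∀ (X : C) (hX : G X) (f : P' ⟶ X),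
          R.left.map (L.map f) ≫ v X hX = v P' hP' ≫ Hf.map (L.map f) := fun X hX f => by
        haveI := hc X hX
        rw [← cancel_mono (c.app X), Category.assoc, Category.assoc, hvc]
        refine (R.hom.naturality f).trans ?_
        exact ((congrArg (· ≫ Φ.map f) (hvc P' hP').symm).trans (Category.assoc _ _ _)).trans
          (congrArg (v P' hP' ≫ ·) (c.naturality f).symm)
      haveI := hs
      rw [← cancel_epi (R.left.map (L.map s)), ← Category.assoc, ← Functor.map_comp, ← hg, hn _ hP₂ g,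
        hg, Functor.map_comp, ← Category.assoc, ← hn _ hP s, Category.assoc]
    let γ : R.left ⟶ Hf :=
      { app := fun Y => R.left.map (e Y).inv ≫ v _ (hpr Y) ≫ Hf.map (e Y).hom
        naturality := fun Y Y' f => by
          have hk := key _ _ (hpr Y) (hpr Y') ((e Y).hom ≫ f ≫ (e Y').inv)
          rw [← cancel_epi (R.left.map (e Y).hom)]
          simp only [Functor.map_comp, Category.assoc] at hk ⊢
          rw [reassoc_of% hk]
          simp [← Functor.map_comp, ← Functor.map_comp_assoc] }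
    have hγ : ∀ P, G P → γ.app (L.obj P) ≫ c.app P = R.hom.app P := fun P hP => by
      have hk := key _ _ hP (hpr (L.obj P)) (e (L.obj P)).inv
      simp only [γ]
      rw [reassoc_of% hk]
      simp [← Functor.map_comp_assoc, hvc]
    refine CostructuredArrow.homMk γ (NatTrans.ext (funext fun X => ?_))
    show γ.app (L.obj X) ≫ c.app X = R.hom.app X
    obtain ⟨P', s, g, hP', hs, hg⟩ := hfac _ _ (e (L.obj X)).hom (hpr (L.obj X))
    haveI := hs
    haveI : IsIso (L.map g) := by rw [hg]; infer_instance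
    rw [← cancel_epi (R.left.map (L.map g)), γ.naturality_assoc]
    refine ((congrArg (γ.app (L.obj P') ≫ ·) (c.naturality g)).trans ?_).trans (R.hom.naturality g).symm
    exact (Category.assoc _ _ _).symm.trans (congrArg (· ≫ Φ.map g) (hγ P' hP'))
  · refine CostructuredArrow.hom_ext _ _ (NatTrans.ext (funext fun Y => ?_))
    haveI : IsIso (c.app (pr Y)) := hc _ (hpr Y)
    have hm := NatTrans.congr_app (CostructuredArrow.w m) (pr Y)
    let a : R.left ⟶ Hf := m.left
    change a.app (L.obj (pr Y)) ≫ c.app (pr Y) = R.hom.app (pr Y) at hm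
    show a.app Y = R.left.map (e Y).inv ≫ (R.hom.app (pr Y) ≫ inv (c.app (pr Y))) ≫ Hf.map (e Y).hom
    rw [← hm, Category.assoc (a.app _), IsIso.hom_inv_id, Category.comp_id, ← a.naturality,
      ← Category.assoc, ← Functor.map_comp, Iso.inv_hom_id, CategoryTheory.Functor.map_id,
      Category.id_comp]

include hess in
lemma isLeftKanExtension (α : Φ ⟶ L ⋙ Hf)
    (hfac : ∀ (X P : C) (φ : L.obj X ⟶ L.obj P), G P →
      ∃ (P' : C) (g : X ⟶ P') (s : P ⟶ P'), G P' ∧ IsIso (L.map s) ∧ L.map g = φ ≫ L.map s)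
    (hα : ∀ P, G P → IsIso (α.app P)) : Hf.IsLeftKanExtension α := by
  choose pr hpr he using hess
  let e : ∀ Y : D, L.obj (pr Y) ≅ Y := fun Y => (he Y).some
  refine ⟨⟨IsInitial.ofUniqueHom (fun R => ?_) (fun R m => ?_)⟩⟩
  · let v : ∀ P (_ : G P), Hf.obj (L.obj P) ⟶ R.right.obj (L.obj P) := fun P hP =>
      haveI := hα P hP
      inv (α.app P) ≫ R.hom.app P
    have hvc : ∀ P (hP : G P), α.app P ≫ v P hP = R.hom.app P := fun P hP => by simp [v]
    clear_value v
    have key : ∀ (P₂ P : C) (hP₂ : G P₂) (hP : G P) (φ : L.obj P₂ ⟶ L.obj P),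
        Hf.map φ ≫ v P hP = v P₂ hP₂ ≫ R.right.map φ := by
      intro P₂ P hP₂ hP φ
      obtain ⟨P', g, s, hP', hs, hg⟩ := hfac P₂ P φ hP
      have hn : ∀ (X : C) (hX : G X) (f : X ⟶ P'),
          Hf.map (L.map f) ≫ v P' hP' = v X hX ≫ R.right.map (L.map f) := fun X hX f => by
        haveI := hα X hX
        rw [← cancel_epi (α.app X), ← Category.assoc (α.app X) (v X hX), hvc]
        refine ((Category.assoc _ _ _).symm.trans ?_).trans (R.hom.naturality f)
        exact ((congrArg (· ≫ v P' hP') (α.naturality f).symm).trans (Category.assoc _ _ _)).trans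
          (congrArg (Φ.map f ≫ ·) (hvc P' hP'))
      haveI := hs
      rw [← cancel_mono (R.right.map (L.map s)), Category.assoc, ← hn _ hP s, Category.assoc,
        ← Functor.map_comp, ← hg, ← hn _ hP₂ g, hg, Functor.map_comp, Category.assoc]
    let γ : Hf ⟶ R.right :=
      { app := fun Y => Hf.map (e Y).inv ≫ v _ (hpr Y) ≫ R.right.map (e Y).hom
        naturality := fun Y Y' f => by
          have hk := key _ _ (hpr Y) (hpr Y') ((e Y).hom ≫ f ≫ (e Y').inv)
          rw [← cancel_epi (Hf.map (e Y).hom)]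
          simp only [Functor.map_comp, Category.assoc] at hk ⊢
          rw [reassoc_of% hk]
          simp [← Functor.map_comp, ← Functor.map_comp_assoc] }
    have hγ : ∀ P, G P → α.app P ≫ γ.app (L.obj P) = R.hom.app P := fun P hP => by
      have hk := key _ _ hP (hpr (L.obj P)) (e (L.obj P)).inv
      simp only [γ]
      rw [reassoc_of% hk, reassoc_of% (hvc P hP), ← Functor.map_comp, Iso.inv_hom_id]
      exact (congrArg (R.hom.app P ≫ ·) (R.right.map_id _)).trans (Category.comp_id _)
    refine StructuredArrow.homMk γ (NatTrans.ext (funext fun X => ?_))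
    show α.app X ≫ γ.app (L.obj X) = R.hom.app X
    obtain ⟨P', g, s, hP', hs, hg⟩ := hfac X _ (e (L.obj X)).inv (hpr (L.obj X))
    haveI := hs
    haveI : IsIso (L.map g) := by rw [hg]; infer_instance
    rw [← cancel_mono (R.right.map (L.map g)), Category.assoc, ← γ.naturality, ← Category.assoc]
    refine ((congrArg (· ≫ γ.app (L.obj P')) (α.naturality g).symm).trans ?_).trans (R.hom.naturality g)
    exact (Category.assoc _ _ _).trans (congrArg (Φ.map g ≫ ·) (hγ P' hP'))
  · refine StructuredArrow.hom_ext _ _ (NatTrans.ext (funext fun Y => ?_))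
    haveI : IsIso (α.app (pr Y)) := hα _ (hpr Y)
    have hm := NatTrans.congr_app (StructuredArrow.w m) (pr Y)
    let a : Hf ⟶ R.right := m.right
    change α.app (pr Y) ≫ a.app (L.obj (pr Y)) = R.hom.app (pr Y) at hm
    show a.app Y = Hf.map (e Y).inv ≫ (inv (α.app (pr Y)) ≫ R.hom.app (pr Y)) ≫ R.right.map (e Y).hom
    rw [← hm, IsIso.inv_hom_id_assoc, ← a.naturality,
      ← Category.assoc, ← Functor.map_comp, Iso.inv_hom_id, CategoryTheory.Functor.map_id,
      Category.id_comp]

end Groth.Agent.TriH.AdaptedKan
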