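import Groth.Agent.TriH.ClassRes
import Groth.Agent.TriH.RightRes

/-!
# Quasi-isomorphisms from complexes of a class of finite dimension (unbounded complexes)
-/

set_option autoImplicit false
set_option linter.style.haveILetI false

open CategoryTheory CategoryTheory.Limits

namespace Groth.Agent.TriH.ClassResLeft

open RightRes

universe v u

variable {A : Type u} [Category.{v} A] [Abelian A]

theorem exists_quasiIso {P : A → Prop} {m : ℕ} (H : ClassRes.Hyp (fun X : Aᵒᵖ => P X.unop) m)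
    (K : CochainComplex A ℤ) :
    ∃ (Q : CochainComplex A ℤ) (α : Q ⟶ K), QuasiIso α ∧ ∀ k, P (Q.X k) := by
  obtain ⟨L, β, h4, h2⟩ := ClassRes.exists_quasiIso H (opCx K)
  let c : ∀ n : ℤ, (L.X (-n)).unop ⟶ K.X n := fun n =>
    (β.f (-n)).unop ≫ eqToHom (by simp)
  let α : unopCx L ⟶ K :=
    { f := c
      comm' := fun i j _ => by
        have hd : eqToHom (show K.X (-(-i)) = K.X i by rw [neg_neg]) ≫ K.d i j =
            K.d (-(-i)) (-(-j)) ≫ eqToHom (show K.X (-(-j)) = K.X j by rw [neg_neg]) := by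
          have key : ∀ (x y : ℤ) (e1 : x = i) (e2 : y = j),
              eqToHom (congrArg K.X e1) ≫ K.d i j = K.d x y ≫ eqToHom (congrArg K.X e2) := by
            rintro x y rfl rfl
            simp
          exact key _ _ (neg_neg i) (neg_neg j)
        have h := congrArg Quiver.Hom.unop (β.comm (-j) (-i))
        simp only [unop_comp, opCx_d, Quiver.Hom.unop_op] at h
        show ((β.f (-i)).unop ≫ _) ≫ K.d i j = (L.d (-j) (-i)).unop ≫ (β.f (-j)).unop ≫ _
        refine (Category.assoc _ _ _).trans ((congrArg ((β.f (-i)).unop ≫ ·) hd).trans ?_)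
        exact (Category.assoc _ _ _).symm.trans ((congrArg (· ≫ eqToHom _) h.symm).trans
          (Category.assoc _ _ _)) }
  refine ⟨unopCx L, α, ?_, fun n => h2 (-n)⟩
  rw [quasiIso_iff]
  intro n
  haveI := h4
  have hq : QuasiIsoAt β (-n) := inferInstance
  rw [quasiIsoAt_iff' β (-(n + 1)) (-n) (-(n - 1)) (by simp; omega) (by simp; omega)] at hq
  rw [quasiIsoAt_iff' α (n - 1) n (n + 1) (by simp) (by simp)]
  let e : K.sc' (n - 1) n (n + 1) ≅ K.sc' (-(-(n - 1))) (-(-n)) (-(-(n + 1))) :=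
    ShortComplex.isoMk (K.XIsoOfEq (by simp)) (K.XIsoOfEq (by simp)) (K.XIsoOfEq (by simp))
      ((K.XIsoOfEq_hom_comp_d _ _).trans (K.d_comp_XIsoOfEq_hom _ _).symm)
      ((K.XIsoOfEq_hom_comp_d _ _).trans (K.d_comp_XIsoOfEq_hom _ _).symm)
  haveI : ShortComplex.QuasiIso
      ((HomologicalComplex.shortComplexFunctor' A (ComplexShape.up ℤ) (n - 1) n (n + 1)).map α ≫ e.hom) := by
    let θ : (unopCx L).sc' (n - 1) n (n + 1) ⟶ K.sc' (-(-(n - 1))) (-(-n)) (-(-(n + 1))) :=
      ShortComplex.unopMap ((HomologicalComplex.shortComplexFunctor' Aᵒᵖ (ComplexShape.up ℤ)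
        (-(n + 1)) (-n) (-(n - 1))).map β)
    have hθ : (HomologicalComplex.shortComplexFunctor' A (ComplexShape.up ℤ) (n - 1) n (n + 1)).map α
        ≫ e.hom = θ := by
      ext <;> simp [θ, α, c, e, HomologicalComplex.XIsoOfEq] <;>
        exact comp_eqToHom_eqToHom _ _ _
    rw [hθ]
    haveI := hq
    exact ShortComplex.quasiIso_unopMap ((HomologicalComplex.shortComplexFunctor' Aᵒᵖ
      (ComplexShape.up ℤ) (-(n + 1)) (-n) (-(n - 1))).map β)
  exact ShortComplex.quasiIso_of_comp_right _ e.hom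

end Groth.Agent.TriH.ClassResLeft
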