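import Groth.Agent.TriH.FinDimTower
import Groth.Agent.TriH.AdaptedKan
import Groth.Agent.TriH.ClassResLeft
import Mathlib.CategoryTheory.Functor.Derived.LeftDerived
import Mathlib.Algebra.Homology.DerivedCategory.Fractions

/-!
# `RF ≅ L(RⁿF)⟦-n⟧` for functors of finite cohomological dimension
-/

set_option autoImplicit false
set_option linter.style.haveILetI false
set_option linter.unusedSectionVars false

open CategoryTheory CategoryTheory.Limits

namespace Groth.Agent.TriH.FinDimLeft

universe w w' v v' u u'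

open DerivedCategory FinDimTower

variable {A : Type u} [Category.{v} A] [Abelian A] [HasDerivedCategory.{w} A] [EnoughInjectives A]
  {B : Type u'} [Category.{v'} B] [Abelian B] [HasDerivedCategory.{w'} B] (F : A ⥤ B) [F.Additive]

noncomputable abbrev Φ : CochainComplex A ℤ ⥤ DerivedCategory B :=
  F.mapHomologicalComplex (ComplexShape.up ℤ) ⋙ Q

def GoodC (K : CochainComplex A ℤ) : Prop := ∀ p, IsAcyclicObj F (K.X p)

/-- The class of objects whose derived functors are concentrated in degree `n`. -/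
def PC (n : ℕ) (X : A) : Prop := ∀ i : ℕ, i ≠ n → IsZero ((F.rightDerived i).obj X)

variable {n : ℕ} (hdim : ∀ (X : A) (i : ℕ), n < i → IsZero ((F.rightDerived i).obj X))

include hdim

lemma exists_RF [PreservesFiniteLimits F] :
    ∃ (T : DerivedCategory A ⥤ DerivedCategory B) (α : Φ F ⟶ Q ⋙ T),
      ∀ K, GoodC F K → IsIso (α.app K) := by
  have hn1 : ∀ X, IsZero ((F.rightDerived (n + 1)).obj X) := fun X => hdim X _ (Nat.lt_succ_self n)
  haveI := (FinDim.hasPointwiseRightDerivedFunctor F (n + 1) hn1 :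
    (F.mapHomotopyCategory (ComplexShape.up ℤ) ⋙ Qh (C := B)).HasPointwiseRightDerivedFunctor _)
  let Φh := F.mapHomotopyCategory (ComplexShape.up ℤ) ⋙ Qh (C := B)
  let T := Φh.totalRightDerived Qh (HomotopyCategory.quasiIso A (ComplexShape.up ℤ))
  let αh := Φh.totalRightDerivedUnit Qh (HomotopyCategory.quasiIso A (ComplexShape.up ℤ))
  refine ⟨T, Functor.whiskerLeft (F.mapHomologicalComplex (ComplexShape.up ℤ)) (quotientCompQhIso B).inv ≫
    (Functor.associator _ _ _).inv ≫
    Functor.whiskerRight (F.mapHomotopyCategoryFactors (ComplexShape.up ℤ)).inv Qh ≫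
    (Functor.associator _ _ _).hom ≫
    Functor.whiskerLeft (HomotopyCategory.quotient A (ComplexShape.up ℤ)) αh ≫
    (Functor.associator _ _ _).inv ≫ Functor.whiskerRight (quotientCompQhIso A).hom T, fun K hK => ?_⟩
  haveI : IsIso (αh.app ((HomotopyCategory.quotient A (ComplexShape.up ℤ)).obj K)) :=
    FinDim.isIso_unit F (n + 1) hn1 K hK
  simp only [NatTrans.comp_app, Functor.whiskerLeft_app, Functor.whiskerRight_app]
  infer_instance

lemma exists_good [PreservesFiniteLimits F] (K : CochainComplex A ℤ) :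
    ∃ (I : CochainComplex A ℤ) (f : K ⟶ I), QuasiIso f ∧ GoodC F I :=
  ClassRes.exists_quasiIso (FinDim.hyp F (n + 1) fun X => hdim X _ (Nat.lt_succ_self n)) K

lemma ess_good [PreservesFiniteLimits F] (Y : DerivedCategory A) :
    ∃ I, GoodC F I ∧ Nonempty (Q.obj I ≅ Y) := by
  haveI := Localization.essSurj (Q (C := A)) (HomologicalComplex.quasiIso A (ComplexShape.up ℤ))
  obtain ⟨I, f, hf, hI⟩ := exists_good F hdim (Q.objPreimage Y)
  exact ⟨I, hI, ⟨(asIso (Q.map f)).symm ≪≫ Q.objObjPreimageIso Y⟩⟩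

lemma fac_good [PreservesFiniteLimits F] (X P : CochainComplex A ℤ) (φ : Q.obj X ⟶ Q.obj P)
    (_ : GoodC F P) : ∃ (P' : CochainComplex A ℤ) (g : X ⟶ P') (s : P ⟶ P'),
      GoodC F P' ∧ IsIso (Q.map s) ∧ Q.map g = φ ≫ Q.map s := by
  obtain ⟨Y, g, s, hs, rfl⟩ := left_fac φ
  obtain ⟨I, f, hf, hI⟩ := exists_good F hdim Y
  exact ⟨I, g ≫ f, s ≫ f, hI, by rw [Functor.map_comp]; infer_instance, by simp⟩

lemma hypP (hP : ∀ X : A, ∃ (Y : A) (p : Y ⟶ X), Epi p ∧ PC F n Y) :
    ClassRes.Hyp (fun X : Aᵒᵖ => PC F n X.unop) (n + 1) where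
  h1 X := by
    obtain ⟨Y, p, hp, hY⟩ := hP X.unop
    exact ⟨Opposite.op Y, p.op, hY, inferInstanceAs (Mono p.op)⟩
  h2 S hS h₁ := by
    have hS' : S.unop.ShortExact := hS.unop
    refine ⟨fun h₂ i hi => ?_, fun h₃ i hi =>
      ((RDer.derivedLES F).exact₂ S.unop hS' i).isZero_X₂ ((h₃ i hi).eq_of_src _ _)
        ((h₁ i hi).eq_of_tgt _ _)⟩
    rcases i with _ | j
    · haveI hm := mono_rightDerived_zero F S.unop hS'
      exact @IsZero.of_mono _ _ _ _ _ _ hm (h₂ 0 hi)
    · rcases eq_or_ne j n with rfl | hj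
      · exact hdim _ _ (Nat.lt_succ_self _)
      · exact ((RDer.derivedLES F).exact₁ S.unop hS' j (j + 1) rfl).isZero_X₂
          ((h₁ j hj).eq_of_src _ _) ((h₂ (j + 1) hi).eq_of_tgt _ _)
  hn := Nat.succ_pos n
  h3 K hex hz _ hK := by
    have key : ∀ i, i ≤ n + 1 → ∀ j, j < i → j ≠ n →
        IsZero ((F.rightDerived j).obj (kernel (K.d i (i + 1))).unop) := by
      intro i
      induction i with
      | zero => intro _ j hj; exact absurd hj (by omega)
      | succ i ih =>
        intro hi j hj hjn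
        have hS' := (FinDim.cycles_shortExact K i (i + 1) (i + 1 + 1)
          ((HomologicalComplex.exactAt_iff' K i (i + 1) (i + 1 + 1) (by simp) (by simp)).1
            (hex (i + 1) (by omega) hi))).unop
        rcases j with _ | j
        · haveI hm := mono_rightDerived_zero F _ hS'
          exact @IsZero.of_mono _ _ _ _ _ _ hm (hK i (by omega) 0 hjn)
        · rcases eq_or_ne j n with rfl | hj'
          · exact hdim _ _ (Nat.lt_succ_self _)
          · exact ((RDer.derivedLES F).exact₁ _ hS' j (j + 1) rfl).isZero_X₂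
              ((ih (by omega) j (by omega) hj').eq_of_src _ _)
              ((hK i (by omega) (j + 1) hjn).eq_of_tgt _ _)
    intro j hj
    rcases Nat.lt_or_ge j (n + 1) with hlt | hge
    · haveI : IsIso (kernel.ι (K.d (n + 1) (n + 1 + 1))) := by
        rw [(hz (n + 1 + 1) (by omega)).eq_of_tgt (K.d (n + 1) (n + 1 + 1)) 0]
        infer_instance
      exact (key (n + 1) le_rfl j hlt hj).of_iso
        ((F.rightDerived j).mapIso (asIso (kernel.ι (K.d (n + 1) (n + 1 + 1)))).unop)
    · exact hdim _ _ hge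

theorem main [PreservesFiniteLimits F] (hP : ∀ X : A, ∃ (Y : A) (p : Y ⟶ X), Epi p ∧ PC F n Y) :
    ∃ (LG : DerivedCategory A ⥤ DerivedCategory B)
      (c : Q ⋙ LG ⟶ (F.rightDerived n).mapHomologicalComplex (ComplexShape.up ℤ) ⋙ Q)
      (β : Φ F ⟶ Q ⋙ (LG ⋙ shiftFunctor (DerivedCategory B) (-(n : ℤ)))),
      LG.IsRightKanExtension c ∧
        (LG ⋙ shiftFunctor (DerivedCategory B) (-(n : ℤ))).IsLeftKanExtension β := by
  obtain ⟨T, α, hα⟩ := exists_RF F hdim
  let LG := shiftFunctor (DerivedCategory A) (n : ℤ) ⋙ T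
  have htow : ∀ K, GoodC F (tower n K) := fun K p i hi =>
    acyclic_tower F n 0 K (fun i hi p => hdim _ i (by omega)) i hi p
  haveI : ∀ K, IsIso (α.app (tower n K)) := fun K => hα _ (htow K)
  let z : F.mapHomologicalComplex (ComplexShape.up ℤ) ≅ R F 0 :=
    NatIso.mapHomologicalComplex F.rightDerivedZeroIsoSelf.symm _
  let c : Q ⋙ LG ⟶ (F.rightDerived n).mapHomologicalComplex (ComplexShape.up ℤ) ⋙ Q :=
    { app := fun K => T.map (shiftIso n K).inv ≫ inv (α.app (tower n K)) ≫
        Q.map (z.hom.app (tower n K) ≫ eta F n K)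
      naturality := fun K L f => by
        obtain ⟨g, h₁, h₂⟩ := exists_tower_map (B := B) F n f
        have h₂' : (shiftFunctor (DerivedCategory A) (n : ℤ)).map (Q.map f) ≫ (shiftIso n L).inv =
            (shiftIso n K).inv ≫ Q.map g := by
          rw [Iso.eq_inv_comp, ← Category.assoc, ← h₂, Category.assoc, Iso.hom_inv_id, Category.comp_id]
        have hnat : T.map (Q.map g) ≫ inv (α.app (tower n L)) =
            inv (α.app (tower n K)) ≫ (Φ F).map g := by
          rw [IsIso.eq_inv_comp, ← Category.assoc, IsIso.comp_inv_eq]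
          exact (α.naturality g).symm
        have hz : (F.mapHomologicalComplex (ComplexShape.up ℤ)).map g ≫ z.hom.app (tower n L) ≫ eta F n L =
            z.hom.app (tower n K) ≫ eta F n K ≫ (R F n).map f := by
          rw [z.hom.naturality_assoc, h₁]
        show T.map ((shiftFunctor (DerivedCategory A) (n : ℤ)).map (Q.map f)) ≫ _ = _ ≫ Q.map ((R F n).map f)
        rw [← Functor.map_comp_assoc, h₂', Functor.map_comp_assoc, reassoc_of% hnat]
        simp only [Functor.comp_map, Category.assoc, ← Functor.map_comp, hz] }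
  let N : ℤ := n
  let γ : ∀ K : CochainComplex A ℤ, (shiftFunctor (DerivedCategory B) N).obj ((Φ F).obj K) ⟶
      T.obj ((shiftFunctor (DerivedCategory A) N).obj (Q.obj K)) := fun K =>
    (Q.commShiftIso N).inv.app _ ≫
      Q.map (((F.mapHomologicalComplex (ComplexShape.up ℤ)).commShiftIso N).inv.app K) ≫
      α.app (K⟦N⟧) ≫ T.map ((Q.commShiftIso N).hom.app K)
  have hγ : ∀ {K L : CochainComplex A ℤ} (f : K ⟶ L),
      (shiftFunctor (DerivedCategory B) N).map (Q.map ((F.mapHomologicalComplex (ComplexShape.up ℤ)).map f)) ≫ γ L =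
        γ K ≫ T.map ((shiftFunctor (DerivedCategory A) N).map (Q.map f)) := fun {K L} f => by
    have e₁ := (Q.commShiftIso N).inv.naturality ((F.mapHomologicalComplex (ComplexShape.up ℤ)).map f)
    have e₂ := congrArg Q.map (((F.mapHomologicalComplex (ComplexShape.up ℤ)).commShiftIso N).inv.naturality f)
    have e₃ := α.naturality (f⟦N⟧')
    have e₄ := congrArg T.map ((Q.commShiftIso N).hom.naturality f)
    simp only [Functor.comp_map, Functor.map_comp] at e₁ e₂ e₃ e₄
    simp only [γ, Φ, Functor.comp_map, Category.assoc]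
    rw [reassoc_of% e₁, reassoc_of% e₂, reassoc_of% e₃, e₄]
  let β : Φ F ⟶ Q ⋙ (LG ⋙ shiftFunctor (DerivedCategory B) (-(n : ℤ))) :=
    { app := fun K => (shiftFunctorCompIsoId (DerivedCategory B) N (-N) (add_neg_cancel N)).inv.app _ ≫
        (shiftFunctor (DerivedCategory B) (-N)).map (γ K)
      naturality := fun K L f => by
        show (Φ F).map f ≫ _ ≫ _ = _ ≫ (shiftFunctor (DerivedCategory B) (-N)).map
          (T.map ((shiftFunctor (DerivedCategory A) N).map (Q.map f)))
        have e := (shiftFunctorCompIsoId (DerivedCategory B) N (-N) (add_neg_cancel N)).inv.naturality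
          ((Φ F).map f)
        simp only [Functor.id_map, Functor.comp_map] at e
        exact (Category.assoc _ _ _).symm.trans ((congrArg (· ≫ _) e).trans ((Category.assoc _ _ _).trans
          ((congrArg (_ ≫ ·) (by rw [← Functor.map_comp, hγ, Functor.map_comp])).trans (Category.assoc _ _ _).symm))) }
  refine ⟨LG, c, β, ?_, ?_⟩
  · refine AdaptedKan.isRightKanExtension (fun K => ∀ p, PC F n (K.X p)) (fun Y => ?_) c
      (fun P X φ hP' => ?_) (fun K hK => ?_)
    · haveI := Localization.essSurj (Q (C := A)) (HomologicalComplex.quasiIso A (ComplexShape.up ℤ))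
      obtain ⟨P, f, hf, hP'⟩ := ClassResLeft.exists_quasiIso (hypP F hdim hP) (Q.objPreimage Y)
      exact ⟨P, hP', ⟨asIso (Q.map f) ≪≫ Q.objObjPreimageIso Y⟩⟩
    · obtain ⟨X', s, hs, g, rfl⟩ := right_fac φ
      obtain ⟨P', f, hf, hP''⟩ := ClassResLeft.exists_quasiIso (hypP F hdim hP) X'
      exact ⟨P', f ≫ s, f ≫ g, hP'', by rw [Functor.map_comp]; infer_instance, by simp⟩
    · haveI : QuasiIso (eta F n K) := quasiIso_eta F n K (fun i _ hi p => hK p i hi) fun hn k => by
        rw [HomologicalComplex.exactAt_iff]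
        exact ShortComplex.exact_of_isZero_X₂ _ (hK k 0 (by omega))
      haveI : IsIso (Q.map (z.hom.app (tower n K) ≫ eta F n K)) := by
        rw [Functor.map_comp]; infer_instance
      show IsIso (T.map (shiftIso n K).inv ≫ inv (α.app (tower n K)) ≫
        Q.map (z.hom.app (tower n K) ≫ eta F n K))
      infer_instance
  · refine AdaptedKan.isLeftKanExtension (GoodC F) (ess_good F hdim) β (fac_good F hdim) (fun K hK => ?_)
    haveI : IsIso (α.app (K⟦N⟧)) := hα _ fun p => hK (p + N)
    show IsIso ((shiftFunctorCompIsoId (DerivedCategory B) N (-N) (add_neg_cancel N)).inv.app _ ≫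
        (shiftFunctor (DerivedCategory B) (-N)).map ((Q.commShiftIso N).inv.app _ ≫
      Q.map (((F.mapHomologicalComplex (ComplexShape.up ℤ)).commShiftIso N).inv.app K) ≫
      α.app (K⟦N⟧) ≫ T.map ((Q.commShiftIso N).hom.app K)))
    infer_instance

end Groth.Agent.TriH.FinDimLeft
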