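import Groth.Agent.TriH.RightRes
import Mathlib.Algebra.Homology.HomologySequenceLemmas
import Mathlib.Algebra.Homology.HomologicalComplexAbelian
import Mathlib.CategoryTheory.Limits.Shapes.Pullback.IsPullback.Kernels
import Mathlib.CategoryTheory.Abelian.Projective.Basic
import Mathlib.CategoryTheory.Abelian.Injective.Basic

/-!
# Resolutions of short exact sequences of complexes
-/

set_option autoImplicit false
set_option linter.style.haveILetI false

open CategoryTheory CategoryTheory.Limits HomologicalComplex ZeroObject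

namespace Groth.Agent.TriH.SESRes

universe v u

variable {A : Type u} [Category.{v} A] [Abelian A]

lemma quasiIso_f {S : ShortComplex (CochainComplex A ℤ)} (hS : S.ShortExact) (h : S.X₃.Acyclic) :
    QuasiIso S.f := by
  have hz : ∀ k, IsZero (S.X₃.homology k) := fun k => (exactAt_iff_isZero_homology _ _).1 (h k)
  rw [quasiIso_iff]
  intro k
  rw [quasiIsoAt_iff_isIso_homologyMap]
  haveI : Mono (homologyMap S.f k) :=
    (hS.homology_exact₁ (k - 1) k (by simp)).mono_g ((hz (k - 1)).eq_of_src _ _)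
  haveI : Epi (homologyMap S.f k) := (hS.homology_exact₂ k).epi_f ((hz k).eq_of_tgt _ _)
  exact isIso_of_mono_of_epi _

lemma quasiIso_g {S : ShortComplex (CochainComplex A ℤ)} (hS : S.ShortExact) (h : S.X₁.Acyclic) :
    QuasiIso S.g := by
  have hz : ∀ k, IsZero (S.X₁.homology k) := fun k => (exactAt_iff_isZero_homology _ _).1 (h k)
  rw [quasiIso_iff]
  intro k
  rw [quasiIsoAt_iff_isIso_homologyMap]
  haveI : Mono (homologyMap S.g k) :=
    (hS.homology_exact₂ k).mono_g ((hz k).eq_of_src _ _)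
  haveI : Epi (homologyMap S.g k) :=
    (hS.homology_exact₃ k (k + 1) rfl).epi_f ((hz (k + 1)).eq_of_tgt _ _)
  exact isIso_of_mono_of_epi _

lemma quasiIso_τ₁ {S₁ S₂ : ShortComplex (CochainComplex A ℤ)} (φ : S₁ ⟶ S₂) (hS₁ : S₁.ShortExact)
    (hS₂ : S₂.ShortExact) (h₂ : QuasiIso φ.τ₂) (h₃ : QuasiIso φ.τ₃) : QuasiIso φ.τ₁ := by
  rw [quasiIso_iff]
  intro i
  rw [quasiIsoAt_iff_isIso_homologyMap]
  refine Abelian.isIso_of_epi_of_isIso_of_isIso_of_mono
    (φ := ComposableArrows.δ₀Functor.map (HomologySequence.mapComposableArrows₅ φ hS₁ hS₂ (i - 1) i (by simp)))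
    (HomologySequence.composableArrows₅_exact hS₁ (i - 1) i (by simp)).δ₀
    (HomologySequence.composableArrows₅_exact hS₂ (i - 1) i (by simp)).δ₀ ?_ ?_ ?_ ?_
  · exact inferInstanceAs (Epi (homologyMap φ.τ₂ (i - 1)))
  · exact inferInstanceAs (IsIso (homologyMap φ.τ₃ (i - 1)))
  · exact inferInstanceAs (IsIso (homologyMap φ.τ₂ i))
  · exact inferInstanceAs (Mono (homologyMap φ.τ₃ i))

theorem injective_resolution [EnoughInjectives A]
    (S : ShortComplex (CochainComplex A ℤ)) (hS : S.ShortExact) (n : ℤ)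
    [S.X₁.IsStrictlyGE n] [S.X₂.IsStrictlyGE n] :
    ∃ (T : ShortComplex (CochainComplex A ℤ)) (φ : S ⟶ T), T.ShortExact ∧
      T.X₁.IsStrictlyGE n ∧ T.X₂.IsStrictlyGE n ∧ T.X₃.IsStrictlyGE n ∧
      (∀ k : ℤ, Injective (T.X₁.X k) ∧ Injective (T.X₂.X k) ∧ Injective (T.X₃.X k)) ∧
      QuasiIso φ.τ₁ ∧ QuasiIso φ.τ₂ ∧ QuasiIso φ.τ₃ := by
  have hI : ∀ X : A, ∃ (Y : A) (ι : X ⟶ Y), Injective Y ∧ Mono ι :=
    fun X => ⟨Injective.under X, Injective.ι X, inferInstance, inferInstance⟩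
  haveI := hS.mono_f
  haveI := hS.epi_g
  obtain ⟨I₁, i₁, _, hI₁, hm, hq₁⟩ :=
    RightRes.exists_right_resolution (I := fun X : A => Injective X) ⟨0, isZero_zero _, inferInstance⟩ hI S.X₁ n
  haveI := hq₁
  haveI : Mono i₁ := HomologicalComplex.mono_of_mono_f _ hm
  let P := pushout S.f i₁
  let j₂ : S.X₂ ⟶ P := pushout.inl S.f i₁
  let j₁ : I₁ ⟶ P := pushout.inr S.f i₁
  have hP : IsPushout S.f i₁ j₂ j₁ := IsPushout.of_hasPushout _ _
  haveI : Mono j₁ := inferInstanceAs (Mono (pushout.inr S.f i₁))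
  haveI : Mono j₂ := inferInstanceAs (Mono (pushout.inl S.f i₁))
  haveI : P.IsStrictlyGE n := by
    rw [CochainComplex.isStrictlyGE_iff]
    intro i hi
    have hP' : IsPushout (S.f.f i) (i₁.f i) (j₂.f i) (j₁.f i) :=
      hP.map (HomologicalComplex.eval A (ComplexShape.up ℤ) i)
    rw [IsZero.iff_id_eq_zero]
    exact hP'.hom_ext ((S.X₂.isZero_of_isStrictlyGE n i hi).eq_of_src _ _)
      ((I₁.isZero_of_isStrictlyGE n i hi).eq_of_src _ _)
  have hc₁ : (ShortComplex.mk i₁ (cokernel.π i₁) (cokernel.condition _)).ShortExact :=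
    { exact := ShortComplex.exact_cokernel _ }
  have hc₂ : (ShortComplex.mk j₂ (cokernel.π j₂) (cokernel.condition _)).ShortExact :=
    { exact := ShortComplex.exact_cokernel _ }
  haveI := isIso_cokernel_map_of_isPushout hP.flip
  have hac : (cokernel j₂).Acyclic := fun k =>
    (hc₁.acyclic_X₃ hq₁ k).of_iso (asIso (cokernel.map _ _ _ _ hP.flip.w))
  haveI : QuasiIso j₂ := quasiIso_f hc₂ hac
  obtain ⟨J, p, _, hJ, hm₂, hq₂⟩ :=
    RightRes.exists_right_resolution (I := fun X : A => Injective X) ⟨0, isZero_zero _, inferInstance⟩ hI P n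
  haveI := hq₂
  haveI : Mono p := HomologicalComplex.mono_of_mono_f _ hm₂
  let T : ShortComplex (CochainComplex A ℤ) := ShortComplex.mk (j₁ ≫ p) (cokernel.π (j₁ ≫ p)) (cokernel.condition _)
  have hT : T.ShortExact := { exact := ShortComplex.exact_cokernel _ }
  have w : i₁ ≫ j₁ ≫ p = S.f ≫ j₂ ≫ p := by rw [← reassoc_of% hP.w]
  let c : S.X₃ ⟶ T.X₃ := hS.exact.desc (j₂ ≫ p ≫ cokernel.π (j₁ ≫ p))
    (by rw [← reassoc_of% w, ← Category.assoc j₁ p, cokernel.condition, comp_zero])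
  let φ : S ⟶ T :=
    { τ₁ := i₁
      τ₂ := j₂ ≫ p
      τ₃ := c
      comm₁₂ := w
      comm₂₃ := (Category.assoc _ _ _).trans (hS.exact.g_desc _ _).symm }
  have h₂ : QuasiIso φ.τ₂ := quasiIso_comp j₂ p
  have hdeg : ∀ k, (T.map (HomologicalComplex.eval A (ComplexShape.up ℤ) k)).ShortExact :=
    fun k => hT.map_of_exact _
  refine ⟨T, φ, hT, ‹_›, ‹_›, ?_, fun k => ⟨hI₁ k, hJ k, ?_⟩, hq₁, h₂,
    HomologySequence.quasiIso_τ₃ φ hS hT hq₁ h₂⟩
  · rw [CochainComplex.isStrictlyGE_iff]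
    intro i hi
    haveI : Epi (T.g.f i) := (hdeg i).epi_g
    exact IsZero.of_epi (T.g.f i)
      (J.isZero_of_isStrictlyGE n i hi)
  · haveI : Injective (T.map (HomologicalComplex.eval A (ComplexShape.up ℤ) k)).X₁ := hI₁ k
    haveI : Injective (T.map (HomologicalComplex.eval A (ComplexShape.up ℤ) k)).X₂ := hJ k
    exact Retract.injective
      { i := (hdeg k).splittingOfInjective.s
        r := (T.map (HomologicalComplex.eval A (ComplexShape.up ℤ) k)).g
        retract := (hdeg k).splittingOfInjective.s_g }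

theorem projective_resolution [EnoughProjectives A]
    (S : ShortComplex (CochainComplex A ℤ)) (hS : S.ShortExact) (n : ℤ)
    [S.X₂.IsStrictlyLE n] [S.X₃.IsStrictlyLE n] :
    ∃ (T : ShortComplex (CochainComplex A ℤ)) (φ : T ⟶ S), T.ShortExact ∧
      T.X₁.IsStrictlyLE n ∧ T.X₂.IsStrictlyLE n ∧ T.X₃.IsStrictlyLE n ∧
      (∀ k : ℤ, Projective (T.X₁.X k) ∧ Projective (T.X₂.X k) ∧ Projective (T.X₃.X k)) ∧
      QuasiIso φ.τ₁ ∧ QuasiIso φ.τ₂ ∧ QuasiIso φ.τ₃ := by
  have hI : ∀ X : A, ∃ (Y : A) (π : Y ⟶ X), Projective Y ∧ Epi π :=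
    fun X => ⟨Projective.over X, Projective.π X, inferInstance, inferInstance⟩
  haveI := hS.mono_f
  haveI := hS.epi_g
  obtain ⟨P₃, π₃, _, hP₃, hm, hq₃⟩ :=
    RightRes.exists_left_resolution (P := fun X : A => Projective X) ⟨0, isZero_zero _, inferInstance⟩ hI S.X₃ n
  haveI := hq₃
  haveI : Epi π₃ := HomologicalComplex.epi_of_epi_f _ hm
  let R := pullback S.g π₃
  let r₂ : R ⟶ S.X₂ := pullback.fst S.g π₃
  let r₃ : R ⟶ P₃ := pullback.snd S.g π₃
  have hR : IsPullback r₂ r₃ S.g π₃ := IsPullback.of_hasPullback _ _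
  haveI : Epi r₃ := inferInstanceAs (Epi (pullback.snd S.g π₃))
  haveI : Epi r₂ := inferInstanceAs (Epi (pullback.fst S.g π₃))
  haveI : R.IsStrictlyLE n := by
    rw [CochainComplex.isStrictlyLE_iff]
    intro i hi
    have hR' : IsPullback (r₂.f i) (r₃.f i) (S.g.f i) (π₃.f i) :=
      hR.map (HomologicalComplex.eval A (ComplexShape.up ℤ) i)
    rw [IsZero.iff_id_eq_zero]
    exact hR'.hom_ext ((S.X₂.isZero_of_isStrictlyLE n i hi).eq_of_tgt _ _)
      ((P₃.isZero_of_isStrictlyLE n i hi).eq_of_tgt _ _)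
  have hc₁ : (ShortComplex.mk (kernel.ι π₃) π₃ (kernel.condition _)).ShortExact :=
    { exact := ShortComplex.exact_of_f_is_kernel _ (kernelIsKernel _) }
  have hc₂ : (ShortComplex.mk (kernel.ι r₂) r₂ (kernel.condition _)).ShortExact :=
    { exact := ShortComplex.exact_of_f_is_kernel _ (kernelIsKernel _) }
  haveI := isIso_kernel_map_of_isPullback hR
  have hac : (kernel r₂).Acyclic := fun k =>
    (hc₁.acyclic_X₁ hq₃ k).of_iso (asIso (kernel.map _ _ _ _ hR.w)).symm
  haveI : QuasiIso r₂ := quasiIso_g hc₂ hac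
  obtain ⟨J, p, _, hJ, hm₂, hq₂⟩ :=
    RightRes.exists_left_resolution (P := fun X : A => Projective X) ⟨0, isZero_zero _, inferInstance⟩ hI R n
  haveI := hq₂
  haveI : Epi p := HomologicalComplex.epi_of_epi_f _ hm₂
  let T : ShortComplex (CochainComplex A ℤ) := ShortComplex.mk (kernel.ι (p ≫ r₃)) (p ≫ r₃) (kernel.condition _)
  have hT : T.ShortExact := { exact := ShortComplex.exact_of_f_is_kernel _ (kernelIsKernel _) }
  have w : (p ≫ r₂) ≫ S.g = (p ≫ r₃) ≫ π₃ := by simp [hR.w]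
  let c : T.X₁ ⟶ S.X₁ := hS.exact.lift (kernel.ι (p ≫ r₃) ≫ p ≫ r₂)
    (by rw [Category.assoc, w, ← Category.assoc, kernel.condition, zero_comp])
  let φ : T ⟶ S :=
    { τ₁ := c
      τ₂ := p ≫ r₂
      τ₃ := π₃
      comm₁₂ := hS.exact.lift_f _ _
      comm₂₃ := w }
  have h₂ : QuasiIso φ.τ₂ := quasiIso_comp p r₂
  have hdeg : ∀ k, (T.map (HomologicalComplex.eval A (ComplexShape.up ℤ) k)).ShortExact :=
    fun k => hT.map_of_exact _
  refine ⟨T, φ, hT, ?_, ‹_›, ‹_›, fun k => ⟨?_, hJ k, hP₃ k⟩, quasiIso_τ₁ φ hT hS h₂ hq₃, h₂, hq₃⟩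
  · rw [CochainComplex.isStrictlyLE_iff]
    intro i hi
    haveI : Mono (T.f.f i) := (hdeg i).mono_f
    exact IsZero.of_mono (T.f.f i)
      (J.isZero_of_isStrictlyLE n i hi)
  · haveI : Projective (T.map (HomologicalComplex.eval A (ComplexShape.up ℤ) k)).X₂ := hJ k
    haveI : Projective (T.map (HomologicalComplex.eval A (ComplexShape.up ℤ) k)).X₃ := hP₃ k
    exact Retract.projective
      { i := (T.map (HomologicalComplex.eval A (ComplexShape.up ℤ) k)).f
        r := (hdeg k).splittingOfProjective.r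
        retract := (hdeg k).splittingOfProjective.f_r }

end Groth.Agent.TriH.SESRes
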