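import Mathlib.Algebra.Homology.DerivedCategory.Fractions
import Mathlib.Algebra.Homology.Embedding.TruncLEHomology

/-!
# Roofs between bounded complexes
-/

set_option autoImplicit false

universe w v u

open CategoryTheory CategoryTheory.Limits

namespace Groth.Agent.TriH.Roofs

variable {A : Type u} [Category.{v} A] [Abelian A]

local notation "q" => HomotopyCategory.quotient A (ComplexShape.up ℤ)

lemma isIso_ιTruncLE_f (K : CochainComplex A ℤ) (n i : ℤ) (hi : i < n) :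
    IsIso ((K.ιTruncLE n).f i) := by
  let e := ComplexShape.embeddingUpIntLE n
  have h : e.op.f ((n - i).natAbs) = i := by
    show n - ((n - i).natAbs : ℤ) = i
    omega
  have : IsIso ((HomologicalComplex.πTruncGE (HomologicalComplex.op K) e.op).f i) := by
    refine (e.op.isIso_liftExtend_f_iff _ ((HomologicalComplex.op K).restrictionToTruncGE'_hasLift e.op) h).2 ?_
    refine HomologicalComplex.isIso_restrictionToTruncGE' _ _ _ ?_
    rw [ComplexShape.Embedding.op_boundaryGE_iff, ComplexShape.boundaryLE_embeddingUpIntLE_iff]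
    omega
  exact inferInstanceAs (IsIso ((HomologicalComplex.πTruncGE (HomologicalComplex.op K) e.op).f i).unop)

lemma mono_ιTruncLE_f (K : CochainComplex A ℤ) (n i : ℤ) : Mono ((K.ιTruncLE n).f i) :=
  inferInstanceAs (Mono ((HomologicalComplex.ιTruncLE K (ComplexShape.embeddingUpIntLE n)).f i))

lemma eq_of_comp_ιTruncLE {K Z : CochainComplex A ℤ} (n : ℤ) [K.IsStrictlyLE n] (N : ℤ)
    (hN : n < N) (u₁ u₂ : K ⟶ Z.truncLE N)
    (h : (q).map (u₁ ≫ Z.ιTruncLE N) = (q).map (u₂ ≫ Z.ιTruncLE N)) :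
    (q).map u₁ = (q).map u₂ := by
  classical
  haveI := fun i => mono_ιTruncLE_f Z N i
  haveI : Mono (Z.ιTruncLE N) := HomologicalComplex.mono_of_mono_f _ inferInstance
  let h₀ := HomotopyCategory.homotopyOfEq _ _ h
  let H : ∀ i j : ℤ, K.X i ⟶ (Z.truncLE N).X j := fun i j =>
    if hj : j < N then
      (have := isIso_ιTruncLE_f Z N j hj; h₀.hom i j ≫ inv ((Z.ιTruncLE N).f j))
    else 0
  have hH : ∀ i j : ℤ, H i j ≫ (Z.ιTruncLE N).f j = h₀.hom i j := by
    intro i j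
    by_cases hj : j < N
    · simp [H, dif_pos hj]
    · by_cases hij : (ComplexShape.up ℤ).Rel j i
      · exact (K.isZero_of_isStrictlyLE n i (by change j + 1 = i at hij; omega)).eq_of_src _ _
      · simp [H, dif_neg hj, h₀.zero i j hij]
  have hz : ∀ i j : ℤ, ¬ (ComplexShape.up ℤ).Rel j i → H i j = 0 := by
    intro i j hij
    rw [← cancel_mono ((Z.ιTruncLE N).f j), hH, h₀.zero i j hij, zero_comp]
  have key : u₁ - u₂ = Homotopy.nullHomotopicMap H := by
    rw [← cancel_mono (Z.ιTruncLE N), Preadditive.sub_comp, Homotopy.nullHomotopicMap_comp]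
    ext i
    have := h₀.comm i
    simp only [hH, HomologicalComplex.sub_f_apply, Homotopy.nullHomotopicMap,
      HomologicalComplex.comp_f] at this ⊢
    rw [this]
    abel
  exact HomotopyCategory.eq_of_homotopy _ _
    (Homotopy.equivSubZero.symm ((Homotopy.ofEq key).trans (Homotopy.nullHomotopy H hz)))

variable [HasDerivedCategory.{w} A]

lemma quasiIso_of_isIso {K L : CochainComplex A ℤ} (s : K ⟶ L)
    (hs : IsIso (DerivedCategory.Q.map s)) :
    HomotopyCategory.quasiIso A (ComplexShape.up ℤ) ((q).map s) := by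
  rw [HomotopyCategory.quotient_map_mem_quasiIso_iff, HomologicalComplex.mem_quasiIso_iff]
  exact (DerivedCategory.isIso_Q_map_iff_quasiIso _ s).1 hs

lemma exists_toQ (K L : CochainComplex A ℤ)
    (φ : DerivedCategory.Qh.obj ((q).obj K) ⟶ DerivedCategory.Qh.obj ((q).obj L)) :
    ∃ ψ : DerivedCategory.Q.obj K ⟶ DerivedCategory.Q.obj L,
      φ = (DerivedCategory.quotientCompQhIso A).hom.app K ≫ ψ ≫
        (DerivedCategory.quotientCompQhIso A).inv.app L :=
  ⟨(DerivedCategory.quotientCompQhIso A).inv.app K ≫ φ ≫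
    (DerivedCategory.quotientCompQhIso A).hom.app L, by simp⟩

theorem le_roof (K L : CochainComplex A ℤ) (a : ℤ) [K.IsStrictlyLE a]
    (φ : DerivedCategory.Qh.obj ((q).obj K) ⟶ DerivedCategory.Qh.obj ((q).obj L)) :
    ∃ (K' : CochainComplex A ℤ) (_ : K'.IsStrictlyLE a) (s : K' ⟶ K) (f : K' ⟶ L),
      HomotopyCategory.quasiIso A (ComplexShape.up ℤ) ((q).map s) ∧
        DerivedCategory.Qh.map ((q).map s) ≫ φ = DerivedCategory.Qh.map ((q).map f) := by
  obtain ⟨ψ, rfl⟩ := exists_toQ K L φ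
  obtain ⟨K', hK', s, hs, g, rfl⟩ := DerivedCategory.right_fac_of_isStrictlyLE ψ a
  refine ⟨K', hK', s, g, quasiIso_of_isIso s hs, ?_⟩
  rw [DerivedCategory.quotientCompQhIso_hom_naturality_assoc]
  simp only [Category.assoc, IsIso.hom_inv_id_assoc]
  rw [← cancel_mono ((DerivedCategory.quotientCompQhIso A).hom.app L),
    DerivedCategory.quotientCompQhIso_hom_naturality]
  simp

theorem le_eq (K L : CochainComplex A ℤ) (a : ℤ) [K.IsStrictlyLE a] (f₁ f₂ : (q).obj K ⟶ (q).obj L)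
    (h : DerivedCategory.Qh.map f₁ = DerivedCategory.Qh.map f₂) :
    ∃ (K' : CochainComplex A ℤ) (_ : K'.IsStrictlyLE a) (s : K' ⟶ K),
      HomotopyCategory.quasiIso A (ComplexShape.up ℤ) ((q).map s) ∧
        (q).map s ≫ f₁ = (q).map s ≫ f₂ := by
  obtain ⟨Z, s, hs, e⟩ := (MorphismProperty.map_eq_iff_precomp DerivedCategory.Qh
    (HomotopyCategory.quasiIso A (ComplexShape.up ℤ)) f₁ f₂).1 h
  obtain ⟨Z, rfl⟩ : ∃ Z' : CochainComplex A ℤ, (q).obj Z' = Z :=
    HomotopyCategory.quotient_obj_surjective Z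
  obtain ⟨s, rfl⟩ := (q).map_surjective s
  rw [HomotopyCategory.quotient_map_mem_quasiIso_iff, HomologicalComplex.mem_quasiIso_iff] at hs
  haveI := hs
  haveI : Z.IsLE a := (Z.isLE_iff a).2 fun i hi =>
    (exactAt_iff_of_quasiIsoAt s i).2 (K.exactAt_of_isLE a i hi)
  refine ⟨Z.truncLE a, inferInstance, Z.ιTruncLE a ≫ s, ?_, ?_⟩
  · rw [HomotopyCategory.quotient_map_mem_quasiIso_iff, HomologicalComplex.mem_quasiIso_iff]
    infer_instance
  · rw [Functor.map_comp, Category.assoc, e, ← Category.assoc]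

theorem bounded_roof (K L : CochainComplex A ℤ) (a b : ℤ) [K.IsStrictlyLE b] [L.IsStrictlyGE a]
    [L.IsStrictlyLE b]
    (φ : DerivedCategory.Qh.obj ((q).obj K) ⟶ DerivedCategory.Qh.obj ((q).obj L)) :
    ∃ (L' : CochainComplex A ℤ) (_ : L'.IsStrictlyGE a) (_ : L'.IsStrictlyLE b) (f : K ⟶ L')
      (t : L ⟶ L'), HomotopyCategory.quasiIso A (ComplexShape.up ℤ) ((q).map t) ∧
        φ ≫ DerivedCategory.Qh.map ((q).map t) = DerivedCategory.Qh.map ((q).map f) := by
  obtain ⟨ψ, rfl⟩ := exists_toQ K L φ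
  obtain ⟨L', h1, h2, g, t, ht, rfl⟩ :=
    DerivedCategory.left_fac_of_isStrictlyLE_of_isStrictlyGE a b ψ
  refine ⟨L', h1, h2, g, t, quasiIso_of_isIso t ht, ?_⟩
  rw [← cancel_mono ((DerivedCategory.quotientCompQhIso A).hom.app L')]
  simp

theorem bounded_eq (K L : CochainComplex A ℤ) (a n N : ℤ) (hN : n < N) [K.IsStrictlyLE n]
    [L.IsStrictlyGE a] [L.IsStrictlyLE N] (f₁ f₂ : (q).obj K ⟶ (q).obj L)
    (h : DerivedCategory.Qh.map f₁ = DerivedCategory.Qh.map f₂) :
    ∃ (L' : CochainComplex A ℤ) (_ : L'.IsStrictlyGE a) (_ : L'.IsStrictlyLE N) (t : L ⟶ L'),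
      HomotopyCategory.quasiIso A (ComplexShape.up ℤ) ((q).map t) ∧
        f₁ ≫ (q).map t = f₂ ≫ (q).map t := by
  obtain ⟨Z, t, ht, e⟩ := (MorphismProperty.map_eq_iff_postcomp DerivedCategory.Qh
    (HomotopyCategory.quasiIso A (ComplexShape.up ℤ)) f₁ f₂).1 h
  obtain ⟨Z, rfl⟩ : ∃ Z' : CochainComplex A ℤ, (q).obj Z' = Z :=
    HomotopyCategory.quotient_obj_surjective Z
  obtain ⟨t, rfl⟩ := (q).map_surjective t
  obtain ⟨g₁, rfl⟩ := (q).map_surjective f₁
  obtain ⟨g₂, rfl⟩ := (q).map_surjective f₂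
  rw [HomotopyCategory.quotient_map_mem_quasiIso_iff, HomologicalComplex.mem_quasiIso_iff] at ht
  haveI := ht
  haveI : Z.IsGE a := (Z.isGE_iff a).2 fun i hi =>
    (exactAt_iff_of_quasiIsoAt t i).1 (L.exactAt_of_isGE a i hi)
  let t₁ : L ⟶ Z.truncGE a := t ≫ Z.πTruncGE a
  haveI : QuasiIso t₁ := quasiIso_comp _ _
  let t₂ : L ⟶ (Z.truncGE a).truncLE N :=
    inv (L.ιTruncLE N) ≫ CochainComplex.truncLEMap t₁ N
  have ht₂ : t₂ ≫ (Z.truncGE a).ιTruncLE N = t₁ := by
    simp [t₂, CochainComplex.ιTruncLE_naturality]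
  haveI : QuasiIso (CochainComplex.truncLEMap t₁ N) := by
    rw [CochainComplex.quasiIso_truncLEMap_iff]
    intros; infer_instance
  refine ⟨(Z.truncGE a).truncLE N, inferInstance, inferInstance, t₂, ?_, ?_⟩
  · rw [HomotopyCategory.quotient_map_mem_quasiIso_iff, HomologicalComplex.mem_quasiIso_iff]
    infer_instance
  · rw [← Functor.map_comp, ← Functor.map_comp]
    refine eq_of_comp_ιTruncLE n N hN (g₁ ≫ t₂) (g₂ ≫ t₂) ?_
    have e1 : ∀ g : K ⟶ L, (g ≫ t₂) ≫ (Z.truncGE a).ιTruncLE N = g ≫ t₁ := fun g =>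
      (Category.assoc _ _ _).trans (congrArg (g ≫ ·) ht₂)
    rw [e1, e1]
    simp only [t₁, Functor.map_comp] at e ⊢
    rw [reassoc_of% e]

end Groth.Agent.TriH.Roofs
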