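import Groth.Agent.TriH.DerivedKInj
import Groth.Agent.TriH.KInj
import Mathlib.Algebra.Homology.DerivedCategory.ExactFunctor
import Mathlib.CategoryTheory.Functor.Derived.Adjunction
import Mathlib.CategoryTheory.Functor.Derived.PointwiseLeftDerived
import Mathlib.CategoryTheory.Adjunction.FullyFaithful

/-!
# The derived adjunction of an exact left adjoint
-/

set_option autoImplicit false

open CategoryTheory CategoryTheory.Limits

namespace Groth.Agent.TriH

universe w w' v v' v'' u u' u''

section Derived

variable {C : Type u} [Category.{v} C] {D : Type u'} [Category.{v'} D] {H : Type u''}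
  [Category.{v''} H] {L : C ⥤ D} {W : MorphismProperty C} [L.IsLocalization W]

lemma isRightDerivedFunctor_of_bijective
    (hres : ∀ Y : C, ∃ (I : C) (s : Y ⟶ I), W s ∧
      ∀ X : C, Function.Bijective (L.map : (X ⟶ I) → _))
    (F : C ⥤ H) (RF : D ⥤ H) (α : F ⟶ L ⋙ RF)
    (hα : ∀ I : C, (∀ X : C, Function.Bijective (L.map : (X ⟶ I) → _)) → IsIso (α.app I)) :
    RF.IsRightDerivedFunctor α W := by
  haveI := hasPointwiseRightDerivedFunctor_of_bijective (L := L) hres F
  let φ := (F.totalRightDerived L W).rightDerivedDesc (F.totalRightDerivedUnit L W) W RF α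
  have hφ : F.totalRightDerivedUnit L W ≫ Functor.whiskerLeft L φ = α :=
    (F.totalRightDerived L W).rightDerived_fac (F.totalRightDerivedUnit L W) W RF α
  haveI : IsIso φ := by
    rw [NatTrans.isIso_iff_isIso_app]
    intro Y
    haveI := Localization.essSurj L W
    obtain ⟨I, s, hs, hI⟩ := hres (L.objPreimage Y)
    haveI : IsIso (L.map s) := Localization.inverts L W s hs
    rw [NatTrans.isIso_app_iff_of_iso φ
      ((L.objObjPreimageIso Y).symm ≪≫ asIso (L.map s))]
    haveI h1 := isIso_unit_of_bijective (L := L) (W := W) F _ (F.totalRightDerivedUnit L W) I hI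
    have h2 := hα I hI
    rw [← hφ] at h2
    exact @IsIso.of_isIso_comp_left _ _ _ _ _ _ (φ.app (L.obj I)) h1 h2
  rw [← Functor.isRightDerivedFunctor_iff_of_iso (F.totalRightDerivedUnit L W) α W (asIso φ)
    (by simpa using hφ)]
  infer_instance

end Derived

section Adjunction

variable {A : Type u} [Category.{v} A] [Abelian A] {B : Type u'} [Category.{v'} B] [Abelian B]
  {L : A ⥤ B} {R : B ⥤ A} (adj : L ⊣ R) [L.Additive] [R.Additive]

/-- The unit on cochain complexes. -/
@[simps]
def unitCx (K : CochainComplex A ℤ) : K ⟶ (R.mapHomologicalComplex (ComplexShape.up ℤ)).obj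
    ((L.mapHomologicalComplex (ComplexShape.up ℤ)).obj K) where
  f n := adj.unit.app (K.X n)
  comm' i j _ := (adj.unit.naturality (K.d i j)).symm

/-- The counit on cochain complexes. -/
@[simps]
def counitCx (K : CochainComplex B ℤ) : (L.mapHomologicalComplex (ComplexShape.up ℤ)).obj
    ((R.mapHomologicalComplex (ComplexShape.up ℤ)).obj K) ⟶ K where
  f n := adj.counit.app (K.X n)
  comm' i j _ := (adj.counit.naturality (K.d i j)).symm

/-- The adjunction on homotopy categories. -/
noncomputable def adjHomotopy :
    L.mapHomotopyCategory (ComplexShape.up ℤ) ⊣ R.mapHomotopyCategory (ComplexShape.up ℤ) where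
  unit :=
    { app := fun K => (HomotopyCategory.quotient A _).map (unitCx adj K.as)
      naturality := fun K K' f => by
        obtain ⟨K⟩ := K
        obtain ⟨K'⟩ := K'
        obtain ⟨f, rfl⟩ := (HomotopyCategory.quotient A _).map_surjective f
        show (HomotopyCategory.quotient A _).map f ≫ (HomotopyCategory.quotient A _).map _ =
          (HomotopyCategory.quotient A _).map _ ≫ (HomotopyCategory.quotient A _).map
            ((R.mapHomologicalComplex _).map ((L.mapHomologicalComplex _).map f))
        rw [← Functor.map_comp, ← Functor.map_comp]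
        congr 1
        ext n
        simp only [HomologicalComplex.comp_f, unitCx_f, Functor.mapHomologicalComplex_map_f]
        exact adj.unit.naturality _ }
  counit :=
    { app := fun K => (HomotopyCategory.quotient B _).map (counitCx adj K.as)
      naturality := fun K K' f => by
        obtain ⟨K⟩ := K
        obtain ⟨K'⟩ := K'
        obtain ⟨f, rfl⟩ := (HomotopyCategory.quotient B _).map_surjective f
        show (HomotopyCategory.quotient B _).map
            ((L.mapHomologicalComplex _).map ((R.mapHomologicalComplex _).map f)) ≫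
            (HomotopyCategory.quotient B _).map _ =
          (HomotopyCategory.quotient B _).map _ ≫ (HomotopyCategory.quotient B _).map f
        rw [← Functor.map_comp, ← Functor.map_comp]
        congr 1
        ext n
        simp only [HomologicalComplex.comp_f, counitCx_f, Functor.mapHomologicalComplex_map_f]
        exact adj.counit.naturality _ }
  left_triangle_components K := by
    show (HomotopyCategory.quotient B _).map ((L.mapHomologicalComplex _).map (unitCx adj K.as)) ≫
      (HomotopyCategory.quotient B _).map (counitCx adj _) = 𝟙 _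
    rw [← Functor.map_comp]
    refine Eq.trans ?_ ((HomotopyCategory.quotient B _).map_id _)
    congr 1
    ext n
    exact adj.left_triangle_components (K.as.X n)
  right_triangle_components K := by
    show (HomotopyCategory.quotient A _).map (unitCx adj _) ≫
      (HomotopyCategory.quotient A _).map ((R.mapHomologicalComplex _).map (counitCx adj K.as)) = 𝟙 _
    rw [← Functor.map_comp]
    refine Eq.trans ?_ ((HomotopyCategory.quotient A _).map_id _)
    congr 1
    ext n
    exact adj.right_triangle_components (K.as.X n)

variable [HasDerivedCategory.{w} A] [HasDerivedCategory.{w'} B]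
  [PreservesFiniteLimits L] [PreservesFiniteColimits L]

lemma inverts_exact : (HomotopyCategory.quasiIso A (ComplexShape.up ℤ)).IsInvertedBy
    (L.mapHomotopyCategory (ComplexShape.up ℤ) ⋙ DerivedCategory.Qh) := fun X Y f hf => by
  haveI := Localization.inverts DerivedCategory.Qh (HomotopyCategory.quasiIso A (ComplexShape.up ℤ)) f hf
  rw [← NatIso.naturality_1 L.mapDerivedCategoryFactorsh f]
  dsimp
  infer_instance

theorem derived_adjunction
    (hres : ∀ K : CochainComplex B ℤ, ∃ (I : CochainComplex B ℤ) (f : K ⟶ I),
      I.IsKInjective ∧ QuasiIso f)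
    (hcounit : IsIso adj.counit)
    [(R.mapHomotopyCategory (ComplexShape.up ℤ) ⋙ DerivedCategory.Qh).HasRightDerivedFunctor
      (HomotopyCategory.quasiIso B (ComplexShape.up ℤ))] :
    Nonempty (L.mapDerivedCategory ⊣
      (R.mapHomotopyCategory (ComplexShape.up ℤ) ⋙ DerivedCategory.Qh).totalRightDerived
        DerivedCategory.Qh (HomotopyCategory.quasiIso B (ComplexShape.up ℤ))) ∧
    ((R.mapHomotopyCategory (ComplexShape.up ℤ) ⋙ DerivedCategory.Qh).totalRightDerived
        DerivedCategory.Qh (HomotopyCategory.quasiIso B (ComplexShape.up ℤ))).Full ∧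
    ((R.mapHomotopyCategory (ComplexShape.up ℤ) ⋙ DerivedCategory.Qh).totalRightDerived
        DerivedCategory.Qh (HomotopyCategory.quasiIso B (ComplexShape.up ℤ))).Faithful ∧
    Nonempty ((R.mapHomotopyCategory (ComplexShape.up ℤ) ⋙ DerivedCategory.Qh).totalRightDerived
        DerivedCategory.Qh (HomotopyCategory.quasiIso B (ComplexShape.up ℤ)) ⋙ L.mapDerivedCategory ≅
          𝟭 (DerivedCategory B)) := by
  let WA := HomotopyCategory.quasiIso A (ComplexShape.up ℤ)
  let WB := HomotopyCategory.quasiIso B (ComplexShape.up ℤ)
  let GK := R.mapHomotopyCategory (ComplexShape.up ℤ)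
  let FK := L.mapHomotopyCategory (ComplexShape.up ℤ)
  have hres' := exists_kInjective_homotopy hres
  haveI hp : (GK ⋙ DerivedCategory.Qh).HasPointwiseRightDerivedFunctor WB :=
    hasPointwiseRightDerivedFunctor_of_bijective (L := DerivedCategory.Qh) hres' _
  let RG := (GK ⋙ DerivedCategory.Qh).totalRightDerived DerivedCategory.Qh WB
  let LF := L.mapDerivedCategory
  let α : DerivedCategory.Qh ⋙ LF ⟶ FK ⋙ DerivedCategory.Qh := L.mapDerivedCategoryFactorsh.hom
  let β : GK ⋙ DerivedCategory.Qh ⟶ DerivedCategory.Qh ⋙ RG :=
    (GK ⋙ DerivedCategory.Qh).totalRightDerivedUnit DerivedCategory.Qh WB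
  haveI : LF.IsLeftDerivedFunctor α WA :=
    (Functor.isLeftDerivedFunctor_iff_of_inverts LF α inverts_exact).2 inferInstance
  have hinv : WA.IsInvertedBy (FK ⋙ DerivedCategory.Qh ⋙ RG) := fun X Y f hf => by
    haveI : IsIso ((FK ⋙ DerivedCategory.Qh).map f) := inverts_exact f hf
    exact inferInstanceAs (IsIso (RG.map ((FK ⋙ DerivedCategory.Qh).map f)))
  haveI : (LF ⋙ RG).IsLeftDerivedFunctor
      ((Functor.associator _ _ _).inv ≫ Functor.whiskerRight α RG) WA :=
    (Functor.isLeftDerivedFunctor_iff_of_inverts _ _ hinv).2 inferInstance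
  have hβ : ∀ I, (∀ X, Function.Bijective (DerivedCategory.Qh.map : (X ⟶ I) → _)) →
      IsIso (β.app I) := fun I hI =>
    isIso_unit_of_bijective (L := DerivedCategory.Qh) (W := WB) _ _ β I hI
  haveI : (RG ⋙ LF).IsRightDerivedFunctor
      (Functor.whiskerRight β LF ≫ (Functor.associator _ _ _).hom) WB :=
    isRightDerivedFunctor_of_bijective hres' _ _ _ (fun I hI => by
      haveI := hβ I hI
      simp
      infer_instance)
  let aD : LF ⊣ RG := (adjHomotopy adj).derived WA WB α β
  haveI : IsIso aD.counit := by
    rw [NatTrans.isIso_iff_isIso_app]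
    intro Y
    obtain ⟨I, s, hs, hI⟩ := hres' (DerivedCategory.Qh.objPreimage Y)
    haveI : IsIso (DerivedCategory.Qh.map s) :=
      Localization.inverts DerivedCategory.Qh WB s hs
    rw [NatTrans.isIso_app_iff_of_iso aD.counit
      ((DerivedCategory.Qh.objObjPreimageIso Y).symm ≪≫ asIso (DerivedCategory.Qh.map s))]
    haveI := hβ I hI
    have hf : LF.map (β.app I) ≫ aD.counit.app (DerivedCategory.Qh.obj I) =
        α.app (GK.obj I) ≫ DerivedCategory.Qh.map ((adjHomotopy adj).counit.app I) :=
      (adjHomotopy adj).derivedε_fac_app WB α β I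
    haveI : IsIso (counitCx adj I.as) := by
      haveI : ∀ n, IsIso ((counitCx adj I.as).f n) := fun n => by
        haveI := hcounit
        exact inferInstanceAs (IsIso (adj.counit.app (I.as.X n)))
      exact HomologicalComplex.Hom.isIso_of_components _
    haveI : IsIso ((adjHomotopy adj).counit.app I) :=
      inferInstanceAs (IsIso ((HomotopyCategory.quotient B _).map (counitCx adj I.as)))
    have h3 : IsIso (LF.map (β.app I) ≫ aD.counit.app (DerivedCategory.Qh.obj I)) := by
      rw [hf]; infer_instance
    exact IsIso.of_isIso_comp_left (LF.map (β.app I)) _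
  exact ⟨⟨aD⟩, aD.fullyFaithfulROfIsIsoCounit.full, aD.fullyFaithfulROfIsIsoCounit.faithful,
    ⟨asIso aD.counit⟩⟩

end Adjunction

end Groth.Agent.TriH
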