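import Mathlib.CategoryTheory.Triangulated.TStructure.TruncLEGT
import Mathlib.CategoryTheory.Idempotents.Basic

/-!
# A triangulated category with a bounded t-structure is idempotent complete
-/

set_option autoImplicit false
set_option linter.style.haveILetI false

universe v u

open CategoryTheory CategoryTheory.Limits CategoryTheory.Pretriangulated CategoryTheory.Triangulated

namespace Groth.Agent.TriH.IdemComplete

variable {C : Type u} [Category.{v} C] [Preadditive C] [HasZeroObject C] [HasShift C ℤ]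
  [∀ n : ℤ, (shiftFunctor C n).Additive] [Pretriangulated C]

/-- Idempotents of `X` split. -/
def Splits (X : C) : Prop :=
  ∀ p : X ⟶ X, p ≫ p = p → ∃ (Y : C) (i : Y ⟶ X) (e : X ⟶ Y), i ≫ e = 𝟙 Y ∧ e ≫ i = p

variable (t : TStructure C)

/-- In the heart, the truncated cone of an idempotent splits its complement. -/
lemma splits_of_heart (X : C) (a : ℤ) [t.IsGE X a] [t.IsLE X a] : Splits X := by
  intro p hp
  obtain ⟨Co, u, d, hT⟩ := distinguished_cocone_triangle (𝟙 X - p)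
  let Q := (t.truncGE a).obj Co
  haveI : t.IsLE (X⟦(1 : ℤ)⟧) (a - 1) := t.isLE_shift X a 1 (a - 1) (by omega)
  have h0 : p ≫ (𝟙 X - p) = 0 := by rw [Preadditive.comp_sub, Category.comp_id, hp, sub_self]
  have h0' : (𝟙 X - p) ≫ p = 0 := by rw [Preadditive.sub_comp, Category.id_comp, hp, sub_self]
  obtain ⟨k, hk⟩ : ∃ k : Co ⟶ X, p = u ≫ k := Triangle.yoneda_exact₂ _ hT p h0'
  let g : X ⟶ Q := u ≫ (t.truncGEπ a).app Co
  let s : Q ⟶ X := t.descTruncGE k a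
  have hgs : g ≫ s = p := by
    dsimp [g, s]
    rw [Category.assoc, t.π_descTruncGE, ← hk]
  have hg0 : (𝟙 X - p) ≫ g = 0 := by
    dsimp [g]
    rw [← Category.assoc]
    exact (congrArg (· ≫ _) (comp_distTriang_mor_zero₁₂ _ hT)).trans zero_comp
  refine ⟨Q, s, g, t.from_truncGE_obj_ext ?_, hgs⟩
  rw [← sub_eq_zero, ← Preadditive.comp_sub]
  obtain ⟨r, hr⟩ : ∃ r : X⟦(1 : ℤ)⟧ ⟶ Q, (t.truncGEπ a).app Co ≫ (s ≫ g - 𝟙 Q) = d ≫ r :=
    Triangle.yoneda_exact₃ _ hT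
    ((t.truncGEπ a).app Co ≫ (s ≫ g - 𝟙 Q)) (by
    change u ≫ _ ≫ (s ≫ g - 𝟙 Q) = 0
    rw [← Category.assoc, Preadditive.comp_sub, Category.comp_id, ← Category.assoc]
    change (g ≫ s) ≫ g - g = 0
    rw [hgs]
    have hneg : -((𝟙 X - p) ≫ g) = 0 := by rw [hg0, neg_zero]
    rw [Preadditive.sub_comp, Category.id_comp, neg_sub] at hneg
    exact hneg)
  rw [t.zero_of_isLE_of_isGE r (a - 1) a (by omega) inferInstance inferInstance] at hr
  exact hr.trans comp_zero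

variable {t}

/-- Splittings extend along a triangle with orthogonal ends. -/
lemma splits_of_triangle (T : Triangle C) (hT : T ∈ distTriang C) (n : ℤ) [t.IsLE T.obj₁ n]
    [t.IsGE T.obj₃ (n + 1)] (h₁ : Splits T.obj₁) (h₃ : Splits T.obj₃) : Splits T.obj₂ := by
  intro p hp
  haveI : t.IsGE (T.obj₃⟦(-1 : ℤ)⟧) (n + 2) := t.isGE_shift T.obj₃ (n + 1) (-1) (n + 2) (by omega)
  haveI : t.IsLE (T.obj₁⟦(1 : ℤ)⟧) (n - 1) := t.isLE_shift T.obj₁ n 1 (n - 1) (by omega)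
  obtain ⟨p₁, hp₁⟩ : ∃ p₁ : T.obj₁ ⟶ T.obj₁, T.mor₁ ≫ p = p₁ ≫ T.mor₁ :=
    Triangle.coyoneda_exact₂ _ hT _ (t.zero_of_isLE_of_isGE _ n (n + 1) (by omega) inferInstance inferInstance)
  obtain ⟨p₃, hp₃, hp₃'⟩ := complete_distinguished_triangle_morphism T T hT hT p₁ p hp₁
  have ext₁ : ∀ x y : T.obj₁ ⟶ T.obj₁, x ≫ T.mor₁ = y ≫ T.mor₁ → x = y := fun x y hxy => by
    obtain ⟨r, hr⟩ := Triangle.coyoneda_exact₂ _ (inv_rot_of_distTriang _ hT) (x - y)
      (show (x - y) ≫ T.mor₁ = 0 by rw [Preadditive.sub_comp, hxy, sub_self])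
    rw [← sub_eq_zero, hr]
    exact (congrArg (· ≫ _) (t.zero_of_isLE_of_isGE r n (n + 2) (by omega) inferInstance
      (show t.IsGE (T.obj₃⟦(-1 : ℤ)⟧) (n + 2) from inferInstance))).trans zero_comp
  have ext₃ : ∀ x y : T.obj₃ ⟶ T.obj₃, T.mor₂ ≫ x = T.mor₂ ≫ y → x = y := fun x y hxy => by
    obtain ⟨r, hr⟩ := Triangle.yoneda_exact₃ _ hT (x - y)
      (show T.mor₂ ≫ (x - y) = 0 by rw [Preadditive.comp_sub, hxy, sub_self])
    rw [← sub_eq_zero, hr, t.zero_of_isLE_of_isGE r (n - 1) (n + 1) (by omega) inferInstance inferInstance,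
      comp_zero]
  obtain ⟨A, i₁, r₁, hA, hA'⟩ := h₁ p₁ (ext₁ _ _ (by
    rw [Category.assoc, ← hp₁, ← reassoc_of% hp₁, hp]))
  obtain ⟨B, i₃, r₃, hB, hB'⟩ := h₃ p₃ (ext₃ _ _ (by
    rw [reassoc_of% hp₃, hp₃, reassoc_of% hp]))
  let δ : B ⟶ A⟦(1 : ℤ)⟧ := i₃ ≫ T.mor₃ ≫ r₁⟦(1 : ℤ)⟧'
  obtain ⟨Y, α, β, hY⟩ := distinguished_cocone_triangle₂ δ
  have hc : T.mor₃ ≫ p₁⟦(1 : ℤ)⟧' = p₃ ≫ T.mor₃ := hp₃'
  have hr : T.mor₃ ≫ r₁⟦(1 : ℤ)⟧' = r₃ ≫ δ := by
    dsimp [δ]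
    rw [← Category.assoc, hB', ← reassoc_of% hc, ← Functor.map_comp, ← hA', Category.assoc, hA,
      Category.comp_id]
  have hi : δ ≫ i₁⟦(1 : ℤ)⟧' = i₃ ≫ T.mor₃ := by
    dsimp [δ]
    rw [Category.assoc, Category.assoc, ← Functor.map_comp, hA', hc, ← hB', Category.assoc,
      reassoc_of% hB]
  obtain ⟨r, hr₁, hr₂⟩ : ∃ r : T.obj₂ ⟶ Y, T.mor₁ ≫ r = r₁ ≫ α ∧ T.mor₂ ≫ r₃ = r ≫ β :=
    complete_distinguished_triangle_morphism₂ T (Triangle.mk α β δ) hT hY r₁ r₃ hr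
  obtain ⟨i, hi₁, hi₂⟩ : ∃ i : Y ⟶ T.obj₂, α ≫ i = i₁ ≫ T.mor₁ ∧ β ≫ i₃ = i ≫ T.mor₂ :=
    complete_distinguished_triangle_morphism₂ (Triangle.mk α β δ) T hY hT i₁ i₃ hi
  have hv₁ : α ≫ i ≫ r = α := by rw [reassoc_of% hi₁, hr₁, reassoc_of% hA]
  have hv₂ : (i ≫ r) ≫ β = β := by rw [Category.assoc, ← hr₂, ← reassoc_of% hi₂, hB, Category.comp_id]
  haveI : IsIso (i ≫ r) := isIso₂_of_isIso₁₃
    (Triangle.homMk (Triangle.mk α β δ) (Triangle.mk α β δ) (𝟙 A) (i ≫ r) (𝟙 B)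
      (hv₁.trans (Category.id_comp _).symm) ((Category.comp_id _).trans hv₂.symm)
      (show δ ≫ (𝟙 A)⟦(1 : ℤ)⟧' = 𝟙 B ≫ δ by simp)) hY hY
    (IsIso.id _) (IsIso.id _)
  let r' := r ≫ inv (i ≫ r)
  have hir : i ≫ r' = 𝟙 Y := by simp [r', ← Category.assoc]
  let e := r' ≫ i
  have he : e ≫ e = e := by simp [e, reassoc_of% hir]
  have hα : α ≫ inv (i ≫ r) = α := by rw [IsIso.comp_inv_eq, hv₁]
  have hβ : inv (i ≫ r) ≫ β = β := by rw [IsIso.inv_comp_eq, hv₂]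
  have he₁ : T.mor₁ ≫ e = T.mor₁ ≫ p := by
    dsimp [e, r']
    rw [Category.assoc, reassoc_of% hr₁, reassoc_of% hα, hi₁, reassoc_of% hA', hp₁]
  have he₂ : e ≫ T.mor₂ = p ≫ T.mor₂ := by
    dsimp [e, r']
    rw [Category.assoc, Category.assoc, ← hi₂, reassoc_of% hβ, ← reassoc_of% hr₂, hB', hp₃]
  let d := p - e
  obtain ⟨k, hk⟩ : ∃ k : T.obj₃ ⟶ T.obj₂, d = T.mor₂ ≫ k :=
    Triangle.yoneda_exact₂ _ hT d (by rw [Preadditive.comp_sub, he₁, sub_self])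
  obtain ⟨l, hl⟩ : ∃ l : T.obj₂ ⟶ T.obj₁, d = l ≫ T.mor₁ :=
    Triangle.coyoneda_exact₂ _ hT d (by rw [Preadditive.sub_comp, he₂, sub_self])
  have hd : ∀ x : T.obj₂ ⟶ T.obj₂, d ≫ x ≫ d = 0 := by
    intro x
    obtain ⟨m, hm⟩ : ∃ m : T.obj₁ ⟶ T.obj₁, T.mor₁ ≫ x = m ≫ T.mor₁ :=
      Triangle.coyoneda_exact₂ _ hT _ (t.zero_of_isLE_of_isGE _ n (n + 1) (by omega) inferInstance inferInstance)
    have h12 : T.mor₁ ≫ T.mor₂ = 0 := comp_distTriang_mor_zero₁₂ _ hT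
    calc d ≫ x ≫ d = (l ≫ T.mor₁) ≫ x ≫ T.mor₂ ≫ k := by rw [← hk, ← hl]
      _ = 0 := by rw [Category.assoc, reassoc_of% hm, reassoc_of% h12]; simp
  -- conjugate `e` into `p`
  let n₀ : T.obj₂ ⟶ T.obj₂ := -d + (2 : ℤ) • (d ≫ e)
  have hn : n₀ ≫ n₀ = 0 := by
    have h1 := hd (𝟙 _)
    have h2 := hd e
    rw [Category.id_comp] at h1
    simp only [n₀, Preadditive.add_comp, Preadditive.comp_add, Preadditive.neg_comp, Preadditive.comp_neg,
      Preadditive.zsmul_comp, Preadditive.comp_zsmul, Category.assoc, reassoc_of% h1, reassoc_of% h2, h1, h2,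
      zero_comp, neg_zero, smul_zero, add_zero]
  let w : T.obj₂ ≅ T.obj₂ :=
    { hom := 𝟙 _ + n₀
      inv := 𝟙 _ - n₀
      hom_inv_id := by simp [Preadditive.add_comp, Preadditive.comp_sub, hn]
      inv_hom_id := by simp [Preadditive.sub_comp, Preadditive.comp_add, hn] }
  have hpw : p ≫ w.hom = w.hom ≫ e := by
    have hp' : p = e + d := by simp [d]
    have hpd : p ≫ p = p := hp
    rw [hp'] at hpd
    simp only [Preadditive.add_comp, Preadditive.comp_add, he] at hpd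
    have h1 := hd (𝟙 _)
    rw [Category.id_comp] at h1
    have hde : e ≫ d + d ≫ e = d := by
      rw [h1] at hpd
      rw [← sub_eq_zero] at hpd ⊢
      rw [← hpd]; abel
    have h2 : e ≫ d = d - d ≫ e := eq_sub_of_add_eq hde
    have h3 : e ≫ d ≫ e = 0 := by
      rw [← Category.assoc, h2, Preadditive.sub_comp, Category.assoc, he, sub_self]
    have h4 : d ≫ d ≫ e = 0 := by rw [reassoc_of% h1, zero_comp]
    dsimp [w, n₀]
    rw [hp']
    simp only [Preadditive.add_comp, Preadditive.comp_add, Preadditive.neg_comp, Preadditive.comp_neg,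
      Preadditive.zsmul_comp, Preadditive.comp_zsmul, Category.comp_id, Category.id_comp, Category.assoc,
      h1, h3, h4, he, h2]
    abel
  refine ⟨Y, i ≫ w.inv, w.hom ≫ r', by simp [hir], ?_⟩
  change (w.hom ≫ r') ≫ i ≫ w.inv = p
  calc (w.hom ≫ r') ≫ i ≫ w.inv = (w.hom ≫ e) ≫ w.inv := by simp [e]
    _ = p := by rw [← hpw]; simp

variable (t)

theorem isIdempotentComplete [IsTriangulated C] (hb : ∀ X : C, t.bounded X) : IsIdempotentComplete C := by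
  suffices key : ∀ (k : ℕ) (X : C) (a : ℤ) [t.IsGE X a] [t.IsLE X (a + k)], Splits X by
    refine ⟨fun X => ?_⟩
    obtain ⟨⟨a, ha⟩, ⟨b, hb'⟩⟩ := hb X
    haveI : t.IsLE X (a + (b - a).toNat) := t.isLE_of_le X b _ (by omega)
    exact key (b - a).toNat X a
  intro k
  induction k with
  | zero =>
    intro X a _ _
    haveI : t.IsLE X a := by simpa using (inferInstance : t.IsLE X (a + (0 : ℕ)))
    exact splits_of_heart t X a
  | succ k ih =>
    intro X a _ hX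
    let b := a + ((k + 1 : ℕ) : ℤ)
    haveI : t.IsLE X b := hX
    haveI : t.IsLE ((t.truncLT b).obj X) (a + k) := t.isLE_truncLT_obj _ _ _ (by simp [b]; omega)
    haveI : t.IsLE ((t.truncGE b).obj X) b := inferInstance
    have h₁ : Splits ((t.truncLT b).obj X) := ih _ a
    have h₃ : Splits ((t.truncGE b).obj X) := splits_of_heart t _ b
    haveI : t.IsLE ((t.triangleLTGE b).obj X).obj₁ (a + k) :=
      inferInstanceAs (t.IsLE ((t.truncLT b).obj X) (a + k))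
    haveI : t.IsGE ((t.triangleLTGE b).obj X).obj₃ (a + k + 1) :=
      t.isGE_truncGE_obj X b (a + k + 1) (by simp [b]; omega)
    exact splits_of_triangle (t := t) _ (t.triangleLTGE_distinguished b X) (a + k) h₁ h₃

end Groth.Agent.TriH.IdemComplete
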