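import Mathlib.CategoryTheory.Localization.Triangulated
import Mathlib.CategoryTheory.Triangulated.Subcategory
import Mathlib.CategoryTheory.Triangulated.HomologicalFunctor

/-!
# Kernel of a localization of a triangulated category
-/

set_option autoImplicit false
set_option linter.unusedSectionVars false
set_option linter.style.haveILetI false

namespace Groth.Agent.TriH.LocKernel

open CategoryTheory CategoryTheory.Limits CategoryTheory.Pretriangulated ZeroObject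

universe v u v' u'

lemma isZero_obj_of_isEquivalence {C : Type u} [Category.{v} C] {E : Type u'} [Category.{v'} E]
    (F : C ⥤ E) [F.IsEquivalence] {X : C} (h : IsZero X) : IsZero (F.obj X) := by
  refine ⟨fun Y => ⟨⟨⟨F.map (h.to_ (F.objPreimage Y)) ≫ (F.objObjPreimageIso Y).hom⟩, fun g => ?_⟩⟩,
    fun Y => ⟨⟨⟨(F.objObjPreimageIso Y).inv ≫ F.map (h.from_ (F.objPreimage Y))⟩, fun g => ?_⟩⟩⟩
  · obtain ⟨u, hu⟩ := F.map_surjective (g ≫ (F.objObjPreimageIso Y).inv)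
    show g = F.map (h.to_ (F.objPreimage Y)) ≫ (F.objObjPreimageIso Y).hom
    rw [h.eq_of_src (h.to_ (F.objPreimage Y)) u, hu, Category.assoc, Iso.inv_hom_id, Category.comp_id]
  · obtain ⟨u, hu⟩ := F.map_surjective ((F.objObjPreimageIso Y).hom ≫ g)
    show g = (F.objObjPreimageIso Y).inv ≫ F.map (h.from_ (F.objPreimage Y))
    rw [h.eq_of_tgt (h.from_ (F.objPreimage Y)) u, hu, Iso.inv_hom_id_assoc]

variable {D : Type u} [Category.{v} D] [Preadditive D] [HasZeroObject D] [HasShift D ℤ]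
  [∀ n : ℤ, (shiftFunctor D n).Additive] [Pretriangulated D]
  (S : MorphismProperty D) [S.HasLeftCalculusOfFractions] [S.HasRightCalculusOfFractions]
  [S.IsCompatibleWithTriangulation]
  {E : Type u'} [Category.{v'} E] (Q : D ⥤ E) [Q.IsLocalization S]

lemma isZero_iff (Z : D) : IsZero (S.Q.obj Z) ↔ IsZero (Q.obj Z) := by
  let e := Localization.uniq S.Q Q S
  have i : e.functor.obj (S.Q.obj Z) ≅ Q.obj Z := (Localization.compUniqFunctor S.Q Q S).app Z
  exact ⟨fun h => (isZero_obj_of_isEquivalence e.functor h).of_iso i.symm,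
    fun h => (isZero_obj_of_isEquivalence e.inverse (h.of_iso i)).of_iso (e.unitIso.app _)⟩

lemma isIso_iff {X Y : D} (f : X ⟶ Y) : IsIso (S.Q.map f) ↔ IsIso (Q.map f) := by
  let e := Localization.uniq S.Q Q S
  have := NatIso.isIso_map_iff (Localization.compUniqFunctor S.Q Q S) f
  rw [← this, Functor.comp_map]
  exact (isIso_iff_of_reflects_iso _ _).symm

include S in
theorem trW_kernel_iff {X Y : D} (f : X ⟶ Y) :
    ObjectProperty.trW (fun Z : D => IsZero (Q.obj Z)) f ↔ IsIso (Q.map f) := by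
  rw [← isIso_iff S Q f]
  constructor
  · rintro ⟨Z, g, h, hT, hZ⟩
    exact (Triangle.isZero₃_iff_isIso₁ _ (S.Q.map_distinguished _ hT)).1 ((isZero_iff S Q Z).2 hZ)
  · intro hf
    obtain ⟨Z, g, h, hT⟩ := distinguished_cocone_triangle f
    exact ⟨Z, g, h, hT, (isZero_iff S Q Z).1
      ((Triangle.isZero₃_iff_isIso₁ _ (S.Q.map_distinguished _ hT)).2 hf)⟩

lemma isZero_of_mem {A B : D} (h : S (0 : A ⟶ B)) :
    IsZero (S.Q.obj A) ∧ IsZero (S.Q.obj B) := by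
  haveI : IsIso (S.Q.map (0 : A ⟶ B)) := Localization.inverts S.Q S _ h
  have h0 : S.Q.map (0 : A ⟶ B) = 0 := Functor.map_zero _ _ _
  constructor <;> rw [IsZero.iff_id_eq_zero]
  · exact (IsIso.hom_inv_id (S.Q.map (0 : A ⟶ B))).symm.trans
      ((congrArg (· ≫ inv (S.Q.map (0 : A ⟶ B))) h0).trans zero_comp)
  · exact (IsIso.inv_hom_id (S.Q.map (0 : A ⟶ B))).symm.trans
      ((congrArg (inv (S.Q.map (0 : A ⟶ B)) ≫ ·) h0).trans comp_zero)

lemma exists_mem_from {Z : D} (h : IsZero (S.Q.obj Z)) : ∃ Z' : D, S (0 : Z ⟶ Z') := by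
  obtain ⟨Z', s, hs, e⟩ := (MorphismProperty.map_eq_iff_postcomp S.Q S (𝟙 Z) 0).1
    (h.eq_of_src _ _)
  rw [Category.id_comp, zero_comp] at e
  exact ⟨Z', e ▸ hs⟩

lemma exists_mem_to {Z : D} (h : IsZero (S.Q.obj Z)) : ∃ Z' : D, S (0 : Z' ⟶ Z) := by
  obtain ⟨Z', s, hs, e⟩ := (MorphismProperty.map_eq_iff_precomp S.Q S (𝟙 Z) 0).1
    (h.eq_of_src _ _)
  rw [Category.comp_id, comp_zero] at e
  exact ⟨Z', e ▸ hs⟩

lemma isZero_of_sum {Z Z' : D} (h : IsZero (S.Q.obj (Z ⊞ Z'))) : IsZero (S.Q.obj Z) := by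
  haveI : IsSplitMono (S.Q.map (biprod.inl : Z ⟶ Z ⊞ Z')) :=
    IsSplitMono.mk' ⟨S.Q.map biprod.fst, by
      rw [← Functor.map_comp, biprod.inl_fst, CategoryTheory.Functor.map_id]⟩
  exact h.of_mono (S.Q.map (biprod.inl : Z ⟶ Z ⊞ Z'))

lemma exists_sum {Z : D} (h : IsZero (S.Q.obj Z)) :
    ∃ (Z' X Y : D) (f : X ⟶ Y) (g : Y ⟶ Z ⊞ Z')
      (k : Z ⊞ Z' ⟶ (shiftFunctor D (1 : ℤ)).obj X),
      Triangle.mk f g k ∈ distTriang D ∧ S f := by
  let A := (shiftFunctor D (-1 : ℤ)).obj Z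
  have hA : IsZero (S.Q.obj A) :=
    ((shiftFunctor S.Localization (-1 : ℤ)).map_isZero h).of_iso ((S.Q.commShiftIso (-1 : ℤ)).app Z)
  obtain ⟨W, hW⟩ := exists_mem_from S hA
  obtain ⟨C, g, k, hT⟩ := distinguished_cocone_triangle (0 : A ⟶ W)
  obtain ⟨e, -, -⟩ := exists_iso_binaryBiproduct_of_distTriang _ (rot_of_distTriang _ hT)
    (show -((shiftFunctor D (1 : ℤ)).map (0 : A ⟶ W)) = 0 by simp)
  let e' : C ≅ Z ⊞ W :=
    e ≪≫ biprod.mapIso (Iso.refl W) (shiftNegShift Z (1 : ℤ)) ≪≫ biprod.braiding W Z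
  exact ⟨W, A, W, 0, g ≫ e'.hom, e'.inv ≫ k,
    isomorphic_distinguished _ hT _
      (Triangle.isoMk _ _ (Iso.refl _) (Iso.refl _) e'.symm
        ((Category.comp_id _).trans (Category.id_comp _).symm)
        (by show (g ≫ e'.hom) ≫ e'.inv = 𝟙 W ≫ g; simp)
        (by show (e'.inv ≫ k) ≫ (shiftFunctor D (1 : ℤ)).map (𝟙 A) = e'.inv ≫ k; simp)), hW⟩

theorem isZero_localization_iff (Z : D) :
    (IsZero (Q.obj Z) ↔ ∃ Z' : D, S (0 : Z ⟶ Z')) ∧
    (IsZero (Q.obj Z) ↔ ∃ Z' : D, S (0 : Z' ⟶ Z)) ∧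
    (IsZero (Q.obj Z) ↔ ∃ (Z' X Y : D) (f : X ⟶ Y) (g : Y ⟶ Z ⊞ Z')
      (h : Z ⊞ Z' ⟶ (shiftFunctor D (1 : ℤ)).obj X),
      Triangle.mk f g h ∈ distTriang D ∧ S f) := by
  rw [← isZero_iff S Q Z]
  refine ⟨⟨exists_mem_from S, fun ⟨_, h⟩ => (isZero_of_mem S h).1⟩,
    ⟨exists_mem_to S, fun ⟨_, h⟩ => (isZero_of_mem S h).2⟩, ⟨exists_sum S, ?_⟩⟩
  rintro ⟨Z', X, Y, f, g, h, hT, hf⟩
  exact isZero_of_sum S ((Triangle.isZero₃_iff_isIso₁ _ (S.Q.map_distinguished _ hT)).2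
    (Localization.inverts S.Q S f hf))

theorem isZero_quotient_iff [IsTriangulated D] (B : ObjectProperty D) [B.IsTriangulated]
    (Q : D ⥤ E) [Q.IsLocalization B.trW] (Z : D) :
    IsZero (Q.obj Z) ↔ ∃ (Z' Y : D), B Y ∧ Nonempty (Z ⊞ Z' ≅ Y) := by
  rw [← isZero_iff B.trW Q Z]
  constructor
  · intro h
    obtain ⟨Z', X, Y, f, g, k, hT, ⟨W, g', k', hT', hW⟩⟩ := exists_sum B.trW h
    obtain ⟨e, -, -⟩ := exists_iso_of_arrow_iso _ _ hT hT' (Iso.refl (Arrow.mk f))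
    exact ⟨Z', W, hW, ⟨Triangle.π₃.mapIso e⟩⟩
  · rintro ⟨Z', Y, hY, ⟨e⟩⟩
    have hm : B.trW (0 : (0 : D) ⟶ Y) :=
      ObjectProperty.trW.mk (T := Triangle.mk (0 : (0 : D) ⟶ Y) (𝟙 Y) 0) B (contractible_distinguished₁ Y) hY
    exact isZero_of_sum B.trW ((isZero_of_mem B.trW hm).2.of_iso (B.trW.Q.mapIso e))

lemma mem_of_isIso (S : MorphismProperty D) [S.ContainsIdentities] [S.IsCompatibleWithTriangulation]
    {X Y : D} (f : X ⟶ Y) [IsIso f] : S f := by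
  have h1 := contractible_distinguished₁ X
  have h2 : Triangle.mk (0 : (0 : D) ⟶ X) f 0 ∈ distTriang D :=
    isomorphic_distinguished _ h1 _ (Triangle.isoMk _ _ (Iso.refl _) (Iso.refl _) (asIso f).symm
      ((Category.comp_id _).trans (Category.id_comp _).symm)
      (by show f ≫ inv f = 𝟙 X ≫ 𝟙 X; simp)
      (by show (0 : Y ⟶ _) ≫ (shiftFunctor D (1 : ℤ)).map (𝟙 (0 : D)) = inv f ≫ 0; simp))
  obtain ⟨c, hc, hc1, -⟩ := MorphismProperty.compatible_with_triangulation (W := S) _ _ h1 h2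
    (𝟙 (0 : D)) (𝟙 X) (S.id_mem _) (S.id_mem _) ((Category.comp_id _).trans (Category.id_comp _).symm)
  have : c = f := (Category.id_comp c).symm.trans (hc1.trans (Category.id_comp f))
  exact this ▸ hc

theorem ms2 (S : MorphismProperty D) [S.IsMultiplicative] [S.IsCompatibleWithTriangulation] :
    (∀ {X Y X' : D} (f : X ⟶ Y) (t : X ⟶ X'), S t →
      ∃ (Y' : D) (f' : X' ⟶ Y') (s' : Y ⟶ Y'), S s' ∧ f ≫ s' = t ≫ f') ∧
    (∀ {X Y Y' : D} (f : X ⟶ Y) (s : Y' ⟶ Y), S s →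
      ∃ (X' : D) (f' : X' ⟶ Y') (t' : X' ⟶ X), S t' ∧ t' ≫ f = f' ≫ s) := by
  refine ⟨fun {X Y X'} f t ht => ?_, fun {X Y Y'} f s hs => ?_⟩
  · obtain ⟨W, g, k, hT⟩ := distinguished_cocone_triangle₁ f
    obtain ⟨Y', f', k', hT'⟩ := distinguished_cocone_triangle (g ≫ t)
    obtain ⟨c, hc, hc1, -⟩ := MorphismProperty.compatible_with_triangulation (W := S) _ _ hT hT'
      (𝟙 W) t (S.id_mem _) ht (Category.id_comp _).symm
    exact ⟨Y', f', c, hc, hc1⟩
  · obtain ⟨Z, g, k, hT⟩ := distinguished_cocone_triangle f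
    obtain ⟨X', f', k', hT'⟩ := distinguished_cocone_triangle₁ (s ≫ g)
    obtain ⟨c, hc, -, hc2⟩ := MorphismProperty.compatible_with_triangulation (W := S) _ _
      (rot_of_distTriang _ hT') (rot_of_distTriang _ hT) s (𝟙 Z) hs (S.id_mem _)
      (Category.comp_id _)
    obtain ⟨t', rfl⟩ : ∃ t' : X' ⟶ X, (shiftFunctor D (1 : ℤ)).map t' = c :=
      (shiftFunctor D (1 : ℤ)).map_surjective c
    refine ⟨X', f', t', ?_, ?_⟩
    · rw [← MorphismProperty.IsCompatibleWithShift.condition (W := S) (A := ℤ) 1]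
      exact hc
    · apply (shiftFunctor D (1 : ℤ)).map_injective
      have h : (-((shiftFunctor D (1 : ℤ)).map f')) ≫ (shiftFunctor D (1 : ℤ)).map s =
          (shiftFunctor D (1 : ℤ)).map t' ≫ (-((shiftFunctor D (1 : ℤ)).map f)) := hc2
      rw [Preadditive.neg_comp, Preadditive.comp_neg, neg_inj] at h
      rw [Functor.map_comp, Functor.map_comp]
      exact h.symm

section Homological

variable {A : Type u'} [Category.{v'} A] [Abelian A] (H : D ⥤ A) [H.IsHomological]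

/-- Eventual vanishing along a cofinal family of sets of degrees. -/
def EvZero (P : ℤ → ℤ → Prop) : ObjectProperty D :=
  fun X => ∃ N : ℤ, ∀ n : ℤ, P N n → IsZero (H.obj ((shiftFunctor D n).obj X))

theorem evZero_props (P : ℤ → ℤ → Prop)
    (hmax : ∀ N M : ℤ, ∃ L, ∀ n, P L n → P N n ∧ P M n)
    (hshift : ∀ N a : ℤ, ∃ L, ∀ n, P L n → P N (a + n)) :
    ObjectProperty.IsTriangulated (EvZero H P) ∧
    ObjectProperty.IsClosedUnderIsomorphisms (EvZero H P) ∧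
    (∀ X Y : D, EvZero H P (X ⊞ Y) → EvZero H P X ∧ EvZero H P Y) := by
  haveI hc : ObjectProperty.IsClosedUnderIsomorphisms (EvZero H P) :=
    ⟨fun e ⟨N, hN⟩ => ⟨N, fun n hn => (hN n hn).of_iso
      (H.mapIso ((shiftFunctor D n).mapIso e.symm))⟩⟩
  refine ⟨?_, hc, fun X Y ⟨N, hN⟩ => ⟨⟨N, fun n hn => ?_⟩, ⟨N, fun n hn => ?_⟩⟩⟩
  · exact
      { exists_zero := ⟨_, isZero_zero D, 0, fun n _ =>
          H.map_isZero ((shiftFunctor D n).map_isZero (isZero_zero D))⟩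
        toIsStableUnderShift := ⟨fun a => ⟨fun X ⟨N, hN⟩ => by
          obtain ⟨L, hL⟩ := hshift N a
          exact ⟨L, fun n hn => (hN _ (hL n hn)).of_iso
            (H.mapIso ((shiftFunctorAdd D a n).app X).symm)⟩⟩⟩
        toIsTriangulatedClosed₂ := ObjectProperty.IsTriangulatedClosed₂.mk'
          fun T hT ⟨N₁, h₁⟩ ⟨N₃, h₃⟩ => by
            obtain ⟨L, hL⟩ := hmax N₁ N₃
            exact ⟨L, fun n hn =>
              (H.map_distinguished_exact _ (Triangle.shift_distinguished T hT n)).isZero_of_both_zeros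
                ((h₁ n (hL n hn).1).eq_of_src _ _) ((h₃ n (hL n hn).2).eq_of_tgt _ _)⟩ }
  · haveI : IsSplitMono ((shiftFunctor D n ⋙ H).map (biprod.inl : X ⟶ X ⊞ Y)) :=
      IsSplitMono.mk' ⟨(shiftFunctor D n ⋙ H).map biprod.fst, by
        rw [← Functor.map_comp, biprod.inl_fst, CategoryTheory.Functor.map_id]⟩
    exact (hN n hn).of_mono ((shiftFunctor D n ⋙ H).map (biprod.inl : X ⟶ X ⊞ Y))
  · haveI : IsSplitMono ((shiftFunctor D n ⋙ H).map (biprod.inr : Y ⟶ X ⊞ Y)) :=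
      IsSplitMono.mk' ⟨(shiftFunctor D n ⋙ H).map biprod.snd, by
        rw [← Functor.map_comp, biprod.inr_snd, CategoryTheory.Functor.map_id]⟩
    exact (hN n hn).of_mono ((shiftFunctor D n ⋙ H).map (biprod.inr : Y ⟶ X ⊞ Y))

end Homological

end Groth.Agent.TriH.LocKernel
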