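import Groth.Agent.TriH.FilTower
import Mathlib.Algebra.Homology.HomologySequenceLemmas
import Mathlib.CategoryTheory.Abelian.DiagramLemmas.Four

/-!
# Filtered K-injective embeddings
-/

set_option autoImplicit false

open CategoryTheory CategoryTheory.Limits Opposite ZeroObject

namespace Groth.Agent.TriH.FilRes

universe v u

variable {A : Type u} [Category.{v} A] [Abelian A]

lemma quasiIso_τ₁ {S₁ S₂ : ShortComplex (CochainComplex A ℤ)} (φ : S₁ ⟶ S₂) (h₁ : S₁.ShortExact)
    (h₂ : S₂.ShortExact) (hb : QuasiIso φ.τ₂) (hc : QuasiIso φ.τ₃) : QuasiIso φ.τ₁ := by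
  rw [quasiIso_iff]
  intro k
  obtain ⟨i, rfl⟩ : ∃ i, k = i + 1 := ⟨k - 1, by omega⟩
  rw [quasiIsoAt_iff_isIso_homologyMap]
  have hij : (ComplexShape.up ℤ).Rel i (i + 1) := rfl
  apply Abelian.isIso_of_epi_of_isIso_of_isIso_of_mono
    (R₁ := (HomologicalComplex.HomologySequence.composableArrows₅ h₁ i (i + 1) hij).δ₀)
    (R₂ := (HomologicalComplex.HomologySequence.composableArrows₅ h₂ i (i + 1) hij).δ₀)
    (φ := ComposableArrows.δ₀Functor.map
      (HomologicalComplex.HomologySequence.mapComposableArrows₅ φ h₁ h₂ i (i + 1) hij))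
  · exact (HomologicalComplex.HomologySequence.composableArrows₅_exact h₁ i (i + 1) hij).δ₀
  · exact (HomologicalComplex.HomologySequence.composableArrows₅_exact h₂ i (i + 1) hij).δ₀
  · show Epi (HomologicalComplex.homologyMap φ.τ₂ i)
    infer_instance
  · show IsIso (HomologicalComplex.homologyMap φ.τ₃ i)
    infer_instance
  · show IsIso (HomologicalComplex.homologyMap φ.τ₂ (i + 1))
    infer_instance
  · show Mono (HomologicalComplex.homologyMap φ.τ₃ (i + 1))
    infer_instance

lemma shortExact_kernelSubobject {X Y : CochainComplex A ℤ} (g : X ⟶ Y) [Epi g] :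
    (ShortComplex.mk (kernelSubobject g).arrow g (kernelSubobject_arrow_comp g)).ShortExact where
  exact := ShortComplex.exact_of_f_is_kernel _
    (IsLimit.ofIsoLimit (kernelIsKernel g) (Fork.ext (kernelSubobjectIso g).symm
      ((Subobject.underlyingIso_arrow _).trans rfl)))

lemma shortExact_arrow_cokernel {X : CochainComplex A ℤ} (P : Subobject X) :
    (ShortComplex.mk P.arrow (cokernel.π P.arrow) (cokernel.condition P.arrow)).ShortExact :=
  { exact := ShortComplex.exact_cokernel P.arrow }

variable [IsGrothendieckAbelian.{v} A] (K : SpSeq.FilCx A)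

/-- The filtered K-injective complex. -/
noncomputable abbrev target : SpSeq.FilCx A where
  obj := Jtop K
  fil p := kernelSubobject (πtop K p)
  anti p p' h := le_kernelSubobject _ _ (by
    rw [← πtop_t K h, kernelSubobject_arrow_comp_assoc, zero_comp])

lemma epi_πtop (p : ℤ) : Epi (πtop K p) :=
  HomologicalComplex.epi_of_epi_f _ fun n => by
    haveI := isSplitEpi_πtop K p n
    infer_instance

/-- The embedding. -/
noncomputable def embHom : K.obj ⟶ Jtop K := resι K.obj ≫ biprod.inl

/-- The induced map on quotients, seen in the tower. -/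
noncomputable def quotEmb (p : ℤ) : K.quot p ⟶ J K p := resι (K.quot p) ≫ biprod.inl

@[reassoc]
lemma embHom_πtop (p : ℤ) :
    embHom K ≫ πtop K p = cokernel.π (K.fil p).arrow ≫ quotEmb K p := by
  rw [embHom, quotEmb, πtop, Category.assoc, biprod.inl_desc, ← Category.assoc,
    ← injResι_naturality, Category.assoc]

lemma arrow_embHom_πtop (p : ℤ) : ((K.fil p).arrow ≫ embHom K) ≫ πtop K p = 0 := by
  rw [Category.assoc, embHom_πtop, cokernel.condition_assoc, zero_comp]

/-- The morphism of filtered complexes. -/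
noncomputable def emb : K ⟶ target K where
  hom := embHom K
  compat p := by
    refine Subobject.le_of_comm
      ((Subobject.isPullback (embHom K) ((target K).fil p)).lift
        (factorThruKernelSubobject (πtop K p) _ (arrow_embHom_πtop K p)) (K.fil p).arrow
        (factorThruKernelSubobject_comp_arrow _ _ _)) ?_
    exact IsPullback.lift_snd _ _ _ _

/-- The isomorphism between the quotient and the stage. -/
noncomputable def quotIso (p : ℤ) : (target K).quot p ≅ J K p :=
  haveI := epi_πtop K p
  IsColimit.coconePointUniqueUpToIso (cokernelIsCokernel ((target K).fil p).arrow)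
    (shortExact_kernelSubobject (πtop K p)).gIsCokernel

@[reassoc]
lemma π_quotIso_hom (p : ℤ) :
    cokernel.π ((target K).fil p).arrow ≫ (quotIso K p).hom = πtop K p :=
  haveI := epi_πtop K p
  IsColimit.comp_coconePointUniqueUpToIso_hom (cokernelIsCokernel ((target K).fil p).arrow)
    (shortExact_kernelSubobject (πtop K p)).gIsCokernel WalkingParallelPair.one

/-- The map from a step to a kernel of the transition map. -/
noncomputable def stepToKernel {p p' : ℤ} (h : p ≤ p') :
    (target K).step p ⟶ kernel (t K h) :=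
  kernel.lift _ (((target K).fil p).arrow ≫ πtop K p') (by
    rw [Category.assoc, πtop_t]
    exact kernelSubobject_arrow_comp (πtop K p))

lemma epi_stepToKernel {p p' : ℤ} (h : p ≤ p') : Epi (stepToKernel K h) := by
  haveI := epi_πtop K p
  refine HomologicalComplex.epi_of_epi_f _ fun n => ?_
  obtain ⟨⟨s, hs⟩⟩ := isSplitEpi_πtop K p' n
  let S := (ShortComplex.mk ((target K).fil p).arrow (πtop K p)
    (kernelSubobject_arrow_comp (πtop K p))).map (HomologicalComplex.eval A (ComplexShape.up ℤ) n)
  have hS := (shortExact_kernelSubobject (πtop K p)).map_of_exact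
    (HomologicalComplex.eval A (ComplexShape.up ℤ) n)
  have hs' : ((kernel.ι (t K h)).f n ≫ s) ≫ (πtop K p).f n = 0 := by
    rw [← πtop_t K h, HomologicalComplex.comp_f, Category.assoc, reassoc_of% hs,
      ← HomologicalComplex.comp_f, kernel.condition, HomologicalComplex.zero_f]
  haveI : Mono ((kernel.ι (t K h)).f n) :=
    (HomologicalComplex.eval A (ComplexShape.up ℤ) n).map_mono (kernel.ι (t K h))
  haveI := hS.mono_f
  let l := hS.exact.lift _ hs'
  have hl : l ≫ ((target K).fil p).arrow.f n = (kernel.ι (t K h)).f n ≫ s :=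
    hS.exact.lift_f _ _
  haveI : IsSplitEpi ((stepToKernel K h).f n) := ⟨⟨⟨l, by
    rw [← cancel_mono ((kernel.ι (t K h)).f n), Category.id_comp, Category.assoc,
      ← HomologicalComplex.comp_f, stepToKernel, kernel.lift_ι, HomologicalComplex.comp_f]
    erw [reassoc_of% hl]
    rw [hs]
    exact Category.comp_id _⟩⟩⟩
  infer_instance

lemma nonempty_stepLE_cokernel_iso {p p' : ℤ} (h : p ≤ p') :
    Nonempty (cokernel ((target K).stepLE h) ≅ kernel (t K h)) := by
  haveI := epi_πtop K p'
  haveI := epi_stepToKernel K h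
  let S := ShortComplex.mk ((target K).stepLE h) (stepToKernel K h) (by
    rw [← cancel_mono (kernel.ι (t K h)), Category.assoc, stepToKernel, kernel.lift_ι, zero_comp,
      Subobject.ofLE_arrow_assoc]
    exact kernelSubobject_arrow_comp (πtop K p'))
  haveI : Mono S.f := inferInstanceAs (Mono ((target K).stepLE h))
  haveI : Epi S.g := inferInstanceAs (Epi (stepToKernel K h))
  have hS : S.ShortExact :=
    { exact := ShortComplex.exact_of_f_is_kernel _ (KernelFork.IsLimit.ofι' _ _ fun {W} k hk => by
        have hk' : (k ≫ ((target K).fil p).arrow) ≫ πtop K p' = 0 := by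
          have h' := congrArg (· ≫ kernel.ι (t K h)) hk
          simp only [Category.assoc, zero_comp] at h' ⊢
          rw [← h']
          simp [S, stepToKernel]
        refine ⟨factorThruKernelSubobject (πtop K p') _ hk', ?_⟩
        rw [← cancel_mono ((target K).fil p).arrow, Category.assoc]
        show factorThruKernelSubobject (πtop K p') _ hk' ≫ (target K).stepLE h ≫ _ = _
        rw [Subobject.ofLE_arrow]
        exact factorThruKernelSubobject_comp_arrow _ _ _) }
  exact ⟨IsColimit.coconePointUniqueUpToIso (cokernelIsCokernel ((target K).stepLE h))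
    hS.gIsCokernel⟩

lemma stage_props (p : ℤ) : (J K p).IsKInjective ∧ ∀ n, Injective ((J K p).X n) :=
  (isKInjective_and_injective_iff _).2 (hasAcyclicExtension_J K p)

lemma step_props (p : ℤ) :
    ((target K).step p).IsKInjective ∧ ∀ n, Injective (((target K).step p).X n) := by
  obtain ⟨h1, h2⟩ := (isKInjective_and_injective_iff _).2 (hasAcyclicExtension_Jtop K)
  obtain ⟨h3, h4⟩ := stage_props K p
  haveI : ∀ m, IsSplitEpi ((πtop K p).f m) := isSplitEpi_πtop K p
  obtain ⟨h5, h6⟩ := exists_kernel_props (πtop K p)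
  let e : kernel (πtop K p) ≅ (target K).step p := (kernelSubobjectIso (πtop K p)).symm
  exact ⟨CochainComplex.isKInjective_of_iso e, fun n =>
    Injective.of_iso ((HomologicalComplex.eval A (ComplexShape.up ℤ) n).mapIso e) (h6 n)⟩

lemma quot_props (p : ℤ) :
    ((target K).quot p).IsKInjective ∧ ∀ n, Injective (((target K).quot p).X n) := by
  obtain ⟨h3, h4⟩ := stage_props K p
  exact ⟨CochainComplex.isKInjective_of_iso (quotIso K p).symm, fun n =>
    Injective.of_iso ((HomologicalComplex.eval A (ComplexShape.up ℤ) n).mapIso (quotIso K p).symm)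
      (h4 n)⟩

lemma gr_props {p p' : ℤ} (h : p ≤ p') :
    (cokernel ((target K).stepLE h)).IsKInjective ∧
      ∀ n, Injective ((cokernel ((target K).stepLE h)).X n) := by
  obtain ⟨h1, h2⟩ := stage_props K p'
  obtain ⟨h3, h4⟩ := stage_props K p
  haveI : ∀ m, IsSplitEpi ((t K h).f m) := isSplitEpi_t K h
  obtain ⟨h5, h6⟩ := exists_kernel_props (t K h)
  obtain ⟨e⟩ := nonempty_stepLE_cokernel_iso K h
  exact ⟨CochainComplex.isKInjective_of_iso e.symm, fun n =>
    Injective.of_iso ((HomologicalComplex.eval A (ComplexShape.up ℤ) n).mapIso e.symm) (h6 n)⟩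

omit [IsGrothendieckAbelian.{v} A] in
lemma injective_XFil_step (J : SpSeq.FilCx A) (p n : ℤ) (h : Injective ((J.step p).X n)) :
    Injective ((J.XFil n).step p) := by
  haveI : Mono ((J.fil p).arrow.f n) :=
    (HomologicalComplex.eval A (ComplexShape.up ℤ) n).map_mono (J.fil p).arrow
  exact Injective.of_iso (Subobject.underlyingIso ((J.fil p).arrow.f n)).symm h

omit [IsGrothendieckAbelian.{v} A] in
lemma injective_XFil_quot (J : SpSeq.FilCx A) (p n : ℤ) (h : Injective ((J.quot p).X n)) :
    Injective ((J.XFil n).quot p) := by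
  haveI : Mono ((J.fil p).arrow.f n) :=
    (HomologicalComplex.eval A (ComplexShape.up ℤ) n).map_mono (J.fil p).arrow
  let e : (J.quot p).X n ≅ (J.XFil n).quot p :=
    PreservesCokernel.iso (HomologicalComplex.eval A (ComplexShape.up ℤ) n) (J.fil p).arrow ≪≫
      cokernel.mapIso _ _ (Subobject.underlyingIso ((J.fil p).arrow.f n)).symm (Iso.refl _)
        (by
          refine (Category.comp_id _).trans ?_
          exact (Subobject.underlyingIso_arrow ((J.fil p).arrow.f n)).symm)
  exact Injective.of_iso e h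

lemma injective_XFil_gr (J : SpSeq.FilCx A) (p p' n : ℤ) (hp : p ≤ p')
    (h : Injective ((cokernel (J.stepLE hp)).X n)) :
    Injective (cokernel ((J.XFil n).stepLE hp)) := by
  haveI : ∀ q, Mono ((J.fil q).arrow.f n) := fun q =>
    (HomologicalComplex.eval A (ComplexShape.up ℤ) n).map_mono (J.fil q).arrow
  let e : (cokernel (J.stepLE hp)).X n ≅ cokernel ((J.XFil n).stepLE hp) :=
    PreservesCokernel.iso (HomologicalComplex.eval A (ComplexShape.up ℤ) n) (J.stepLE hp) ≪≫
      cokernel.mapIso _ _ (Subobject.underlyingIso ((J.fil p').arrow.f n)).symm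
        (Subobject.underlyingIso ((J.fil p).arrow.f n)).symm
        (by
          refine (cancel_mono ((J.XFil n).fil p).arrow).1 ?_
          refine (Category.assoc _ _ _).trans (Eq.trans ?_ (Category.assoc _ _ _).symm)
          refine (congrArg (_ ≫ ·)
            (Subobject.underlyingIso_arrow ((J.fil p).arrow.f n))).trans ?_
          refine Eq.trans ?_ (congrArg (_ ≫ ·) (Subobject.ofLE_arrow _).symm)
          refine Eq.trans ?_ (Subobject.underlyingIso_arrow ((J.fil p').arrow.f n)).symm
          exact (HomologicalComplex.comp_f _ _ n).symm.trans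
            (congrArg (fun x => HomologicalComplex.Hom.f x n) (Subobject.ofLE_arrow _)))
  exact Injective.of_iso e h

theorem exists_filtered_kInjective_embedding :
    ∃ (J : SpSeq.FilCx A) (j : K ⟶ J),
      (∀ n p : ℤ, Injective (J.obj.X n) ∧ Injective ((J.XFil n).step p) ∧ Injective ((J.XFil n).quot p) ∧
        ∀ (p' : ℤ) (h : p ≤ p'), Injective (cokernel ((J.XFil n).stepLE h))) ∧
      (CochainComplex.IsKInjective J.obj ∧ ∀ p : ℤ, CochainComplex.IsKInjective (J.step p) ∧
        CochainComplex.IsKInjective (J.quot p) ∧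
        ∀ (p' : ℤ) (h : p ≤ p'), CochainComplex.IsKInjective (cokernel (J.stepLE h))) ∧
      QuasiIso j.hom ∧
      (∀ p : ℤ, ∃ jp : K.step p ⟶ J.step p, jp ≫ (J.fil p).arrow = (K.fil p).arrow ≫ j.hom ∧ QuasiIso jp ∧
        (∀ (p' : ℤ) (h : p ≤ p'), ∃ (jp' : K.step p' ⟶ J.step p') (jg : cokernel (K.stepLE h) ⟶ cokernel (J.stepLE h)),
          jp' ≫ (J.fil p').arrow = (K.fil p').arrow ≫ j.hom ∧ jp' ≫ J.stepLE h = K.stepLE h ≫ jp ∧
          cokernel.π (K.stepLE h) ≫ jg = jp ≫ cokernel.π (J.stepLE h) ∧ QuasiIso jg)) ∧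
      (∀ p : ℤ, ∃ jq : K.quot p ⟶ J.quot p,
        cokernel.π (K.fil p).arrow ≫ jq = j.hom ≫ cokernel.π (J.fil p).arrow ∧ QuasiIso jq) := by
  obtain ⟨hT1, hT2⟩ := (isKInjective_and_injective_iff _).2 (hasAcyclicExtension_Jtop K)
  have hj : QuasiIso (embHom K) := by
    haveI := (injRes_props K.obj).2.1
    haveI : QuasiIso (biprod.inl : injRes.obj K.obj ⟶ Jtop K) :=
      quasiIso_inl (cover_nullHomotopic (L K))
    exact quasiIso_comp _ _
  let jp : ∀ p, K.step p ⟶ (target K).step p := fun p =>
    factorThruKernelSubobject (πtop K p) _ (arrow_embHom_πtop K p)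
  have hjp : ∀ p, jp p ≫ ((target K).fil p).arrow = (K.fil p).arrow ≫ embHom K :=
    fun p => factorThruKernelSubobject_comp_arrow _ _ _
  have hjq : ∀ p, ∃ jq : K.quot p ⟶ (target K).quot p,
      cokernel.π (K.fil p).arrow ≫ jq = embHom K ≫ cokernel.π ((target K).fil p).arrow ∧
        QuasiIso jq := fun p => by
    refine ⟨quotEmb K p ≫ (quotIso K p).inv, ?_, ?_⟩
    · rw [← embHom_πtop_assoc, ← π_quotIso_hom_assoc K p, Iso.hom_inv_id]
      exact congrArg (embHom K ≫ ·) (Category.comp_id _)
    · haveI := (injRes_props (K.quot p)).2.1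
      haveI : QuasiIso (biprod.inl : I K p ⟶ J K p) := quasiIso_inl (nullHomotopic_Cov K p)
      haveI : QuasiIso (quotEmb K p) := quasiIso_comp _ _
      exact quasiIso_comp _ _
  choose jq hjq1 hjq2 using hjq
  have hq : ∀ p, QuasiIso (jp p) := fun p => quasiIso_τ₁
    (S₁ := ShortComplex.mk _ _ (cokernel.condition (K.fil p).arrow))
    (S₂ := ShortComplex.mk _ _ (cokernel.condition ((target K).fil p).arrow))
    (ShortComplex.Hom.mk (jp p) (embHom K) (jq p) (hjp p) (hjq1 p).symm)
    (shortExact_arrow_cokernel _) (shortExact_arrow_cokernel _) hj (hjq2 p)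
  refine ⟨target K, emb K, fun n p => ⟨hT2 n, injective_XFil_step _ p n ((step_props K p).2 n),
    injective_XFil_quot _ p n ((quot_props K p).2 n),
    fun p' h => injective_XFil_gr _ p p' n h ((gr_props K h).2 n)⟩,
    ⟨hT1, fun p => ⟨(step_props K p).1, (quot_props K p).1, fun p' h => (gr_props K h).1⟩⟩,
    hj, fun p => ⟨jp p, hjp p, hq p, fun p' h => ?_⟩, fun p => ⟨jq p, hjq1 p, hjq2 p⟩⟩
  have hsq : jp p' ≫ (target K).stepLE h = K.stepLE h ≫ jp p := by
    rw [← cancel_mono ((target K).fil p).arrow, Category.assoc, Category.assoc, hjp,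
      Subobject.ofLE_arrow, hjp, Subobject.ofLE_arrow_assoc]
  refine ⟨jp p', cokernel.map _ _ (jp p') (jp p) hsq.symm, hjp p', hsq, cokernel.π_desc _ _ _, ?_⟩
  exact HomologicalComplex.HomologySequence.quasiIso_τ₃
    (S₁ := ShortComplex.mk _ _ (cokernel.condition (K.stepLE h)))
    (S₂ := ShortComplex.mk _ _ (cokernel.condition ((target K).stepLE h)))
    (ShortComplex.Hom.mk (jp p') (jp p) (cokernel.map _ _ (jp p') (jp p) hsq.symm) hsq
      (cokernel.π_desc _ _ _).symm)
    { exact := ShortComplex.exact_cokernel _ } { exact := ShortComplex.exact_cokernel _ }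
    (hq p') (hq p)

end Groth.Agent.TriH.FilRes
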