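import Mathlib.CategoryTheory.Triangulated.Pretriangulated

/-!
# Candidate triangles, sums of triangles
-/

set_option autoImplicit false
set_option linter.unusedSectionVars false

namespace Groth.Agent.TriH

open CategoryTheory CategoryTheory.Limits CategoryTheory.Pretriangulated

universe v u

variable {D : Type u} [Category.{v} D] [Preadditive D] [HasZeroObject D] [HasShift D ℤ]
  [∀ n : ℤ, (shiftFunctor D n).Additive] [Pretriangulated D]

lemma distinguished_of_candidate {X Y Z W : D} (f : X ⟶ Y) (g : Y ⟶ Z)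
    (h : Z ⟶ (shiftFunctor D (1 : ℤ)).obj X) (g' : Y ⟶ W) (h' : W ⟶ (shiftFunctor D (1 : ℤ)).obj X)
    (hS : Triangle.mk f g' h' ∈ distTriang D)
    (θ : W ⟶ Z) (hθ₁ : g' ≫ θ = g) (hθ₂ : θ ≫ h = h')
    (ψ : Z ⟶ W) (hψ₁ : g ≫ ψ = g') (hψ₂ : ψ ≫ h' = h)
    (hex : ∀ e : Z ⟶ Z, e ≫ h = 0 → ∃ b, e = b ≫ g) :
    Triangle.mk f g h ∈ distTriang D := by
  have hS' : IsIso (θ ≫ ψ) :=
    isIso₃_of_isIso₁₂
      (Triangle.homMk (Triangle.mk f g' h') (Triangle.mk f g' h') (𝟙 X) (𝟙 Y) (θ ≫ ψ)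
        ((Category.comp_id f).trans (Category.id_comp f).symm)
        (((Category.assoc g' θ ψ).symm.trans ((congrArg (· ≫ ψ) hθ₁).trans hψ₁)).trans
          (Category.id_comp g').symm)
        (((congrArg (h' ≫ ·) ((shiftFunctor D (1 : ℤ)).map_id X)).trans (Category.comp_id h')).trans
          ((Category.assoc θ ψ h').trans ((congrArg (θ ≫ ·) hψ₂).trans hθ₂)).symm))
      hS hS (show IsIso (𝟙 X) from inferInstance) (show IsIso (𝟙 Y) from inferInstance)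
  let e := ψ ≫ θ - 𝟙 Z
  have he₂ : e ≫ h = 0 := by simp [e, hθ₂, hψ₂]
  have he₁ : g ≫ e = 0 := by simp [e, reassoc_of% hψ₁, hθ₁]
  obtain ⟨b, hb⟩ := hex e he₂
  have hee : e ≫ e = 0 := by
    rw [congrArg (· ≫ e) hb, Category.assoc, he₁, comp_zero]
  have hT' : IsIso (ψ ≫ θ) :=
    ⟨𝟙 Z - e, by
      rw [show ψ ≫ θ = e + 𝟙 Z from (sub_add_cancel _ _).symm, Preadditive.add_comp,
        Preadditive.comp_sub, Category.comp_id, Category.id_comp, hee, sub_zero, add_sub_cancel], by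
      rw [show ψ ≫ θ = e + 𝟙 Z from (sub_add_cancel _ _).symm, Preadditive.comp_add,
        Preadditive.sub_comp, hee, Category.comp_id, Category.id_comp, sub_zero, add_sub_cancel]⟩
  haveI : IsIso θ := by
    haveI : Mono θ := mono_of_mono θ ψ
    haveI : IsSplitEpi θ := IsSplitEpi.mk' ⟨inv (ψ ≫ θ) ≫ ψ, by simp⟩
    exact isIso_of_mono_of_isSplitEpi θ
  refine isomorphic_distinguished _ hS _
    (Triangle.isoMk _ _ (Iso.refl X) (Iso.refl Y) (asIso θ).symm ?_ ?_ ?_)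
  · exact (Category.comp_id f).trans (Category.id_comp f).symm
  · show g ≫ inv θ = 𝟙 Y ≫ g'
    rw [← hθ₁, Category.assoc, IsIso.hom_inv_id, Category.comp_id, Category.id_comp]
  · show h ≫ (shiftFunctor D (1 : ℤ)).map (𝟙 X) = inv θ ≫ h'
    rw [← hθ₂, IsIso.inv_hom_id_assoc, CategoryTheory.Functor.map_id, Category.comp_id]

theorem biprod_triangle_distinguished_iff (T T' : Triangle D) :
    Triangle.mk (biprod.map T.mor₁ T'.mor₁) (biprod.map T.mor₂ T'.mor₂)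
        (biprod.desc (T.mor₃ ≫ (shiftFunctor D (1 : ℤ)).map biprod.inl)
          (T'.mor₃ ≫ (shiftFunctor D (1 : ℤ)).map biprod.inr)) ∈ distTriang D ↔
      (T ∈ distTriang D ∧ T' ∈ distTriang D) := by
  set f := biprod.map T.mor₁ T'.mor₁ with hf
  set g := biprod.map T.mor₂ T'.mor₂ with hg
  set h := biprod.desc (T.mor₃ ≫ (shiftFunctor D (1 : ℤ)).map biprod.inl)
          (T'.mor₃ ≫ (shiftFunctor D (1 : ℤ)).map biprod.inr) with hh
  have hfst : h ≫ (shiftFunctor D (1 : ℤ)).map biprod.fst = biprod.fst ≫ T.mor₃ := by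
    apply biprod.hom_ext' <;> simp [hh, ← Functor.map_comp]
  have hsnd : h ≫ (shiftFunctor D (1 : ℤ)).map biprod.snd = biprod.snd ≫ T'.mor₃ := by
    apply biprod.hom_ext' <;> simp [hh, ← Functor.map_comp]
  constructor
  · intro hT
    refine ⟨?_, ?_⟩
    · obtain ⟨W, g', h', hS⟩ := distinguished_cocone_triangle T.mor₁
      have k1 : T.mor₁ ≫ biprod.inl = biprod.inl ≫ f := by simp [hf]
      have k2 : f ≫ biprod.fst = biprod.fst ≫ T.mor₁ := by simp [hf]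
      obtain ⟨c, hc₁, hc₂⟩ : ∃ c : W ⟶ T.obj₃ ⊞ T'.obj₃, g' ≫ c = biprod.inl ≫ g ∧
          h' ≫ (shiftFunctor D (1 : ℤ)).map biprod.inl = c ≫ h :=
        complete_distinguished_triangle_morphism _ _ hS hT _ _ k1
      obtain ⟨d, hd₁, hd₂⟩ : ∃ d : T.obj₃ ⊞ T'.obj₃ ⟶ W, g ≫ d = biprod.fst ≫ g' ∧
          h ≫ (shiftFunctor D (1 : ℤ)).map biprod.fst = d ≫ h' :=
        complete_distinguished_triangle_morphism _ _ hT hS _ _ k2
      refine distinguished_of_candidate T.mor₁ T.mor₂ T.mor₃ g' h' hS (c ≫ biprod.fst) ?_ ?_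
        (biprod.inl ≫ d) ?_ ?_ ?_
      · simp [reassoc_of% hc₁, hg]
      · rw [Category.assoc, ← hfst, ← reassoc_of% hc₂, ← Functor.map_comp, biprod.inl_fst,
          CategoryTheory.Functor.map_id, Category.comp_id]
      · have := congrArg (biprod.inl ≫ ·) hd₁
        simpa [hg] using this
      · rw [Category.assoc, ← hd₂]
        simp [hh, ← Functor.map_comp]
      · intro e he
        obtain ⟨b, hb⟩ : ∃ b : T.obj₃ ⟶ T.obj₂ ⊞ T'.obj₂, e ≫ biprod.inl = b ≫ g :=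
          Triangle.coyoneda_exact₃ _ hT (e ≫ biprod.inl : T.obj₃ ⟶ _) (by
          show (e ≫ biprod.inl) ≫ h = 0
          simp [hh, reassoc_of% he])
        refine ⟨b ≫ biprod.fst, ?_⟩
        have := congrArg (· ≫ biprod.fst) hb
        simpa [hg] using this
    · obtain ⟨W, g', h', hS⟩ := distinguished_cocone_triangle T'.mor₁
      have k1 : T'.mor₁ ≫ biprod.inr = biprod.inr ≫ f := by simp [hf]
      have k2 : f ≫ biprod.snd = biprod.snd ≫ T'.mor₁ := by simp [hf]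
      obtain ⟨c, hc₁, hc₂⟩ : ∃ c : W ⟶ T.obj₃ ⊞ T'.obj₃, g' ≫ c = biprod.inr ≫ g ∧
          h' ≫ (shiftFunctor D (1 : ℤ)).map biprod.inr = c ≫ h :=
        complete_distinguished_triangle_morphism _ _ hS hT _ _ k1
      obtain ⟨d, hd₁, hd₂⟩ : ∃ d : T.obj₃ ⊞ T'.obj₃ ⟶ W, g ≫ d = biprod.snd ≫ g' ∧
          h ≫ (shiftFunctor D (1 : ℤ)).map biprod.snd = d ≫ h' :=
        complete_distinguished_triangle_morphism _ _ hT hS _ _ k2
      refine distinguished_of_candidate T'.mor₁ T'.mor₂ T'.mor₃ g' h' hS (c ≫ biprod.snd) ?_ ?_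
        (biprod.inr ≫ d) ?_ ?_ ?_
      · simp [reassoc_of% hc₁, hg]
      · rw [Category.assoc, ← hsnd, ← reassoc_of% hc₂, ← Functor.map_comp, biprod.inr_snd,
          CategoryTheory.Functor.map_id, Category.comp_id]
      · have := congrArg (biprod.inr ≫ ·) hd₁
        simpa [hg] using this
      · rw [Category.assoc, ← hd₂]
        simp [hh, ← Functor.map_comp]
      · intro e he
        obtain ⟨b, hb⟩ : ∃ b : T'.obj₃ ⟶ T.obj₂ ⊞ T'.obj₂, e ≫ biprod.inr = b ≫ g :=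
          Triangle.coyoneda_exact₃ _ hT (e ≫ biprod.inr : T'.obj₃ ⟶ _) (by
          show (e ≫ biprod.inr) ≫ h = 0
          simp [hh, reassoc_of% he])
        refine ⟨b ≫ biprod.snd, ?_⟩
        have := congrArg (· ≫ biprod.snd) hb
        simpa [hg] using this
  · rintro ⟨hT, hT'⟩
    obtain ⟨W, g', h', hS⟩ := distinguished_cocone_triangle f
    have k1 : T.mor₁ ≫ biprod.inl = biprod.inl ≫ f := by simp [hf]
    have k2 : f ≫ biprod.fst = biprod.fst ≫ T.mor₁ := by simp [hf]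
    have k1' : T'.mor₁ ≫ biprod.inr = biprod.inr ≫ f := by simp [hf]
    have k2' : f ≫ biprod.snd = biprod.snd ≫ T'.mor₁ := by simp [hf]
    obtain ⟨c, hc₁, hc₂⟩ : ∃ c : T.obj₃ ⟶ W, T.mor₂ ≫ c = biprod.inl ≫ g' ∧
        T.mor₃ ≫ (shiftFunctor D (1 : ℤ)).map biprod.inl = c ≫ h' :=
      complete_distinguished_triangle_morphism _ _ hT hS _ _ k1
    obtain ⟨c', hc'₁, hc'₂⟩ : ∃ c : T'.obj₃ ⟶ W, T'.mor₂ ≫ c = biprod.inr ≫ g' ∧
        T'.mor₃ ≫ (shiftFunctor D (1 : ℤ)).map biprod.inr = c ≫ h' :=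
      complete_distinguished_triangle_morphism _ _ hT' hS _ _ k1'
    obtain ⟨d, hd₁, hd₂⟩ : ∃ d : W ⟶ T.obj₃, g' ≫ d = biprod.fst ≫ T.mor₂ ∧
        h' ≫ (shiftFunctor D (1 : ℤ)).map biprod.fst = d ≫ T.mor₃ :=
      complete_distinguished_triangle_morphism _ _ hS hT _ _ k2
    obtain ⟨d', hd'₁, hd'₂⟩ : ∃ d : W ⟶ T'.obj₃, g' ≫ d = biprod.snd ≫ T'.mor₂ ∧
        h' ≫ (shiftFunctor D (1 : ℤ)).map biprod.snd = d ≫ T'.mor₃ :=
      complete_distinguished_triangle_morphism _ _ hS hT' _ _ k2'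
    refine distinguished_of_candidate f g h g' h' hS (biprod.lift d d') ?_ ?_
      (biprod.desc c c') ?_ ?_ ?_
    · apply biprod.hom_ext <;> simp [hg, hd₁, hd'₁]
    · rw [hh, biprod.lift_desc, ← reassoc_of% hd₂, ← reassoc_of% hd'₂, ← Functor.map_comp,
        ← Functor.map_comp, ← Preadditive.comp_add, ← Functor.map_add, biprod.total, CategoryTheory.Functor.map_id,
        Category.comp_id]
    · apply biprod.hom_ext' <;> simp [hg, hc₁, hc'₁]
    · apply biprod.hom_ext' <;> simp [hh, hc₂, hc'₂]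
    · intro e he
      obtain ⟨b, hb⟩ := Triangle.coyoneda_exact₃ _ hT (e ≫ biprod.fst) (by
        rw [Category.assoc, ← hfst, reassoc_of% he, zero_comp])
      obtain ⟨b', hb'⟩ := Triangle.coyoneda_exact₃ _ hT' (e ≫ biprod.snd) (by
        rw [Category.assoc, ← hsnd, reassoc_of% he, zero_comp])
      refine ⟨biprod.lift b b', ?_⟩
      apply biprod.hom_ext <;> simp [hg, hb, hb']

theorem exists_idempotent_endo (T : Triangle D) (hT : T ∈ distTriang D)
    (a : T.obj₁ ⟶ T.obj₁) (c : T.obj₃ ⟶ T.obj₃) (ha : a ≫ a = a) (hc : c ≫ c = c)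
    (comm : T.mor₃ ≫ (shiftFunctor D (1 : ℤ)).map a = c ≫ T.mor₃) :
    ∃ b : T.obj₂ ⟶ T.obj₂, b ≫ b = b ∧ T.mor₁ ≫ b = a ≫ T.mor₁ ∧ T.mor₂ ≫ c = b ≫ T.mor₂ := by
  obtain ⟨b, hb₁, hb₂⟩ := complete_distinguished_triangle_morphism₂ _ _ hT hT a c comm
  let δ := b ≫ b - b
  have h1 : T.mor₁ ≫ δ = 0 := by
    simp only [δ, Preadditive.comp_sub]
    rw [← Category.assoc, hb₁, Category.assoc, hb₁, ← Category.assoc, ha, sub_self]
  have h2 : δ ≫ T.mor₂ = 0 := by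
    simp only [δ, Preadditive.sub_comp, Category.assoc]
    rw [← hb₂, ← Category.assoc, ← hb₂, Category.assoc, hc, sub_self]
  obtain ⟨u, hu⟩ := Triangle.yoneda_exact₂ _ hT δ h1
  obtain ⟨v, hv⟩ := Triangle.coyoneda_exact₂ _ hT δ h2
  have hδ : δ ≫ δ = 0 := by
    calc δ ≫ δ = (v ≫ T.mor₁) ≫ (T.mor₂ ≫ u) := by rw [← hu, ← hv]
      _ = v ≫ (T.mor₁ ≫ T.mor₂) ≫ u := by simp only [Category.assoc]
      _ = 0 := by rw [comp_distTriang_mor_zero₁₂ _ hT, zero_comp, comp_zero]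
  have hcomm : δ ≫ b = b ≫ δ := by
    simp only [δ, Preadditive.sub_comp, Preadditive.comp_sub, Category.assoc]
  refine ⟨b + δ - (b ≫ δ + b ≫ δ), ?_, ?_, ?_⟩
  · have hbb : b ≫ b = b + δ := (add_sub_cancel b (b ≫ b)).symm
    have hbδ : (b ≫ δ) ≫ δ = 0 := by rw [Category.assoc, hδ, comp_zero]
    have hδb : δ ≫ (b ≫ δ) = 0 := by rw [← Category.assoc, hcomm, hbδ]
    have h3 : b ≫ (b ≫ δ) = b ≫ δ := by
      rw [← Category.assoc, hbb, Preadditive.add_comp, hδ, add_zero]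
    have h4 : (b ≫ δ) ≫ b = b ≫ δ := by rw [Category.assoc, hcomm, h3]
    have h5 : (b ≫ δ) ≫ (b ≫ δ) = 0 := by rw [Category.assoc, hδb, comp_zero]
    simp only [Preadditive.sub_comp, Preadditive.comp_sub, Preadditive.add_comp,
      Preadditive.comp_add, hbb, hδ, hbδ, hδb, h3, h4, h5, hcomm]
    abel
  · have h6 : T.mor₁ ≫ b ≫ δ = 0 := by rw [← Category.assoc, hb₁, Category.assoc, h1, comp_zero]
    simp [h1, h6, hb₁]
  · simp [h2, hb₂]

lemma isSplitMono_of_mono {X Y : D} (f : X ⟶ Y) [Mono f] :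
    ∃ (Z : D) (e : Y ≅ X ⊞ Z), f ≫ e.hom = biprod.inl := by
  obtain ⟨Z, g, h, hT⟩ := distinguished_cocone_triangle f
  obtain ⟨e, he, -⟩ := exists_iso_binaryBiproduct_of_distTriang _ hT
    ((Triangle.mor₃_eq_zero_iff_mono₁ _ hT).2 ‹_›)
  exact ⟨Z, e, he⟩

theorem hasKernel_iff_split_form {X Y : D} (f : X ⟶ Y) :
    HasKernel f ↔ ∃ (K Z Q : D) (e₁ : X ≅ K ⊞ Z) (e₂ : Y ≅ Z ⊞ Q),
      f = e₁.hom ≫ biprod.snd ≫ biprod.inl ≫ e₂.inv := by
  constructor
  · intro _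
    obtain ⟨Z, e₁, he₁⟩ := isSplitMono_of_mono (kernel.ι f)
    let f' : Z ⟶ Y := biprod.inr ≫ e₁.inv ≫ f
    have hinl : biprod.inl ≫ e₁.inv = kernel.ι f := by rw [Iso.comp_inv_eq, he₁]
    have hf : f = e₁.hom ≫ biprod.snd ≫ f' := by
      rw [← Iso.inv_comp_eq]
      apply biprod.hom_ext' <;> simp [f', reassoc_of% hinl]
    haveI : Mono f' := Preadditive.mono_of_cancel_zero _ fun u hu => by
      obtain ⟨w, hw⟩ := kernel.lift' f (u ≫ biprod.inr ≫ e₁.inv) (by simpa [f'] using hu)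
      have := congrArg (fun x => x ≫ e₁.hom ≫ biprod.snd) hw
      simpa [reassoc_of% he₁] using this.symm
    obtain ⟨Q, e₂, he₂⟩ := isSplitMono_of_mono f'
    refine ⟨_, Z, Q, e₁, e₂, ?_⟩
    rw [show biprod.inl ≫ e₂.inv = f' by rw [Iso.comp_inv_eq, he₂]]
    exact hf
  · rintro ⟨K, Z, Q, e₁, e₂, rfl⟩
    haveI : HasKernel (biprod.snd : K ⊞ Z ⟶ Z) := inferInstance
    infer_instance

end Groth.Agent.TriH
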