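import Mathlib.CategoryTheory.Triangulated.Pretriangulated
import Mathlib.CategoryTheory.Limits.Preserves.Shapes.Products

/-! # Coproducts of distinguished triangles -/

set_option linter.unusedSectionVars false

namespace Groth.Agent.TriH

open CategoryTheory CategoryTheory.Limits CategoryTheory.Pretriangulated

universe w v u

variable {D : Type u} [Category.{v} D] [Preadditive D] [HasZeroObject D] [HasShift D ℤ]
  [∀ n : ℤ, (shiftFunctor D n).Additive] [Pretriangulated D]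

/-- The shifted coproduct is a coproduct of the shifts. -/
noncomputable def shiftCofanIsColimit {J : Type w} (X : J → D) [HasCoproduct X] (n : ℤ) :
    IsColimit (Cofan.mk ((shiftFunctor D n).obj (∐ X))
      (fun j => (shiftFunctor D n).map (Sigma.ι X j)) : Cofan fun j => (shiftFunctor D n).obj (X j)) :=
  isColimitOfHasCoproductOfPreservesColimit (shiftFunctor D n) X

theorem shiftCoprod_hom_ext {J : Type w} (X : J → D) [HasCoproduct X] (n : ℤ) {A : D}
    (f g : (shiftFunctor D n).obj (∐ X) ⟶ A)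
    (h : ∀ j, (shiftFunctor D n).map (Sigma.ι X j) ≫ f = (shiftFunctor D n).map (Sigma.ι X j) ≫ g) :
    f = g :=
  Cofan.IsColimit.hom_ext (shiftCofanIsColimit X n) f g h

theorem shiftCoprod_exists_desc {J : Type w} (X : J → D) [HasCoproduct X] (n : ℤ) {A : D}
    (f : ∀ j, (shiftFunctor D n).obj (X j) ⟶ A) :
    ∃ g : (shiftFunctor D n).obj (∐ X) ⟶ A, ∀ j, (shiftFunctor D n).map (Sigma.ι X j) ≫ g = f j :=
  ⟨Cofan.IsColimit.desc (shiftCofanIsColimit X n) f,
    fun j => Cofan.IsColimit.fac (shiftCofanIsColimit X n) f j⟩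

theorem exact_shift₁ (T : Triangle D) (hT : T ∈ distTriang D) {A : D}
    (f : (shiftFunctor D (1 : ℤ)).obj T.obj₁ ⟶ A) (hf : T.mor₃ ≫ f = 0) :
    ∃ b : (shiftFunctor D (1 : ℤ)).obj T.obj₂ ⟶ A, f = (shiftFunctor D (1 : ℤ)).map T.mor₁ ≫ b := by
  obtain ⟨b, hb⟩ := T.rotate.yoneda_exact₃ (rot_of_distTriang _ hT) f hf
  exact ⟨-b, hb.trans ((Preadditive.neg_comp _ _).trans (Preadditive.comp_neg _ _).symm)⟩

theorem coproduct_distinguished {J : Type w} (T : J → Triangle D)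
    (hT : ∀ j, T j ∈ distTriang D)
    [HasCoproduct (fun j => (T j).obj₁)] [HasCoproduct (fun j => (T j).obj₂)]
    [HasCoproduct (fun j => (T j).obj₃)] :
    Triangle.mk (Limits.Sigma.map (fun j => (T j).mor₁)) (Limits.Sigma.map (fun j => (T j).mor₂))
      (Sigma.desc (fun j => (T j).mor₃ ≫
        (shiftFunctor D (1 : ℤ)).map (Sigma.ι (fun j => (T j).obj₁) j))) ∈ distTriang D := by
  set f₁ := Limits.Sigma.map (fun j => (T j).mor₁)
  obtain ⟨Z, f₂, f₃, hT'⟩ := distinguished_cocone_triangle f₁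
  let φ : ∀ j, T j ⟶ Triangle.mk f₁ f₂ f₃ := fun j =>
    completeDistinguishedTriangleMorphism _ _ (hT j) hT'
      (Sigma.ι (fun j => (T j).obj₁) j) (Sigma.ι (fun j => (T j).obj₂) j)
      (by exact (Limits.Sigma.ι_map (fun j => (T j).mor₁) j).symm)
  let z : ∀ j, (T j).obj₃ ⟶ Z := fun j => (φ j).hom₃
  have hz₂ : ∀ j, (T j).mor₂ ≫ z j = Sigma.ι (fun j => (T j).obj₂) j ≫ f₂ := fun j => (φ j).comm₂
  have hz₃ : ∀ j, z j ≫ f₃ = (T j).mor₃ ≫
      (shiftFunctor D (1 : ℤ)).map (Sigma.ι (fun j => (T j).obj₁) j) := fun j => (φ j).comm₃.symm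
  let θ : (∐ fun j => (T j).obj₃) ⟶ Z := Sigma.desc z
  have : IsIso θ := by
    refine isIso_of_coyoneda_map_bijective _ (fun A => ⟨?_, ?_⟩)
    · suffices ∀ a : Z ⟶ A, θ ≫ a = 0 → a = 0 by
        intro a₁ a₂ ha
        exact sub_eq_zero.1 (this _ (by rw [Preadditive.comp_sub]; exact sub_eq_zero.2 ha))
      intro a ha
      have hza : ∀ j, z j ≫ a = 0 := fun j => by
        simpa [θ] using Sigma.ι (fun j => (T j).obj₃) j ≫= ha
      have h2 : f₂ ≫ a = 0 := Sigma.hom_ext _ _ (fun j => by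
        rw [← Category.assoc, ← hz₂, Category.assoc, hza, comp_zero, comp_zero])
      obtain ⟨g, hg⟩ : ∃ g : (shiftFunctor D (1 : ℤ)).obj (∐ fun j => (T j).obj₁) ⟶ A, a = f₃ ≫ g :=
        Triangle.yoneda_exact₃ _ hT' a h2
      have hgj : ∀ j, (T j).mor₃ ≫
          (shiftFunctor D (1 : ℤ)).map (Sigma.ι (fun j => (T j).obj₁) j) ≫ g = 0 := fun j => by
        rw [← Category.assoc, ← hz₃, Category.assoc, ← hg, hza]
      choose b hb using fun j => exact_shift₁ (T j) (hT j) _ (hgj j)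
      obtain ⟨b', hb'⟩ := shiftCoprod_exists_desc (fun j => (T j).obj₂) 1 b
      have : g = (shiftFunctor D (1 : ℤ)).map f₁ ≫ b' := by
        refine shiftCoprod_hom_ext (fun j => (T j).obj₁) 1 _ _ (fun j => ?_)
        rw [hb, ← Category.assoc, ← Functor.map_comp]
        simp [f₁, hb']
      rw [hg, this, ← Category.assoc]
      have h31 : f₃ ≫ (shiftFunctor D (1 : ℤ)).map f₁ = 0 := comp_distTriang_mor_zero₃₁ _ hT'
      rw [h31, zero_comp]
    · intro a
      have hc : f₁ ≫ Sigma.desc (fun j => (T j).mor₂ ≫ Sigma.ι (fun j => (T j).obj₃) j ≫ a) = 0 :=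
        Sigma.hom_ext _ _ (fun j => by
          simp [f₁, comp_distTriang_mor_zero₁₂_assoc _ (hT j)])
      obtain ⟨a', ha'⟩ : ∃ a' : Z ⟶ A,
          Sigma.desc (fun j => (T j).mor₂ ≫ Sigma.ι (fun j => (T j).obj₃) j ≫ a) = f₂ ≫ a' :=
        Triangle.yoneda_exact₂ _ hT' _ hc
      have hd : ∀ j, (T j).mor₂ ≫ (Sigma.ι (fun j => (T j).obj₃) j ≫ a - z j ≫ a') = 0 := fun j => by
        rw [Preadditive.comp_sub, sub_eq_zero, ← Category.assoc (T j).mor₂ (z j), hz₂,
          Category.assoc, ← ha']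
        simp
      choose e he using fun j => (T j).yoneda_exact₃ (hT j) _ (hd j)
      obtain ⟨e', he'⟩ := shiftCoprod_exists_desc (fun j => (T j).obj₁) 1 e
      refine ⟨a' + f₃ ≫ e', Sigma.hom_ext _ _ (fun j => ?_)⟩
      simp only [θ, Preadditive.comp_add, Sigma.ι_desc_assoc]
      rw [← Category.assoc (z j) f₃, hz₃, Category.assoc, he', ← he]
      abel
  refine isomorphic_distinguished _ hT' _ (Triangle.isoMk _ _ (Iso.refl _) (Iso.refl _)
    (@asIso _ _ _ _ θ this) ((Category.comp_id _).trans (Category.id_comp _).symm) ?_ ?_)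
  · change Limits.Sigma.map (fun j => (T j).mor₂) ≫ θ = 𝟙 _ ≫ f₂
    refine Sigma.hom_ext _ _ (fun j => ?_)
    simp [θ, hz₂]
  · change Sigma.desc (fun j => (T j).mor₃ ≫
        (shiftFunctor D (1 : ℤ)).map (Sigma.ι (fun j => (T j).obj₁) j)) ≫
        (shiftFunctor D (1 : ℤ)).map (𝟙 _) = θ ≫ f₃
    refine Sigma.hom_ext _ _ (fun j => ?_)
    simp [θ, hz₃]

end Groth.Agent.TriH
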