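import Mathlib.Algebra.Homology.HomotopyCategory.Pretriangulated
import Mathlib.Algebra.Homology.HomotopyCategory.MappingCocone
import Mathlib.Algebra.Homology.Embedding.CochainComplex

/-!
# Factorizations by termwise split maps; composition of maps killed at both ends
-/

set_option autoImplicit false
set_option linter.unusedSectionVars false

namespace Groth.Agent.TriH.SplitFactor

open CategoryTheory CategoryTheory.Limits CochainComplex CochainComplex.HomComplex

universe v u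

variable {V : Type u} [Category.{v} V] [Preadditive V] [HasBinaryBiproducts V]

local notation "q" => HomotopyCategory.quotient V (ComplexShape.up ℤ)

theorem comp_nullhomotopic
    (S : ShortComplex (CochainComplex V ℤ))
    (σ : ∀ n : ℤ, (S.map (HomologicalComplex.eval V (ComplexShape.up ℤ) n)).Splitting)
    {B₁ B₃ : CochainComplex V ℤ} (b : B₁ ⟶ S.X₂) (b' : S.X₂ ⟶ B₃)
    (hb : Homotopy (b ≫ S.g) 0) (hb' : Homotopy (S.f ≫ b') 0) :
    Nonempty (Homotopy (b ≫ b') 0) := by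
  let r : ∀ n, S.X₂.X n ⟶ S.X₁.X n := fun n => (σ n).r
  let t : ∀ n, S.X₃.X n ⟶ S.X₂.X n := fun n => (σ n).s
  let H : ∀ i j : ℤ, B₁.X i ⟶ S.X₂.X j := fun i j => hb.hom i j ≫ t j
  have hs : ∀ j, t j ≫ S.g.f j = 𝟙 _ := fun j => (σ j).s_g
  have hid : ∀ n, r n ≫ S.f.f n + S.g.f n ≫ t n = 𝟙 _ := fun n => (σ n).id
  have hH : ∀ i j, H i j ≫ S.g.f j = hb.hom i j := fun i j => by
    simp only [H, Category.assoc, hs, Category.comp_id]
  have hz : ∀ i j : ℤ, ¬ (ComplexShape.up ℤ).Rel j i → H i j = 0 := fun i j h => by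
    simp only [H, hb.zero i j h, zero_comp]
  let b₁ : B₁ ⟶ S.X₂ := b - Homotopy.nullHomotopicMap H
  have h₁ : b₁ ≫ S.g = 0 := by
    simp only [b₁, Preadditive.sub_comp, Homotopy.nullHomotopicMap_comp]
    ext n
    have := hb.comm n
    simp only [hH, HomologicalComplex.sub_f_apply, Homotopy.nullHomotopicMap,
      HomologicalComplex.comp_f, HomologicalComplex.zero_f, add_zero] at this ⊢
    rw [this, sub_self]
  have hfr : ∀ n, (b₁.f n ≫ r n) ≫ S.f.f n = b₁.f n := by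
    intro n
    have h0 : b₁.f n ≫ S.g.f n = 0 := by rw [← HomologicalComplex.comp_f, h₁]; rfl
    have h' : b₁.f n ≫ (r n ≫ S.f.f n + S.g.f n ≫ t n) = b₁.f n := by rw [hid, Category.comp_id]
    simpa [Preadditive.comp_add, reassoc_of% h0] using h'
  haveI : ∀ n, Mono (S.f.f n) := fun n =>
    haveI := IsSplitMono.mk' (f := S.f.f n) ⟨r n, (σ n).f_r⟩
    inferInstance
  let x : B₁ ⟶ S.X₁ :=
    { f := fun n => b₁.f n ≫ r n
      comm' := fun i j _ => by
        rw [← cancel_mono (S.f.f j), Category.assoc (B₁.d i j), hfr, Category.assoc,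
          ← S.f.comm, ← Category.assoc, hfr, b₁.comm] }
  have hx : x ≫ S.f = b₁ := by ext n; exact hfr n
  refine ⟨HomotopyCategory.homotopyOfEq _ _ ?_⟩
  have e0 : (q).map (Homotopy.nullHomotopicMap H) = 0 :=
    (HomotopyCategory.eq_of_homotopy _ _ (Homotopy.nullHomotopy H hz)).trans ((q).map_zero _ _)
  have e1 : (q).map b = (q).map x ≫ (q).map S.f := by
    rw [← Functor.map_comp, hx]
    simp only [b₁, Functor.map_sub, e0, sub_zero]
  have e2 : (q).map S.f ≫ (q).map b' = 0 := by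
    rw [← Functor.map_comp]
    exact (HomotopyCategory.eq_of_homotopy _ _ hb').trans ((q).map_zero _ _)
  rw [Functor.map_comp, e1, Category.assoc, e2, comp_zero, Functor.map_zero]

variable [HasZeroObject V]

lemma homotopy_of_contractible {P M : CochainComplex V ℤ} (hP : (q).map (𝟙 P) = 0)
    (p : M ⟶ P) (j : P ⟶ M) (r : M ⟶ M) (h : p ≫ j + r = 𝟙 M) :
    Nonempty (Homotopy r (𝟙 M)) := by
  refine ⟨HomotopyCategory.homotopyOfEq _ _ ?_⟩
  have : (q).map (p ≫ j) = 0 := by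
    rw [← Category.id_comp j, Functor.map_comp, Functor.map_comp, hP, zero_comp, comp_zero]
  rw [← h, Functor.map_add, this, zero_add]

lemma map_id_cone (K : CochainComplex V ℤ) : (q).map (𝟙 (mappingCone (𝟙 K))) = 0 :=
  (HomotopyCategory.eq_of_homotopy _ _ (mappingCone.homotopyToZeroOfId K)).trans ((q).map_zero _ _)

lemma map_id_cocone (K : CochainComplex V ℤ) : (q).map (𝟙 (mappingCocone (𝟙 K))) = 0 := by
  have h : IsZero ((q).obj (mappingCone (𝟙 K))) := by
    rw [IsZero.iff_id_eq_zero, ← CategoryTheory.Functor.map_id]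
    exact map_id_cone K
  have h' : IsZero ((q).obj (mappingCocone (𝟙 K))) :=
    ((CategoryTheory.shiftFunctor _ (-1 : ℤ)).map_isZero h).of_iso ((q).commShiftIso (-1 : ℤ) |>.app _)
  exact h'.eq_of_src _ _

lemma isZero_cone_X (K : CochainComplex V ℤ) (i : ℤ) (h1 : IsZero (K.X (i + 1)))
    (h2 : IsZero (K.X i)) : IsZero ((mappingCone (𝟙 K)).X i) := by
  rw [IsZero.iff_id_eq_zero, ← mappingCone.id_X (𝟙 K) i (i + 1) rfl,
    h1.eq_of_tgt ((mappingCone.fst (𝟙 K)).1.v i (i + 1) rfl) 0,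
    h2.eq_of_tgt ((mappingCone.snd (𝟙 K)).v i i (add_zero i)) 0, zero_comp, zero_comp, add_zero]

lemma isZero_cocone_X (K : CochainComplex V ℤ) (i : ℤ) (h1 : IsZero (K.X i))
    (h2 : IsZero (K.X (i - 1))) : IsZero ((mappingCocone (𝟙 K)).X i) := by
  rw [IsZero.iff_id_eq_zero, ← mappingCocone.id_X (𝟙 K) i (i - 1) (by omega),
    h1.eq_of_tgt ((mappingCocone.fst (𝟙 K)).f i) 0,
    h2.eq_of_tgt ((mappingCocone.snd (𝟙 K)).v i (i - 1) (by omega)) 0, zero_comp, zero_comp,
    add_zero]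

lemma isZero_biprod_X (P Q : CochainComplex V ℤ) (i : ℤ) (h1 : IsZero (P.X i))
    (h2 : IsZero (Q.X i)) : IsZero ((P ⊞ Q).X i) := by
  rw [IsZero.iff_id_eq_zero, ← HomologicalComplex.id_f, ← biprod.total,
    HomologicalComplex.add_f_apply, HomologicalComplex.comp_f, HomologicalComplex.comp_f,
    h1.eq_of_tgt ((biprod.fst : P ⊞ Q ⟶ P).f i) 0, h2.eq_of_tgt ((biprod.snd : P ⊞ Q ⟶ Q).f i) 0,
    zero_comp, zero_comp, add_zero]

theorem exists_split_inj_factorization (K L : CochainComplex V ℤ) (α : K ⟶ L) :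
    ∃ (L' : CochainComplex V ℤ) (α' : K ⟶ L') (π : L' ⟶ L) (s : L ⟶ L'),
      α' ≫ π = α ∧ s ≫ π = 𝟙 L ∧ Nonempty (Homotopy (π ≫ s) (𝟙 L')) ∧
      (∀ n : ℤ, ∃ (C : V) (e : L'.X n ≅ K.X n ⊞ C), α'.f n ≫ e.hom = biprod.inl) ∧
      (∀ a : ℤ, K.IsStrictlyGE a → L.IsStrictlyGE a → ∃ a' : ℤ, L'.IsStrictlyGE a') ∧
      (∀ a : ℤ, K.IsStrictlyLE a → L.IsStrictlyLE a → ∃ a' : ℤ, L'.IsStrictlyLE a') := by
  let P := mappingCone (𝟙 K)
  let α' : K ⟶ P ⊞ L := biprod.lift (mappingCone.inr (𝟙 K)) α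
  refine ⟨P ⊞ L, α', biprod.snd, biprod.inr, biprod.lift_snd _ _, biprod.inr_snd,
    homotopy_of_contractible (map_id_cone K) biprod.fst biprod.inl _ biprod.total,
    fun n => ?_, fun a _ _ => ?_, fun a _ _ => ?_⟩
  · let p₁ := (biprod.fst : P ⊞ L ⟶ P).f n
    let p₂ := (biprod.snd : P ⊞ L ⟶ L).f n
    let j₁ := (biprod.inl : P ⟶ P ⊞ L).f n
    let j₂ := (biprod.inr : L ⟶ P ⊞ L).f n
    have r11 : j₁ ≫ p₁ = 𝟙 _ := by
      simp only [j₁, p₁, ← HomologicalComplex.comp_f, biprod.inl_fst, HomologicalComplex.id_f]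
    have r12 : j₁ ≫ p₂ = 0 := by
      simp only [j₁, p₂, ← HomologicalComplex.comp_f, biprod.inl_snd, HomologicalComplex.zero_f]
    have r21 : j₂ ≫ p₁ = 0 := by
      simp only [j₂, p₁, ← HomologicalComplex.comp_f, biprod.inr_fst, HomologicalComplex.zero_f]
    have r22 : j₂ ≫ p₂ = 𝟙 _ := by
      simp only [j₂, p₂, ← HomologicalComplex.comp_f, biprod.inr_snd, HomologicalComplex.id_f]
    have tot : p₁ ≫ j₁ + p₂ ≫ j₂ = 𝟙 _ := by
      simp only [p₁, p₂, j₁, j₂, ← HomologicalComplex.comp_f, ← HomologicalComplex.add_f_apply,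
        biprod.total, HomologicalComplex.id_f]
    have hα : α'.f n = (mappingCone.inr (𝟙 K)).f n ≫ j₁ + α.f n ≫ j₂ := by
      simp only [α', j₁, j₂, ← HomologicalComplex.comp_f, ← HomologicalComplex.add_f_apply,
        biprod.lift_eq]
    let a := p₁ ≫ (mappingCone.snd (𝟙 K)).v n n (add_zero n)
    let fwd : (P ⊞ L).X n ⟶ K.X n ⊞ (K.X (n + 1) ⊞ L.X n) :=
      biprod.lift a (biprod.lift (p₁ ≫ (mappingCone.fst (𝟙 K)).1.v n (n + 1) rfl) (p₂ - a ≫ α.f n))
    refine ⟨K.X (n + 1) ⊞ L.X n, ⟨fwd, biprod.desc (α'.f n)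
      (biprod.desc ((mappingCone.inl (𝟙 K)).v (n + 1) n (by omega) ≫ j₁) j₂), ?_, ?_⟩, ?_⟩
    · simp only [fwd, a, hα, biprod.lift_desc, Preadditive.sub_comp, Preadditive.comp_add,
        Category.assoc]
      have hid := mappingCone.id_X (𝟙 K) n (n + 1) rfl
      have : p₁ ≫ ((mappingCone.fst (𝟙 K)).1.v n (n + 1) rfl ≫
          (mappingCone.inl (𝟙 K)).v (n + 1) n (by omega) + (mappingCone.snd (𝟙 K)).v n n (add_zero n) ≫
          (mappingCone.inr (𝟙 K)).f n) ≫ j₁ = p₁ ≫ j₁ := by rw [hid]; exact congrArg (p₁ ≫ ·) (Category.id_comp j₁)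
      simp only [Preadditive.add_comp, Preadditive.comp_add, Category.assoc] at this
      rw [← tot, ← this]
      abel
    · apply biprod.hom_ext'
      · apply biprod.hom_ext <;> [skip; apply biprod.hom_ext] <;>
          simp [fwd, a, hα, reassoc_of% r11, reassoc_of% r12, reassoc_of% r21, reassoc_of% r22, r12, r22]
      · apply biprod.hom_ext' <;> (apply biprod.hom_ext <;> [skip; apply biprod.hom_ext]) <;>
          simp [fwd, a, reassoc_of% r11, reassoc_of% r12, reassoc_of% r21, reassoc_of% r22, r12, r22]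
    · apply biprod.hom_ext <;> [skip; apply biprod.hom_ext] <;>
        simp [fwd, a, hα, reassoc_of% r11, reassoc_of% r12, reassoc_of% r21, reassoc_of% r22, r12, r22]
  · refine ⟨a - 1, (CochainComplex.isStrictlyGE_iff _ _).2 fun i hi => isZero_biprod_X _ _ i ?_ ?_⟩
    · exact isZero_cone_X K i (K.isZero_of_isStrictlyGE a (i + 1) (by omega))
        (K.isZero_of_isStrictlyGE a i (by omega))
    · exact L.isZero_of_isStrictlyGE a i (by omega)
  · refine ⟨a, (CochainComplex.isStrictlyLE_iff _ _).2 fun i hi => isZero_biprod_X _ _ i ?_ ?_⟩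
    · exact isZero_cone_X K i (K.isZero_of_isStrictlyLE a (i + 1) (by omega))
        (K.isZero_of_isStrictlyLE a i (by omega))
    · exact L.isZero_of_isStrictlyLE a i (by omega)

theorem exists_split_surj_factorization (K L : CochainComplex V ℤ) (α : K ⟶ L) :
    ∃ (K' : CochainComplex V ℤ) (i : K ⟶ K') (α' : K' ⟶ L) (s : K' ⟶ K),
      i ≫ α' = α ∧ i ≫ s = 𝟙 K ∧ Nonempty (Homotopy (s ≫ i) (𝟙 K')) ∧
      (∀ n : ℤ, ∃ (C : V) (e : K'.X n ≅ C ⊞ L.X n), e.inv ≫ α'.f n = biprod.snd) ∧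
      (∀ a : ℤ, K.IsStrictlyGE a → L.IsStrictlyGE a → ∃ a' : ℤ, K'.IsStrictlyGE a') ∧
      (∀ a : ℤ, K.IsStrictlyLE a → L.IsStrictlyLE a → ∃ a' : ℤ, K'.IsStrictlyLE a') := by
  let P := mappingCocone (𝟙 L)
  let α' : K ⊞ P ⟶ L := biprod.desc α (mappingCocone.fst (𝟙 L))
  refine ⟨K ⊞ P, biprod.inl, α', biprod.fst, biprod.inl_desc _ _, biprod.inl_fst,
    homotopy_of_contractible (map_id_cocone L) biprod.snd biprod.inr _
      ((add_comm _ _).trans biprod.total),
    fun n => ?_, fun a _ _ => ?_, fun a _ _ => ?_⟩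
  · let p₁ := (biprod.fst : K ⊞ P ⟶ K).f n
    let p₂ := (biprod.snd : K ⊞ P ⟶ P).f n
    let j₁ := (biprod.inl : K ⟶ K ⊞ P).f n
    let j₂ := (biprod.inr : P ⟶ K ⊞ P).f n
    have r11 : j₁ ≫ p₁ = 𝟙 _ := by
      simp only [j₁, p₁, ← HomologicalComplex.comp_f, biprod.inl_fst, HomologicalComplex.id_f]
    have r12 : j₁ ≫ p₂ = 0 := by
      simp only [j₁, p₂, ← HomologicalComplex.comp_f, biprod.inl_snd, HomologicalComplex.zero_f]
    have r21 : j₂ ≫ p₁ = 0 := by
      simp only [j₂, p₁, ← HomologicalComplex.comp_f, biprod.inr_fst, HomologicalComplex.zero_f]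
    have r22 : j₂ ≫ p₂ = 𝟙 _ := by
      simp only [j₂, p₂, ← HomologicalComplex.comp_f, biprod.inr_snd, HomologicalComplex.id_f]
    have tot : p₁ ≫ j₁ + p₂ ≫ j₂ = 𝟙 _ := by
      simp only [p₁, p₂, j₁, j₂, ← HomologicalComplex.comp_f, ← HomologicalComplex.add_f_apply,
        biprod.total, HomologicalComplex.id_f]
    have hα : α'.f n = p₁ ≫ α.f n + p₂ ≫ (mappingCocone.fst (𝟙 L)).f n := by
      simp only [α', p₁, p₂, ← HomologicalComplex.comp_f, ← HomologicalComplex.add_f_apply,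
        biprod.desc_eq]
    let l := (mappingCocone.inl (𝟙 L)).v n n (add_zero n)
    let bwd : (K.X n ⊞ L.X (n - 1)) ⊞ L.X n ⟶ (K ⊞ P).X n :=
      biprod.desc (biprod.desc (j₁ - α.f n ≫ l ≫ j₂)
        ((mappingCocone.inr (𝟙 L)).1.v (n - 1) n (by omega) ≫ j₂)) (l ≫ j₂)
    refine ⟨K.X n ⊞ L.X (n - 1), ⟨biprod.lift (biprod.lift p₁
      (p₂ ≫ (mappingCocone.snd (𝟙 L)).v n (n - 1) (by omega))) (α'.f n), bwd, ?_, ?_⟩, ?_⟩
    · simp only [bwd, l, hα, biprod.lift_desc, Preadditive.comp_sub, Preadditive.add_comp,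
        Category.assoc]
      have hid := mappingCocone.id_X (𝟙 L) n (n - 1) (by omega)
      have : p₂ ≫ ((mappingCocone.fst (𝟙 L)).f n ≫ (mappingCocone.inl (𝟙 L)).v n n (add_zero n) +
          (mappingCocone.snd (𝟙 L)).v n (n - 1) (by omega) ≫
          (mappingCocone.inr (𝟙 L)).1.v (n - 1) n (by omega)) ≫ j₂ = p₂ ≫ j₂ := by
        rw [hid]; exact congrArg (p₂ ≫ ·) (Category.id_comp j₂)
      simp only [Preadditive.add_comp, Preadditive.comp_add, Category.assoc] at this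
      rw [← tot, ← this]
      abel
    · apply biprod.hom_ext'
      · apply biprod.hom_ext' <;> (apply biprod.hom_ext <;> [apply biprod.hom_ext; skip]) <;>
          simp [bwd, l, hα, reassoc_of% r11, reassoc_of% r12, reassoc_of% r21, reassoc_of% r22, r11, r21]
      · apply biprod.hom_ext <;> [apply biprod.hom_ext; skip] <;>
          simp [bwd, l, hα, reassoc_of% r11, reassoc_of% r12, reassoc_of% r21, reassoc_of% r22, r11, r21]
    · apply biprod.hom_ext' <;> [apply biprod.hom_ext'; skip] <;>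
        simp [bwd, l, hα, reassoc_of% r11, reassoc_of% r12, reassoc_of% r21, reassoc_of% r22, r11, r21]
  · refine ⟨a, (CochainComplex.isStrictlyGE_iff _ _).2 fun i hi => isZero_biprod_X _ _ i ?_ ?_⟩
    · exact K.isZero_of_isStrictlyGE a i (by omega)
    · exact isZero_cocone_X L i (L.isZero_of_isStrictlyGE a i (by omega))
        (L.isZero_of_isStrictlyGE a (i - 1) (by omega))
  · refine ⟨a + 1, (CochainComplex.isStrictlyLE_iff _ _).2 fun i hi => isZero_biprod_X _ _ i ?_ ?_⟩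
    · exact K.isZero_of_isStrictlyLE a i (by omega)
    · exact isZero_cocone_X L i (L.isZero_of_isStrictlyLE a i (by omega))
        (L.isZero_of_isStrictlyLE a (i - 1) (by omega))

end Groth.Agent.TriH.SplitFactor
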