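import Mathlib.Algebra.Homology.DerivedCategory.KProjective
import Mathlib.Algebra.Homology.DerivedCategory.TStructure
import Mathlib.Algebra.Homology.DerivedCategory.HomologySequence

/-!
# Lifting maps from bounded complexes of projectives
-/

set_option autoImplicit false
set_option linter.style.haveILetI false

open CategoryTheory CategoryTheory.Limits CategoryTheory.Pretriangulated DerivedCategory

namespace Groth.Agent.TriH.ProjLift

universe v u

variable {A : Type u} [Category.{v} A] [Abelian A]

attribute [local instance] HasDerivedCategory.standard in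
theorem exists_lift (P E L : CochainComplex A ℤ) (β : P ⟶ L) (α : E ⟶ L) (n b : ℤ)
    [P.IsStrictlyGE n] [P.IsStrictlyLE b] (hP : ∀ i : ℤ, Projective (P.X i))
    (hiso : ∀ i : ℤ, n < i → IsIso (HomologicalComplex.homologyMap α i))
    (hepi : Epi (HomologicalComplex.homologyMap α n)) :
    ∃ γ : P ⟶ E, Nonempty (Homotopy (γ ≫ α) β) := by
  haveI := hP
  haveI := CochainComplex.isKProjective_of_projective P b
  let q := HomotopyCategory.quotient A (ComplexShape.up ℤ)
  let C := CochainComplex.mappingCone α
  have hT : (CochainComplex.mappingCone.triangleh α) ∈ distTriang _ :=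
    HomotopyCategory.mappingCone_triangleh_distinguished α
  have hT' := (Qh (C := A)).map_distinguished _ hT
  have hQ : ∀ i, n ≤ i → Epi ((homologyFunctor A i).map (Q.map α)) := fun i hi => by
    change Epi ((Q ⋙ homologyFunctor A i).map α)
    rw [← NatIso.naturality_2 (homologyFunctorFactors A i) α]
    haveI : Epi ((HomologicalComplex.homologyFunctor A (ComplexShape.up ℤ) i).map α) := by
      rcases eq_or_lt_of_le hi with rfl | hi'
      · exact hepi
      · haveI := hiso i hi'
        exact inferInstanceAs (Epi (HomologicalComplex.homologyMap α i))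
    infer_instance
  have hQ' : ∀ i, n < i → Mono ((homologyFunctor A i).map (Q.map α)) := fun i hi => by
    change Mono ((Q ⋙ homologyFunctor A i).map α)
    rw [← NatIso.naturality_2 (homologyFunctorFactors A i) α]
    haveI := hiso i hi
    haveI : Mono ((HomologicalComplex.homologyFunctor A (ComplexShape.up ℤ) i).map α) :=
      inferInstanceAs (Mono (HomologicalComplex.homologyMap α i))
    infer_instance
  haveI : C.IsLE (n - 1) := by
    rw [← isLE_Q_obj_iff, isLE_iff]
    intro i hi
    exact (HomologySequence.exact₃ _ hT' i (i + 1) rfl).isZero_of_both_zeros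
      ((HomologySequence.epi_homologyMap_mor₁_iff _ hT' i).1 (hQ i (by omega)))
      ((HomologySequence.mono_homologyMap_mor₁_iff _ hT' i (i + 1) rfl).1 (hQ' (i + 1) (by omega)))
  haveI := (isIso_Q_map_iff_quasiIso A (C.ιTruncLE (n - 1))).2 inferInstance
  haveI : IsIso (Qh.map (q.map (C.ιTruncLE (n - 1)))) :=
    inferInstanceAs (IsIso (Q.map (C.ιTruncLE (n - 1))))
  let c := q.map (CochainComplex.mappingCone.inr α)
  have h0 : q.map β ≫ c = 0 := by
    obtain ⟨g, hg⟩ := (CochainComplex.IsKProjective.Qh_map_bijective P (q.obj (C.truncLE (n - 1)))).surjective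
      (Qh.map (q.map β ≫ c) ≫ inv (Qh.map (q.map (C.ιTruncLE (n - 1)))))
    obtain ⟨g', rfl⟩ := q.map_surjective g
    have hg' : g' = 0 := by
      ext i
      rcases lt_or_ge i n with hi | hi
      · exact (P.isZero_of_isStrictlyGE n i hi).eq_of_src _ _
      · exact ((C.truncLE (n - 1)).isZero_of_isStrictlyLE (n - 1) i (by omega)).eq_of_tgt _ _
    refine (CochainComplex.IsKProjective.Qh_map_bijective P _).injective ?_
    rw [hg', Functor.map_zero, Functor.map_zero, eq_comm, IsIso.comp_inv_eq, zero_comp] at hg
    rw [hg, Functor.map_zero]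
  obtain ⟨γ, hγ⟩ : ∃ γ : q.obj P ⟶ q.obj E, q.map β = γ ≫ q.map α :=
    Triangle.coyoneda_exact₂ _ hT (q.map β) h0
  obtain ⟨γ', rfl⟩ := q.map_surjective γ
  exact ⟨γ', ⟨HomotopyCategory.homotopyOfEq _ _ ((Functor.map_comp _ _ _).trans hγ.symm)⟩⟩

end Groth.Agent.TriH.ProjLift
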