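import Groth.Agent.TriH.Res
import Groth.Prelude.Def_DerLim
import Mathlib.CategoryTheory.Preadditive.Yoneda.Limits
import Mathlib.CategoryTheory.Limits.Preserves.Finite
import Mathlib.CategoryTheory.Limits.Yoneda
import Mathlib.Algebra.BigOperators.Intervals

/-! # Brown representability (Neeman), for a family with the factorisation property -/

set_option linter.unusedSectionVars false

namespace Groth.Agent.TriH

open CategoryTheory CategoryTheory.Limits CategoryTheory.Pretriangulated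
open Opposite CategoryTheory.Pretriangulated.Opposite

universe v u

variable {D : Type u} [Category.{v} D] [Preadditive D] [HasZeroObject D] [HasShift D ℤ]
  [∀ n : ℤ, (shiftFunctor D n).Additive] [Pretriangulated D] [HasCoproducts.{v} D]
  [HasColimitsOfShape (Discrete ℕ) D]

/-- every map into a countable sum factors through a sum of members of the family -/
def Factors {κ : Type v} (G : κ → D) (K : D) : Prop :=
  ∀ (X : ℕ → D) (α : K ⟶ ∐ X), ∃ (j : ℕ → κ) (β : ∀ n, G (j n) ⟶ X n)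
    (γ : K ⟶ ∐ fun n => G (j n)), α = γ ≫ Limits.Sigma.map β

theorem comp_one_sub {K : D} (X : ℕ → D) (f : ∀ n, X n ⟶ X (n + 1)) (n : ℕ) (g : K ⟶ X n) :
    (g ≫ Sigma.ι X n) ≫ (𝟙 _ - DerLim.shiftMap X f) =
      g ≫ Sigma.ι X n - g ≫ f n ≫ Sigma.ι X (n + 1) := by
  simp [DerLim.shiftMap, Preadditive.comp_sub]

/-- composite transition maps from index `0` -/
def fromZero (X : ℕ → D) (f : ∀ n, X n ⟶ X (n + 1)) : ∀ n, X 0 ⟶ X n
  | 0 => 𝟙 _
  | n + 1 => fromZero X f n ≫ f n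

theorem fromZero_ι (X : ℕ → D) (f : ∀ n, X n ⟶ X (n + 1)) (n : ℕ) :
    ∃ σ : X 0 ⟶ ∐ X, fromZero X f n ≫ Sigma.ι X n =
      Sigma.ι X 0 - σ ≫ (𝟙 _ - DerLim.shiftMap X f) := by
  induction n with
  | zero => exact ⟨0, by simp [fromZero]⟩
  | succ n ih =>
    obtain ⟨σ, hσ⟩ := ih
    refine ⟨σ + fromZero X f n ≫ Sigma.ι X n, ?_⟩
    rw [Preadditive.add_comp, comp_one_sub, fromZero, Category.assoc, hσ]
    abel

variable {κ : Type v} (G : κ → D)

section
variable (H : Dᵒᵖ ⥤ AddCommGrpCat.{v}) [H.IsHomological]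
  [∀ (J : Type v), PreservesLimitsOfShape (Discrete J) H]

instance preservesNat : PreservesLimitsOfShape (Discrete ℕ) H :=
  preservesLimitsOfShape_of_equiv (Discrete.equivalence (Equiv.ulift.{v} (α := ℕ))) H

theorem exists_step (P : D → Prop) (hPcop : ∀ (J : Type v) (K : J → D), (∀ j, P (K j)) → P (∐ K))
    (hPG : ∀ k, P (G k))
    (hPcone : ∀ (T : Triangle D), T ∈ distTriang D → P T.obj₁ → P T.obj₂ → P T.obj₃)
    (X : D) (hX : P X) (a : H.obj (op X)) :
    ∃ (X' : D) (f : X ⟶ X') (a' : H.obj (op X')), P X' ∧ res H f a' = a ∧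
      ∀ (k : κ) (g : G k ⟶ X), res H g a = 0 → g ≫ f = 0 := by
  let J := Σ k, {g : G k ⟶ X // res H g a = 0}
  let y : (∐ fun j : J => G j.1) ⟶ X := Sigma.desc fun j => j.2.1
  obtain ⟨X', f, z, hT⟩ := distinguished_cocone_triangle y
  have hy : res H y a = 0 := res_coprod_ext H (fun j : J => G j.1) (fun j => by
    rw [← res_comp, map_zero, Sigma.ι_desc]
    exact j.2.2)
  obtain ⟨a', ha'⟩ := res_exact H _ hT a hy
  refine ⟨X', f, a', hPcone _ hT (hPcop _ _ fun j => hPG _) hX, ha', fun k g hg => ?_⟩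
  have h0 : y ≫ f = 0 := comp_distTriang_mor_zero₁₂ _ hT
  have := (Sigma.ι (fun j : J => G j.1) ⟨k, g, hg⟩) ≫= h0
  simpa [y] using this

section system
variable {X : ℕ → D} {f : ∀ n, X n ⟶ X (n + 1)} {a : ∀ n, H.obj (op (X n))}

theorem mem_range_one_sub
    (ha : ∀ n, res H (f n) (a (n + 1)) = a n)
    (hkill : ∀ n k (g : G k ⟶ X n), res H g (a n) = 0 → g ≫ f n = 0)
    (hlift : ∀ k (h : H.obj (op (G k))), ∃ g : G k ⟶ X 0, res H g (a 0) = h)
    (hfac : ∀ k, Factors G (G k))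
    (b : H.obj (op (∐ X))) (hb : ∀ n, res H (Sigma.ι X n) b = a n)
    (k : κ) (α : G k ⟶ ∐ X) (hα : res H α b = 0) :
    ∃ δ : G k ⟶ ∐ X, α = δ ≫ (𝟙 _ - DerLim.shiftMap X f) := by
  obtain ⟨j, β, γ, rfl⟩ := hfac k X α
  have hp : ∀ n, res H (fromZero X f n) (a n) = a 0 := fun n => by
    induction n with
    | zero => simp [fromZero]
    | succ n ih => rw [fromZero, res_comp, ha, ih]
  choose J hJ using fun n => hlift (j n) (res H (β n) (a n))
  choose σ hσ using fun n => fromZero_ι X f (n + 1)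
  have hβ : ∀ n, β n ≫ f n = J n ≫ fromZero X f (n + 1) := fun n => by
    have := hkill n _ (β n - J n ≫ fromZero X f n) (by rw [res_sub, res_comp, hp, hJ, sub_self])
    rwa [Preadditive.sub_comp, sub_eq_zero, Category.assoc] at this
  have key : Limits.Sigma.map β =
      Sigma.desc (fun n => β n ≫ Sigma.ι X n - J n ≫ σ n) ≫ (𝟙 _ - DerLim.shiftMap X f) +
        Sigma.desc J ≫ Sigma.ι X 0 := by
    refine Sigma.hom_ext _ _ fun n => ?_
    rw [Limits.Sigma.ι_map, Preadditive.comp_add, Sigma.ι_desc_assoc, Sigma.ι_desc_assoc,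
      Preadditive.sub_comp, comp_one_sub, ← Category.assoc (β n) (f n), hβ, Category.assoc,
      Category.assoc, hσ, Preadditive.comp_sub]
    abel
  have hg : res H (γ ≫ Sigma.desc J) (a 0) = 0 := by
    rw [res_comp] at hα ⊢
    have : res H (Sigma.desc J) (a 0) = res H (Limits.Sigma.map β) b :=
      res_coprod_ext H _ fun n => by
        rw [← res_comp, ← res_comp, Sigma.ι_desc, Limits.Sigma.ι_map, res_comp, hb, hJ]
    rw [this, hα]
  have hg0 := hkill 0 _ _ hg
  refine ⟨γ ≫ Sigma.desc (fun n => β n ≫ Sigma.ι X n - J n ≫ σ n) +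
    (γ ≫ Sigma.desc J) ≫ Sigma.ι X 0, ?_⟩
  rw [Preadditive.add_comp, comp_one_sub, ← Category.assoc (γ ≫ Sigma.desc J) (f 0), hg0, key,
    Preadditive.comp_add]
  simp

theorem eq_zero_of_comp_one_sub
    (ha : ∀ n, res H (f n) (a (n + 1)) = a n)
    (hkill : ∀ n k (g : G k ⟶ X n), res H g (a n) = 0 → g ≫ f n = 0)
    (hlift : ∀ k (h : H.obj (op (G k))), ∃ g : G k ⟶ X 0, res H g (a 0) = h)
    (hfac : ∀ k, Factors G (G k))
    (k : κ) (δ : G k ⟶ ∐ X) (hδ : δ ≫ (𝟙 _ - DerLim.shiftMap X f) = 0) : δ = 0 := by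
  have hp : ∀ n, res H (fromZero X f n) (a n) = a 0 := fun n => by
    induction n with
    | zero => simp [fromZero]
    | succ n ih => rw [fromZero, res_comp, ha, ih]
  obtain ⟨j, β, γ, hδγ⟩ := hfac k X δ
  choose J hJ using fun n => hlift (j n) (res H (β n) (a n))
  have hβ : ∀ n, β n ≫ f n = J n ≫ fromZero X f (n + 1) := fun n => by
    have := hkill n _ (β n - J n ≫ fromZero X f n) (by rw [res_sub, res_comp, hp, hJ, sub_self])
    rwa [Preadditive.sub_comp, sub_eq_zero, Category.assoc] at this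
  let X₀ : ℕ → D := fun _ => X 0
  let v : (∐ fun n => G (j n)) ⟶ ∐ X₀ := Sigma.desc fun n => J n ≫ Sigma.ι X₀ (n + 1)
  let P : (∐ X₀) ⟶ ∐ X := Limits.Sigma.map fun n => fromZero X f n
  let sC := 𝟙 (∐ X₀) - DerLim.shiftMap X₀ (fun _ => 𝟙 _)
  let r : (∐ X₀) ⟶ ∐ X₀ := Sigma.desc fun n => -(∑ i ∈ Finset.Ico 1 n, Sigma.ι X₀ i)
  have hvP : δ = γ ≫ v ≫ P := by
    have : δ = δ ≫ DerLim.shiftMap X f := by
      rwa [Preadditive.comp_sub, sub_eq_zero, Category.comp_id] at hδ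
    rw [this, hδγ, Category.assoc]
    congr 1
    refine Sigma.hom_ext _ _ fun n => ?_
    simp [v, P, DerLim.shiftMap, X₀, ← reassoc_of% hβ]
  have hsP : sC ≫ P = P ≫ (𝟙 _ - DerLim.shiftMap X f) := by
    refine Sigma.hom_ext _ _ fun n => ?_
    simp [sC, P, DerLim.shiftMap, X₀, Preadditive.comp_sub, Preadditive.sub_comp, fromZero]
  have hvr : v ≫ sC ≫ r = v := by
    refine Sigma.hom_ext _ _ fun n => ?_
    simp only [v, sC, r, DerLim.shiftMap, X₀, Preadditive.sub_comp, Category.id_comp,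
      Sigma.ι_desc_assoc, Category.assoc, Preadditive.comp_sub, Sigma.ι_desc]
    rw [Finset.sum_Ico_succ_top (by omega : 1 ≤ n + 1)]
    simp [Preadditive.comp_add, Preadditive.comp_neg]
  have hw : (γ ≫ v ≫ sC) ≫ P = 0 := by
    rw [Category.assoc, Category.assoc, hsP, ← reassoc_of% hvP, hδ]
  have hδ' : δ = (γ ≫ v ≫ sC) ≫ r ≫ P := by
    rw [hvP]
    simp only [Category.assoc]
    rw [reassoc_of% hvr]
  choose C c d hC using fun n => distinguished_cocone_triangle₁ (fromZero X f n)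
  have hsum := coproduct_distinguished (fun n => Triangle.mk (c n) (fromZero X f n) (d n)) hC
  obtain ⟨w', hw'⟩ : ∃ w' : G k ⟶ ∐ C, γ ≫ v ≫ sC = w' ≫ Limits.Sigma.map c :=
    Triangle.coyoneda_exact₂ _ hsum _ hw
  obtain ⟨j', β', γ', rfl⟩ := hfac k C w'
  have he : ∀ m n, (β' m ≫ c m) ≫ fromZero X f (n + 1) = 0 := fun m n => by
    have h1 : c m ≫ fromZero X f m = 0 := comp_distTriang_mor_zero₁₂ _ (hC m)
    have h2 : (β' m ≫ c m) ≫ f 0 = 0 := hkill 0 _ _ (by
      rw [← hp m, ← res_comp, Category.assoc, h1, comp_zero, res_zero])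
    induction n with
    | zero => simpa [fromZero] using h2
    | succ n ih => rw [fromZero, ← Category.assoc, ih, zero_comp]
  rw [hδ', hw']
  have : Limits.Sigma.map β' ≫ Limits.Sigma.map c ≫ r ≫ P = 0 := by
    refine Sigma.hom_ext _ _ fun m => ?_
    simp only [r, P, Limits.Sigma.ι_map_assoc, Sigma.ι_desc_assoc, Preadditive.neg_comp,
      Preadditive.sum_comp, Limits.Sigma.ι_map, Preadditive.comp_neg, Preadditive.comp_sum,
      comp_zero, neg_eq_zero]
    refine Finset.sum_eq_zero fun i hi => ?_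
    obtain ⟨n, rfl⟩ : ∃ n, i = n + 1 := ⟨i - 1, by simp at hi; omega⟩
    rw [← Category.assoc (c m), ← Category.assoc (β' m), ← Category.assoc (β' m), he, zero_comp]
  simp only [Category.assoc, this, comp_zero]

end system

/-- A representing object for `H` on the family `G`, built from the family. -/
theorem exists_approx (P : D → Prop) (hPcop : ∀ (J : Type v) (K : J → D), (∀ j, P (K j)) → P (∐ K))
    (hPnat : ∀ (K : ℕ → D), (∀ n, P (K n)) → P (∐ K))
    (hPG : ∀ k, P (G k))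
    (hPcone : ∀ (T : Triangle D), T ∈ distTriang D → P T.obj₁ → P T.obj₂ → P T.obj₃)
    (hshift : ∀ (k : κ) (n : ℤ), ∃ k', Nonempty (G k' ≅ (shiftFunctor D n).obj (G k)))
    (hfac : ∀ k, Factors G (G k)) :
    ∃ (L : D) (a : H.obj (op L)), P L ∧
      ∀ k, Function.Bijective (fun g : G k ⟶ L => res H g a) := by
  let J₀ := Σ k, H.obj (op (G k))
  obtain ⟨a₀, ha₀⟩ := (res_coprod_bij H (fun j : J₀ => G j.1)).2 (fun j => j.2)
  let A := {p : Σ X : D, H.obj (op X) // P p.1}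
  let x₀ : A := ⟨⟨_, a₀⟩, hPcop _ _ fun j => hPG _⟩
  choose X' f' a' hP' ha' hkill' using fun p : A => exists_step G H P hPcop hPG hPcone p.1.1 p.2 p.1.2
  let S : ℕ → A := fun n => n.rec x₀ fun _ p => ⟨⟨X' p, a' p⟩, hP' p⟩
  let X : ℕ → D := fun n => (S n).1.1
  let a : ∀ n, H.obj (op (X n)) := fun n => (S n).1.2
  let f : ∀ n, X n ⟶ X (n + 1) := fun n => f' (S n)
  have ha : ∀ n, res H (f n) (a (n + 1)) = a n := fun n => ha' (S n)
  have hkill : ∀ n k (g : G k ⟶ X n), res H g (a n) = 0 → g ≫ f n = 0 := fun n => hkill' (S n)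
  have hlift : ∀ k (h : H.obj (op (G k))), ∃ g : G k ⟶ X 0, res H g (a 0) = h := fun k h =>
    ⟨Sigma.ι (fun j : J₀ => G j.1) ⟨k, h⟩, congrFun ha₀ ⟨k, h⟩⟩
  obtain ⟨b, hb'⟩ := (res_coprod_bij H X).2 a
  have hb : ∀ n, res H (Sigma.ι X n) b = a n := congrFun hb'
  obtain ⟨L, π, c, hT⟩ := distinguished_cocone_triangle (𝟙 (∐ X) - DerLim.shiftMap X f)
  have hb0 : res H (𝟙 (∐ X) - DerLim.shiftMap X f) b = 0 := res_coprod_ext H X fun n => by
    rw [← res_comp, map_zero, Preadditive.comp_sub, Category.comp_id, res_sub, hb]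
    simp [DerLim.shiftMap, hb, ha]
  obtain ⟨aL, haL⟩ : ∃ aL : H.obj (op L), res H π aL = b := res_exact H _ hT b hb0
  refine ⟨L, aL, hPcone _ hT (hPnat _ fun n => (S n).2) (hPnat _ fun n => (S n).2), fun k => ⟨?_, ?_⟩⟩
  · suffices ∀ g : G k ⟶ L, res H g aL = 0 → g = 0 by
      intro g₁ g₂ hg
      exact sub_eq_zero.1 (this _ (by rw [res_sub]; exact sub_eq_zero.2 hg))
    intro g hg
    obtain ⟨k', ⟨e⟩⟩ := hshift k (-1)
    let e' : (shiftFunctor D (1 : ℤ)).obj (G k') ≅ G k :=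
      (shiftFunctor D (1 : ℤ)).mapIso e ≪≫ (shiftFunctorCompIsoId D (-1 : ℤ) 1 (by simp)).app _
    obtain ⟨δ, hδ⟩ := (shiftFunctor D (1 : ℤ)).map_surjective (e'.hom ≫ g ≫ c)
    have h31 : c ≫ (shiftFunctor D (1 : ℤ)).map (𝟙 (∐ X) - DerLim.shiftMap X f) = 0 :=
      comp_distTriang_mor_zero₃₁ _ hT
    have hδ0 : δ = 0 := eq_zero_of_comp_one_sub G H ha hkill hlift hfac k' δ
      ((shiftFunctor D (1 : ℤ)).map_injective (by
        rw [Functor.map_comp, hδ, Category.assoc, Category.assoc, h31, Functor.map_zero]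
        simp))
    rw [hδ0, Functor.map_zero] at hδ
    have hgc : g ≫ c = 0 := by
      rw [← cancel_epi e'.hom, ← hδ, comp_zero]
    obtain ⟨α, hα⟩ : ∃ α : G k ⟶ ∐ X, g = α ≫ π := Triangle.coyoneda_exact₃ _ hT g hgc
    obtain ⟨δ', hδ'⟩ := mem_range_one_sub G H ha hkill hlift hfac b hb k α (by
      rw [← haL, ← res_comp, ← hα, hg])
    have h12 : (𝟙 (∐ X) - DerLim.shiftMap X f) ≫ π = 0 := comp_distTriang_mor_zero₁₂ _ hT
    rw [hα, hδ', Category.assoc, h12, comp_zero]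
  · intro h
    obtain ⟨g, hg⟩ := hlift k h
    refine ⟨g ≫ Sigma.ι X 0 ≫ π, ?_⟩
    show res H _ aL = h
    rw [res_comp, res_comp, haL, hb, hg]

theorem bijective_res_of_iso {L : D} (a : H.obj (op L)) {Y Z : D} (e : Y ≅ Z)
    (h : Function.Bijective (fun g : Y ⟶ L => res H g a)) :
    Function.Bijective (fun g : Z ⟶ L => res H g a) := by
  have h2 : (fun g : Z ⟶ L => res H g a) =
      fun g => res H e.inv (res H (e.hom ≫ g) a) := by
    funext g; rw [← res_comp, e.inv_hom_id_assoc]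
  rw [h2]
  exact (res_iso_bij H e.symm).comp (h.comp
    ⟨fun p q hpq => (cancel_epi e.hom).1 hpq, fun p => ⟨e.inv ≫ p, e.hom_inv_id_assoc p⟩⟩)

theorem bijective_cofan {J : Type*} (K : J → D) (c : Cofan K) (hc : IsColimit c)
    [PreservesLimit (Discrete.functor fun j => op (K j)) (H ⋙ forget _)]
    {L : D} (a : H.obj (op L)) (h : ∀ j, Function.Bijective (fun g : K j ⟶ L => res H g a)) :
    Function.Bijective (fun g : c.pt ⟶ L => res H g a) := by
  constructor
  · intro g₁ g₂ hg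
    refine Cofan.IsColimit.hom_ext hc _ _ fun j => (h j).1 ?_
    simp only [res_comp]
    exact congrArg _ hg
  · intro x
    choose g hg using fun j => (h j).2 (res H (c.inj j) x)
    refine ⟨Cofan.IsColimit.desc hc g, (res_cofan_bij H K c hc).1 (funext fun j => ?_)⟩
    simp only [← res_comp, Cofan.IsColimit.fac]
    exact hg j

theorem bijective_cone {L : D} (a : H.obj (op L)) (T : Triangle D) (hT : T ∈ distTriang D)
    (h₁ : Function.Bijective (fun g : T.obj₁ ⟶ L => res H g a))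
    (h₂ : Function.Bijective (fun g : T.obj₂ ⟶ L => res H g a))
    (h₁' : Function.Bijective (fun g : (shiftFunctor D (1 : ℤ)).obj T.obj₁ ⟶ L => res H g a))
    (h₂' : Function.Bijective (fun g : (shiftFunctor D (1 : ℤ)).obj T.obj₂ ⟶ L => res H g a)) :
    Function.Bijective (fun g : T.obj₃ ⟶ L => res H g a) := by
  constructor
  · suffices ∀ g : T.obj₃ ⟶ L, res H g a = 0 → g = 0 by
      intro g₁ g₂ hg
      exact sub_eq_zero.1 (this _ (by rw [res_sub]; exact sub_eq_zero.2 hg))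
    intro g hg
    obtain ⟨g', rfl⟩ := T.yoneda_exact₃ hT g (h₂.1 (by
      show res H _ a = res H _ a
      rw [res_comp, hg, map_zero, res_zero]))
    rw [res_comp] at hg
    obtain ⟨y, hy⟩ := res_exact₁ H T hT _ hg
    obtain ⟨u, hu⟩ := h₂'.2 y
    have : g' = (shiftFunctor D (1 : ℤ)).map T.mor₁ ≫ u := h₁'.1 (by
      show res H _ a = res H _ a
      rw [res_comp, show res H u a = y from hu, hy])
    rw [this, ← Category.assoc, comp_distTriang_mor_zero₃₁ _ hT, zero_comp]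
  · intro x
    obtain ⟨u, hu⟩ := h₂.2 (res H T.mor₂ x)
    have hu' : T.mor₁ ≫ u = 0 := h₁.1 (by
      show res H _ a = res H _ a
      rw [res_comp, show res H u a = res H T.mor₂ x from hu, ← res_comp,
        comp_distTriang_mor_zero₁₂ _ hT, res_zero, res_zero])
    obtain ⟨g, hg⟩ := T.yoneda_exact₂ hT u hu'
    obtain ⟨z, hz⟩ := res_exact₃ H T hT (x - res H g a) (by
      rw [map_sub, ← res_comp, ← hg, sub_eq_zero]; exact hu.symm)
    obtain ⟨g', hg'⟩ := h₁'.2 z
    refine ⟨g + T.mor₃ ≫ g', ?_⟩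
    show res H _ a = x
    rw [res_add, res_comp, show res H g' a = z from hg', hz, add_sub_cancel]

end

/-- Brown representability for a shift-stable family with the factorisation property. -/
theorem isRepresentable_of_factors (hshift : ∀ (k : κ) (n : ℤ), ∃ k', Nonempty (G k' ≅ (shiftFunctor D n).obj (G k)))
    (hfac : ∀ k, Factors G (G k))
    (hgen : ∀ Z : D, (∀ k (g : G k ⟶ Z), g = 0) → IsZero Z)
    (H : Dᵒᵖ ⥤ AddCommGrpCat.{v}) [H.IsHomological]
    [∀ (J : Type v), PreservesLimitsOfShape (Discrete J) H] :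
    (H ⋙ forget AddCommGrpCat.{v}).IsRepresentable := by
  obtain ⟨L, a, -, hL⟩ := exists_approx G H (fun _ => True) (fun _ _ _ => trivial)
    (fun _ _ => trivial) (fun _ => trivial) (fun _ _ _ _ => trivial) hshift hfac
  let P : D → Prop := fun Y =>
    ∀ n : ℤ, Function.Bijective (fun g : (shiftFunctor D n).obj Y ⟶ L => res H g a)
  have hPG : ∀ k, P (G k) := fun k n => by
    obtain ⟨k', ⟨e⟩⟩ := hshift k n
    exact bijective_res_of_iso H a e (hL k')
  have hPcop : ∀ (J : Type v) (K : J → D), (∀ j, P (K j)) → P (∐ K) := fun J K h n =>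
    bijective_cofan H _ _ (shiftCofanIsColimit K n) a (fun j => h j n)
  have hPnat : ∀ (K : ℕ → D), (∀ j, P (K j)) → P (∐ K) := fun K h n =>
    bijective_cofan H _ _ (shiftCofanIsColimit K n) a (fun j => h j n)
  have hPcone : ∀ (T : Triangle D), T ∈ distTriang D → P T.obj₁ → P T.obj₂ → P T.obj₃ :=
    fun T hT h₁ h₂ n => bijective_cone H a _ (T.shift_distinguished hT n) (h₁ n) (h₂ n)
      (bijective_res_of_iso H a ((shiftFunctorAdd' D n 1 (n + 1) rfl).app T.obj₁) (h₁ (n + 1)))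
      (bijective_res_of_iso H a ((shiftFunctorAdd' D n 1 (n + 1) rfl).app T.obj₂) (h₂ (n + 1)))
  have hall : ∀ Y, Function.Bijective (fun g : Y ⟶ L => res H g a) := by
    intro Y
    obtain ⟨Y', u₀, hY', hu'⟩ := exists_approx G (preadditiveYoneda.obj Y) P hPcop hPnat hPG hPcone
      hshift hfac
    obtain ⟨u, hu⟩ : ∃ u : Y' ⟶ Y, ∀ k, Function.Bijective (fun g : G k ⟶ Y' => g ≫ u) :=
      ⟨u₀, hu'⟩
    obtain ⟨Z, m₂, m₃, hT⟩ := distinguished_cocone_triangle u
    have hZ : IsZero Z := hgen Z fun k g => by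
      obtain ⟨k', ⟨e⟩⟩ := hshift k (-1)
      let e' : (shiftFunctor D (1 : ℤ)).obj (G k') ≅ G k :=
        (shiftFunctor D (1 : ℤ)).mapIso e ≪≫ (shiftFunctorCompIsoId D (-1 : ℤ) 1 (by simp)).app _
      obtain ⟨δ, hδ⟩ := (shiftFunctor D (1 : ℤ)).map_surjective (e'.hom ≫ g ≫ m₃)
      have h31 : m₃ ≫ (shiftFunctor D (1 : ℤ)).map u = 0 :=
        comp_distTriang_mor_zero₃₁ _ hT
      have hδ0 : δ = 0 := (hu k').1 ((shiftFunctor D (1 : ℤ)).map_injective (by
        show (shiftFunctor D (1 : ℤ)).map (δ ≫ _) = (shiftFunctor D (1 : ℤ)).map (0 ≫ _)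
        rw [Functor.map_comp, hδ, Category.assoc, Category.assoc, h31, zero_comp, Functor.map_zero]
        simp))
      rw [hδ0, Functor.map_zero] at hδ
      have hg : g ≫ m₃ = 0 := by
        rw [← cancel_epi e'.hom, ← hδ, comp_zero]
      obtain ⟨h, hh⟩ : ∃ h : G k ⟶ Y, g = h ≫ m₂ := Triangle.coyoneda_exact₃ _ hT g hg
      obtain ⟨w, hw⟩ := (hu k).2 h
      have h12 : u ≫ m₂ = 0 := comp_distTriang_mor_zero₁₂ _ hT
      rw [hh, ← show w ≫ u = h from hw, Category.assoc, h12, comp_zero]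
    have : IsIso u := (Triangle.isZero₃_iff_isIso₁ _ hT).1 hZ
    exact bijective_res_of_iso H a ((shiftFunctorZero D ℤ).app Y' ≪≫ asIso u) (hY' 0)
  exact ⟨L, ⟨{
    homEquiv := fun {Y} => Equiv.ofBijective _ (hall Y)
    homEquiv_comp := fun f g => res_comp H f g a }⟩⟩

/-- Brown representability, unshifted hypotheses. -/
theorem brown {ι : Type v} (E : ι → D)
    (hgen : ∀ X : D, ¬ IsZero X → ∃ (i : ι) (n : ℤ) (f : (shiftFunctor D n).obj (E i) ⟶ X), f ≠ 0)
    (hfac : ∀ i, Factors E (E i))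
    (H : Dᵒᵖ ⥤ AddCommGrpCat.{v}) [H.IsHomological]
    [∀ (J : Type v), PreservesLimitsOfShape (Discrete J) H] :
    (H ⋙ forget AddCommGrpCat.{v}).IsRepresentable := by
  refine isRepresentable_of_factors
    (fun p : ι × ULift.{v} ℤ => (shiftFunctor D p.2.down).obj (E p.1)) ?_ ?_ ?_ H
  · exact fun p n => ⟨⟨p.1, ⟨p.2.down + n⟩⟩,
      ⟨(shiftFunctorAdd' D p.2.down n _ rfl).app (E p.1)⟩⟩
  · rintro ⟨i, ⟨m⟩⟩ X α
    let F := shiftFunctor D m
    let Y : ℕ → D := fun n => F.objPreimage (X n)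
    let Φ : F.obj (∐ Y) ≅ ∐ X :=
      (shiftCofanIsColimit Y m).coconePointsIsoOfNatIso (coproductIsCoproduct X)
        (Discrete.natIso fun n => F.objObjPreimageIso (X n.as))
    have hΦ : ∀ n, F.map (Sigma.ι Y n) ≫ Φ.hom =
        (F.objObjPreimageIso (X n)).hom ≫ Sigma.ι X n := fun n =>
      IsColimit.comp_coconePointsIsoOfNatIso_hom (shiftCofanIsColimit Y m) _ _ ⟨n⟩
    obtain ⟨α', hα'⟩ := F.map_surjective (α ≫ Φ.inv)
    obtain ⟨j, β, γ, hβ⟩ := hfac i Y α'
    obtain ⟨Ψ, hΨ⟩ := shiftCoprod_exists_desc (fun n => E (j n)) m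
      (fun n => Sigma.ι (fun n => F.obj (E (j n))) n)
    refine ⟨fun n => ⟨j n, ⟨m⟩⟩, fun n => F.map (β n) ≫ (F.objObjPreimageIso (X n)).hom,
      F.map γ ≫ Ψ, ?_⟩
    have : α = F.map γ ≫ F.map (Limits.Sigma.map β) ≫ Φ.hom := by
      rw [← Category.assoc, ← F.map_comp, ← hβ, hα', Category.assoc, Φ.inv_hom_id,
        Category.comp_id]
    rw [this, Category.assoc]
    congr 1
    refine shiftCoprod_hom_ext _ m _ _ fun n => ?_
    rw [reassoc_of% (hΨ n), Limits.Sigma.ι_map, ← Category.assoc, ← F.map_comp,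
      Limits.Sigma.ι_map, F.map_comp, Category.assoc, hΦ, Category.assoc]
  · intro Z hZ
    by_contra hne
    obtain ⟨i, n, f, hf⟩ := hgen Z hne
    exact hf (hZ ⟨i, ⟨n⟩⟩ f)

end Groth.Agent.TriH
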