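import Mathlib.CategoryTheory.Abelian.Basic
import Mathlib.CategoryTheory.Preadditive.Injective.Basic
import Mathlib.CategoryTheory.Category.Preorder
import Mathlib.Data.Int.Order.Basic

/-!
# Limits of towers indexed by the integers, with split epimorphisms as transition maps
-/

set_option autoImplicit false

open CategoryTheory CategoryTheory.Limits Opposite

namespace Groth.Agent.TriH.IntLimit

universe v u

variable {A : Type u} [Category.{v} A] (G : ℤᵒᵖ ⥤ A)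

/-- The transition map of a tower. -/
abbrev tr {p q : ℤ} (h : p ≤ q) : G.obj (op q) ⟶ G.obj (op p) := G.map (homOfLE h).op

lemma tr_tr {p q r : ℤ} (h : p ≤ q) (h' : q ≤ r) : tr G h' ≫ tr G h = tr G (h.trans h') := by
  rw [← G.map_comp]
  rfl

variable {G} {c : Cone G}

lemma hom_ext_tail (hc : IsLimit c) (p : ℤ) {X : A} (f g : X ⟶ c.pt)
    (h : ∀ k : ℕ, f ≫ c.π.app (op (p + k)) = g ≫ c.π.app (op (p + k))) : f = g :=
  hc.hom_ext fun ⟨q⟩ => by
    have hq : q ≤ p + ((q - p).toNat : ℤ) := by omega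
    have hw : c.π.app (op (p + ((q - p).toNat : ℤ))) ≫ tr G hq = c.π.app (op q) := c.w _
    rw [← hw, ← Category.assoc, h, Category.assoc]

lemma exists_lift_tail (hc : IsLimit c) (p : ℤ) {X : A} (φ : ∀ k : ℕ, X ⟶ G.obj (op (p + k)))
    (hφ : ∀ k : ℕ, φ (k + 1) ≫ tr G (by omega : p + (k : ℤ) ≤ p + ((k + 1 : ℕ) : ℤ)) = φ k) :
    ∃ l : X ⟶ c.pt, ∀ k : ℕ, l ≫ c.π.app (op (p + k)) = φ k := by
  have hφ' : ∀ (k d : ℕ) (h : p + (k : ℤ) ≤ p + ((k + d : ℕ) : ℤ)), φ (k + d) ≫ tr G h = φ k := by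
    intro k d
    induction d with
    | zero =>
      intro h
      have : tr G h = 𝟙 _ := G.map_id _
      rw [this]
      exact Category.comp_id _
    | succ d ih =>
      intro h
      have h1 : p + (k : ℤ) ≤ p + ((k + d : ℕ) : ℤ) := by omega
      have h2 : p + ((k + d : ℕ) : ℤ) ≤ p + ((k + (d + 1) : ℕ) : ℤ) := by omega
      rw [← tr_tr G h1 h2, ← Category.assoc, ← ih h1]
      exact congrArg (· ≫ tr G h1) (hφ (k + d))
  let s : Cone G :=
    { pt := X
      π :=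
        { app := fun q => φ (q.unop - p).toNat ≫
            tr G (by omega : q.unop ≤ p + ((q.unop - p).toNat : ℤ))
          naturality := fun q q' f => by
            have hf : q'.unop ≤ q.unop := leOfHom f.unop
            refine (Category.id_comp _).trans ?_
            obtain ⟨d, hd⟩ : ∃ d, (q.unop - p).toNat = (q'.unop - p).toNat + d :=
              ⟨(q.unop - p).toNat - (q'.unop - p).toNat, by omega⟩
            rw [← hφ' (q'.unop - p).toNat d (by omega), Category.assoc, Category.assoc]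
            show φ _ ≫ tr G _ ≫ tr G _ = φ _ ≫ tr G _ ≫ tr G (leOfHom f.unop)
            rw [tr_tr, tr_tr]
            have : ∀ (m : ℕ) (h : q'.unop ≤ p + (m : ℤ)), m = (q.unop - p).toNat →
                φ m ≫ tr G h = φ (q.unop - p).toNat ≫ tr G (hf.trans (by omega)) := by
              rintro m h rfl
              rfl
            exact this _ _ hd.symm } }
  refine ⟨hc.lift s, fun k => ?_⟩
  rw [hc.fac]
  show φ (p + (k : ℤ) - p).toNat ≫ tr G _ = φ k
  have : ∀ (m : ℕ) (h : p + (k : ℤ) ≤ p + (m : ℤ)), m = k → φ m ≫ tr G h = φ k := by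
    rintro m h rfl
    have : tr G h = 𝟙 _ := G.map_id _
    rw [this]
    exact Category.comp_id _
  exact this _ _ (by omega)

lemma injective_pt [Preadditive A] (hc : IsLimit c)
    (hsplit : ∀ {p q : ℤ} (h : p ≤ q), IsSplitEpi (tr G h)) [∀ q, Injective (G.obj q)] :
    Injective c.pt := by
  refine ⟨fun {X Y} g f hf => ?_⟩
  have hstep : ∀ (k : ℕ) (h : Y ⟶ G.obj (op (0 + (k : ℤ)))),
      f ≫ h = g ≫ c.π.app (op (0 + (k : ℤ))) →
      ∃ h' : Y ⟶ G.obj (op (0 + ((k + 1 : ℕ) : ℤ))),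
        f ≫ h' = g ≫ c.π.app (op (0 + ((k + 1 : ℕ) : ℤ))) ∧
          h' ≫ tr G (by omega : 0 + (k : ℤ) ≤ 0 + ((k + 1 : ℕ) : ℤ)) = h := by
    intro k h hh
    have hle : 0 + (k : ℤ) ≤ 0 + ((k + 1 : ℕ) : ℤ) := by omega
    haveI := hsplit hle
    let h₀ := Injective.factorThru (g ≫ c.π.app (op (0 + ((k + 1 : ℕ) : ℤ)))) f
    have hw : c.π.app (op (0 + ((k + 1 : ℕ) : ℤ))) ≫ tr G hle = c.π.app (op (0 + (k : ℤ))) :=
      c.w _
    refine ⟨h₀ + (h - h₀ ≫ tr G hle) ≫ section_ (tr G hle), ?_, ?_⟩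
    · simp [h₀, Preadditive.comp_add, hh, hw, reassoc_of% hh]
    · simp [Preadditive.add_comp]
  choose nxt h1 h2 using hstep
  let F : ∀ k : ℕ, {h : Y ⟶ G.obj (op (0 + (k : ℤ))) // f ≫ h = g ≫ c.π.app (op (0 + (k : ℤ)))} :=
    fun k => Nat.rec ⟨Injective.factorThru _ f, Injective.comp_factorThru _ _⟩
      (fun k h => ⟨nxt k h.1 h.2, h1 k h.1 h.2⟩) k
  obtain ⟨l, hl⟩ := exists_lift_tail hc 0 (fun k => (F k).1) (fun k => h2 k _ _)
  exact ⟨l, hom_ext_tail hc 0 _ _ fun k => by rw [Category.assoc, hl]; exact (F k).2⟩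

lemma isSplitEpi_π (hc : IsLimit c) (hsplit : ∀ {p q : ℤ} (h : p ≤ q), IsSplitEpi (tr G h))
    (p : ℤ) : IsSplitEpi (c.π.app (op p)) := by
  have h00 : p ≤ p + ((0 : ℕ) : ℤ) := by omega
  have hkk : ∀ k : ℕ, p + (k : ℤ) ≤ p + ((k + 1 : ℕ) : ℤ) := fun k => by omega
  have h0 : IsSplitEpi (tr G (by omega : p ≤ p + ((0 : ℕ) : ℤ))) := hsplit _
  haveI : ∀ k : ℕ, IsSplitEpi (tr G (by omega : p + (k : ℤ) ≤ p + ((k + 1 : ℕ) : ℤ))) :=
    fun k => hsplit _
  let F : ∀ k : ℕ, G.obj (op p) ⟶ G.obj (op (p + (k : ℤ))) := fun k =>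
    Nat.rec (motive := fun k => G.obj (op p) ⟶ G.obj (op (p + (k : ℤ))))
      (section_ (tr G h00))
      (fun k h => h ≫ section_ (tr G (hkk k))) k
  obtain ⟨l, hl⟩ := exists_lift_tail hc p F (fun k => by simp [F])
  refine ⟨⟨⟨l, ?_⟩⟩⟩
  have hw : c.π.app (op (p + ((0 : ℕ) : ℤ))) ≫ tr G (by omega : p ≤ p + ((0 : ℕ) : ℤ)) =
      c.π.app (op p) := c.w _
  rw [← hw, ← Category.assoc, hl]
  simp [F]

end Groth.Agent.TriH.IntLimit
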