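import Groth.Agent.TriH.FunctorialRes
import Groth.Agent.TriH.IntLimit
import Groth.Prelude.Def_SpSeq
import Mathlib.Algebra.Homology.HomologicalComplexBiprod
import Mathlib.Data.Int.Interval

/-!
# The tower of K-injective resolutions of the quotients of a filtered complex
-/

set_option autoImplicit false

open CategoryTheory CategoryTheory.Limits Opposite ZeroObject

namespace Groth.Agent.TriH.FilRes

universe v u

variable {A : Type u} [Category.{v} A] [Abelian A] [IsGrothendieckAbelian.{v} A]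
  (K : SpSeq.FilCx A)

lemma hasAcyclicExtension_biprod {I I' : CochainComplex A ℤ} (h : HasAcyclicExtension I)
    (h' : HasAcyclicExtension I') : HasAcyclicExtension (I ⊞ I') := fun S hS h3 φ => by
  obtain ⟨ψ, hψ⟩ := h S hS h3 (φ ≫ biprod.fst)
  obtain ⟨ψ', hψ'⟩ := h' S hS h3 (φ ≫ biprod.snd)
  exact ⟨biprod.lift ψ ψ', by apply biprod.hom_ext <;> simp [hψ, hψ']⟩

lemma hasAcyclicExtension_injRes (X : CochainComplex A ℤ) : HasAcyclicExtension (injRes.obj X) :=
  (isKInjective_and_injective_iff _).1 ⟨(injRes_props X).1, (injRes_props X).2.2.2⟩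

/-- The resolution of a quotient. -/
noncomputable abbrev I (p : ℤ) : CochainComplex A ℤ := injRes.obj (K.quot p)

instance injective_I (p m : ℤ) : Injective ((I K p).X m) := (injRes_props (K.quot p)).2.2.2 m

/-- The transition map between the resolutions. -/
noncomputable abbrev f {p q : ℤ} (h : p ≤ q) : I K q ⟶ I K p := injRes.map (K.quotMap h)

omit [IsGrothendieckAbelian.{v} A] in
lemma quotMap_refl (p : ℤ) : K.quotMap (le_refl p) = 𝟙 _ := by
  rw [← cancel_epi (cokernel.π (K.fil p).arrow)]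
  simp [SpSeq.FilObj.quotMap]

omit [IsGrothendieckAbelian.{v} A] in
lemma quotMap_trans {p q r : ℤ} (h : p ≤ q) (h' : q ≤ r) :
    K.quotMap h' ≫ K.quotMap h = K.quotMap (h.trans h') := by
  rw [← cancel_epi (cokernel.π (K.fil r).arrow)]
  simp [SpSeq.FilObj.quotMap]

lemma f_refl (p : ℤ) : f K (le_refl p) = 𝟙 _ := by
  simp only [f, quotMap_refl, CategoryTheory.Functor.map_id]

lemma f_trans {p q r : ℤ} (h : p ≤ q) (h' : q ≤ r) : f K h' ≫ f K h = f K (h.trans h') := by
  simp only [f, ← Functor.map_comp, quotMap_trans]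

/-- The contractible part. -/
noncomputable abbrev Cov (p : ℤ) : CochainComplex A ℤ :=
  ∏ᶜ fun q : ULift.{v} {q : ℤ // q < p} => cover (I K q.down.1)

/-- The projection. -/
noncomputable abbrev pr {p : ℤ} (q : ℤ) (h : q < p) : Cov K p ⟶ cover (I K q) :=
  Pi.π (fun q : ULift.{v} {q : ℤ // q < p} => cover (I K q.down.1)) ⟨⟨q, h⟩⟩

/-- The forgetful map. -/
noncomputable def restr {p p' : ℤ} (h : p ≤ p') : Cov K p' ⟶ Cov K p :=
  Pi.lift fun q => pr K q.down.1 (q.down.2.trans_le h)

@[reassoc]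
lemma restr_pr {p p' : ℤ} (h : p ≤ p') (q : ℤ) (hq : q < p) :
    restr K h ≫ pr K q hq = pr K q (hq.trans_le h) :=
  Pi.lift_π _ _

/-- Extension by zero. -/
noncomputable def ext (p p' : ℤ) : Cov K p ⟶ Cov K p' :=
  Pi.lift fun q => if h : q.down.1 < p then pr K q.down.1 h else 0

@[reassoc]
lemma ext_pr {p p' : ℤ} (q : ℤ) (hq : q < p') :
    ext K p p' ≫ pr K q hq = if h : q < p then pr K q h else 0 :=
  Pi.lift_π _ _

/-- A summand of the correction term. -/
noncomputable def term (p p' q : ℤ) : Cov K p' ⟶ I K p :=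
  if h : p ≤ q ∧ q < p' then pr K q h.2 ≫ coverMap (I K q) ≫ f K h.1 else 0

/-- The correction term. -/
noncomputable def corr (p p' : ℤ) : Cov K p' ⟶ I K p := ∑ q ∈ Finset.Ico p p', term K p p' q

lemma corr_trans {p p' p'' : ℤ} (h : p ≤ p') (h' : p' ≤ p'') :
    corr K p' p'' ≫ f K h + restr K h' ≫ corr K p p' = corr K p p'' := by
  simp only [corr, Preadditive.sum_comp, Preadditive.comp_sum]
  rw [← Finset.Ico_union_Ico_eq_Ico h h', Finset.sum_union (Finset.Ico_disjoint_Ico_consecutive _ _ _),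
    add_comm]
  congr 1
  · refine Finset.sum_congr rfl fun q hq => ?_
    obtain ⟨h1, h2⟩ := Finset.mem_Ico.1 hq
    rw [term, term, dif_pos ⟨h1, h2⟩, dif_pos ⟨h1, h2.trans_le h'⟩, restr_pr_assoc]
  · refine Finset.sum_congr rfl fun q hq => ?_
    obtain ⟨h1, h2⟩ := Finset.mem_Ico.1 hq
    rw [term, term, dif_pos ⟨h1, h2⟩, dif_pos ⟨h.trans h1, h2⟩, Category.assoc, Category.assoc,
      f_trans]

/-- The stages. -/
noncomputable abbrev J (p : ℤ) : CochainComplex A ℤ := I K p ⊞ Cov K p

/-- The transition maps. -/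
noncomputable def t {p p' : ℤ} (h : p ≤ p') : J K p' ⟶ J K p :=
  biprod.lift (biprod.fst ≫ f K h + biprod.snd ≫ corr K p p') (biprod.snd ≫ restr K h)

lemma t_refl (p : ℤ) : t K (le_refl p) = 𝟙 _ := by
  have h1 : restr K (le_refl p) = 𝟙 _ := Pi.hom_ext _ _ fun q => by
    rw [Category.id_comp]
    exact restr_pr K _ _ q.down.2
  apply biprod.hom_ext
  · simp [t, corr, f_refl]
  · simp [t, h1]

lemma t_trans {p p' p'' : ℤ} (h : p ≤ p') (h' : p' ≤ p'') : t K h' ≫ t K h = t K (h.trans h') := by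
  have h1 : restr K h' ≫ restr K h = restr K (h.trans h') := Pi.hom_ext _ _ fun q => by
    rw [Category.assoc]
    exact (congrArg (restr K h' ≫ ·) (restr_pr K h _ q.down.2)).trans
      ((restr_pr K h' _ _).trans (restr_pr K (h.trans h') _ q.down.2).symm)
  apply biprod.hom_ext
  · simp [t, ← corr_trans K h h', f_trans, add_assoc]
  · simp [t, h1]

/-- The tower. -/
noncomputable def T : ℤᵒᵖ ⥤ CochainComplex A ℤ where
  obj p := J K p.unop
  map h := t K (leOfHom h.unop)
  map_id p := t_refl K p.unop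
  map_comp a b := (t_trans K (leOfHom b.unop) (leOfHom a.unop)).symm

lemma isSplitEpi_t {p p' : ℤ} (h : p ≤ p') (n : ℤ) : IsSplitEpi ((t K h).f n) := by
  rcases h.eq_or_lt with rfl | hlt
  · rw [t_refl]
    exact ⟨⟨⟨𝟙 _, by simp⟩⟩⟩
  · let ins : cover (I K p) ⟶ Cov K p' := Pi.lift fun q =>
      if hq : q.down.1 = p then eqToHom (by rw [hq]) else 0
    have hins : ∀ (q : ℤ) (hq : q < p'), q ≠ p → ins ≫ pr K q hq = 0 := fun q hq hne => by
      rw [Pi.lift_π, dif_neg hne]
    have hins' : ins ≫ pr K p hlt = 𝟙 _ := by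
      rw [Pi.lift_π, dif_pos rfl, eqToHom_refl]
    have hins2 : (ins ≫ biprod.inr) ≫ t K h = coverMap (I K p) ≫ biprod.inl := by
      apply biprod.hom_ext
      · simp [t, corr, Preadditive.comp_sum]
        rw [Finset.sum_eq_single p]
        · rw [term, dif_pos ⟨le_refl p, hlt⟩, reassoc_of% hins', f_refl, Category.comp_id]
        · intro q hq hne
          rw [term, dif_pos (Finset.mem_Ico.1 hq), reassoc_of% (hins q _ hne), zero_comp]
        · intro hp
          exact absurd (Finset.mem_Ico.2 ⟨le_refl p, hlt⟩) hp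
      · simp [t]
        refine Pi.hom_ext _ _ fun q => ?_
        rw [Category.assoc, zero_comp]
        exact (congrArg (ins ≫ ·) (restr_pr K h _ q.down.2)).trans
          (hins _ _ (by have := q.down.2; omega))
    have hext : (ext K p p' ≫ biprod.inr) ≫ t K h = biprod.inr := by
      apply biprod.hom_ext
      · simp [t, corr, Preadditive.comp_sum]
        refine Finset.sum_eq_zero fun q hq => ?_
        obtain ⟨h1, h2⟩ := Finset.mem_Ico.1 hq
        rw [term, dif_pos ⟨h1, h2⟩, ext_pr_assoc, dif_neg (by omega), zero_comp]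
      · simp [t]
        refine Pi.hom_ext _ _ fun q => ?_
        rw [Category.assoc, Category.id_comp]
        exact (congrArg (ext K p p' ≫ ·) (restr_pr K h _ q.down.2)).trans
          ((ext_pr K _ _).trans (dif_pos q.down.2))
    haveI := isSplitEpi_coverMap (I K p) n
    refine ⟨⟨⟨(biprod.fst : J K p ⟶ I K p).f n ≫ section_ ((coverMap (I K p)).f n) ≫
      (ins ≫ biprod.inr).f n + (biprod.snd : J K p ⟶ Cov K p).f n ≫ (ext K p p' ≫ biprod.inr).f n,
      ?_⟩⟩⟩
    rw [Preadditive.add_comp, Category.assoc, Category.assoc, Category.assoc,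
      ← HomologicalComplex.comp_f, hins2, ← HomologicalComplex.comp_f, hext,
      HomologicalComplex.comp_f, IsSplitEpi.id_assoc, HomologicalComplex.biprod_total_f]

lemma hasAcyclicExtension_J (p : ℤ) : HasAcyclicExtension (J K p) :=
  hasAcyclicExtension_biprod (hasAcyclicExtension_injRes _)
    (hasAcyclicExtension_pi _ fun q => cover_hasAcyclicExtension (I K q.down.1))

lemma nullHomotopic_Cov (p : ℤ) : Nonempty (Homotopy (𝟙 (Cov K p)) 0) :=
  nullHomotopic_id_pi _ fun q => cover_nullHomotopic (I K q.down.1)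

omit [IsGrothendieckAbelian.{v} A] in
lemma quasiIso_inl {X C : CochainComplex A ℤ} (h : Nonempty (Homotopy (𝟙 C) 0)) :
    QuasiIso (biprod.inl : X ⟶ X ⊞ C) := by
  obtain ⟨H⟩ := h
  rw [quasiIso_iff]
  intro k
  rw [quasiIsoAt_iff_isIso_homologyMap]
  refine ⟨HomologicalComplex.homologyMap biprod.fst k, ?_, ?_⟩
  · rw [← HomologicalComplex.homologyMap_comp, biprod.inl_fst, HomologicalComplex.homologyMap_id]
  · have hC : HomologicalComplex.homologyMap (biprod.snd : X ⊞ C ⟶ C) k = 0 := by
      rw [← Category.comp_id (biprod.snd : X ⊞ C ⟶ C), HomologicalComplex.homologyMap_comp,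
        H.homologyMap_eq k, HomologicalComplex.homologyMap_zero, comp_zero]
    rw [← HomologicalComplex.homologyMap_comp, ← HomologicalComplex.homologyMap_id,
      ← biprod.total (X := X) (Y := C), HomologicalComplex.homologyMap_add,
      HomologicalComplex.homologyMap_comp (biprod.snd : X ⊞ C ⟶ C), hC, zero_comp, add_zero]

/-- The limit of the tower. -/
noncomputable abbrev L : CochainComplex A ℤ := limit (T K)

lemma isSplitEpi_tr (n : ℤ) {p q : ℤ} (h : p ≤ q) :
    IsSplitEpi (IntLimit.tr (T K ⋙ HomologicalComplex.eval A (ComplexShape.up ℤ) n) h) :=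
  isSplitEpi_t K h n

instance injective_L (n : ℤ) : Injective ((L K).X n) := by
  haveI : ∀ q : ℤᵒᵖ, Injective ((T K ⋙ HomologicalComplex.eval A (ComplexShape.up ℤ) n).obj q) :=
    fun q => ((isKInjective_and_injective_iff _).2 (hasAcyclicExtension_J K q.unop)).2 n
  exact IntLimit.injective_pt (isLimitOfPreserves _ (limit.isLimit (T K)))
    (fun h => isSplitEpi_tr K n h)

lemma isSplitEpi_limit_π (p n : ℤ) : IsSplitEpi ((limit.π (T K) (op p)).f n) :=
  IntLimit.isSplitEpi_π (isLimitOfPreserves (HomologicalComplex.eval A (ComplexShape.up ℤ) n)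
    (limit.isLimit (T K))) (fun h => isSplitEpi_tr K n h) p

/-- The total object. -/
noncomputable abbrev Jtop : CochainComplex A ℤ := injRes.obj K.obj ⊞ cover (L K)

/-- The projections. -/
noncomputable def πtop (p : ℤ) : Jtop K ⟶ J K p :=
  biprod.desc (injRes.map (cokernel.π (K.fil p).arrow) ≫ biprod.inl)
    (coverMap (L K) ≫ limit.π (T K) (op p))

lemma inl_t {p p' : ℤ} (h : p ≤ p') :
    (biprod.inl : I K p' ⟶ J K p') ≫ t K h = f K h ≫ biprod.inl := by
  apply biprod.hom_ext <;> simp [t]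

lemma πtop_t {p p' : ℤ} (h : p ≤ p') : πtop K p' ≫ t K h = πtop K p := by
  apply biprod.hom_ext'
  · simp only [πtop, biprod.inl_desc_assoc, biprod.inl_desc, Category.assoc, inl_t, f]
    rw [← Functor.map_comp_assoc]
    simp [SpSeq.FilObj.quotMap]
  · simp only [πtop, biprod.inr_desc_assoc, biprod.inr_desc, Category.assoc]
    exact congrArg (coverMap (L K) ≫ ·) (limit.w (T K) (homOfLE h).op)

lemma isSplitEpi_πtop (p n : ℤ) : IsSplitEpi ((πtop K p).f n) := by
  obtain ⟨⟨s, hs⟩⟩ := isSplitEpi_limit_π K p n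
  haveI := isSplitEpi_coverMap (L K) n
  refine ⟨⟨⟨s ≫ section_ ((coverMap (L K)).f n) ≫
    (biprod.inr : cover (L K) ⟶ Jtop K).f n, ?_⟩⟩⟩
  rw [Category.assoc, Category.assoc, ← HomologicalComplex.comp_f, πtop, biprod.inr_desc,
    HomologicalComplex.comp_f, IsSplitEpi.id_assoc]
  exact hs

lemma hasAcyclicExtension_Jtop : HasAcyclicExtension (Jtop K) :=
  hasAcyclicExtension_biprod (hasAcyclicExtension_injRes _) (cover_hasAcyclicExtension (L K))

end Groth.Agent.TriH.FilRes
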