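import Groth.Agent.TriH.FinDimDer
import Mathlib.Algebra.Homology.DerivedCategory.ShortExact
import Mathlib.CategoryTheory.Abelian.RightDerived

/-!
# Iterated cokernels of embeddings into contractible complexes and connecting morphisms
-/

set_option autoImplicit false
set_option linter.style.haveILetI false
set_option linter.unusedSectionVars false

open CategoryTheory CategoryTheory.Limits

namespace Groth.Agent.TriH.FinDimTower

universe w w' v v' u u'

open ClassRes

variable {A : Type u} [Category.{v} A] [Abelian A] [EnoughInjectives A]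

noncomputable abbrev W (K : CochainComplex A ℤ) : ℤ → A := fun p => Injective.under (K.X p)

noncomputable abbrev emb (K : CochainComplex A ℤ) : K ⟶ disk (W K) :=
  toDisk fun p => Injective.ι (K.X p)

instance (K : CochainComplex A ℤ) : Mono (emb K) :=
  HomologicalComplex.mono_of_mono_f _ fun p => by
    haveI : Mono ((emb K).f p ≫ (biprod.fst : W K p ⊞ W K (p + 1) ⟶ W K p)) := by
      show Mono (biprod.lift _ _ ≫ biprod.fst)
      rw [biprod.lift_fst]; infer_instance
    exact mono_of_mono _ (biprod.fst : W K p ⊞ W K (p + 1) ⟶ W K p)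

/-- `K ⟶ disk ⟶ next K`. -/
noncomputable abbrev stepSES (K : CochainComplex A ℤ) : ShortComplex (CochainComplex A ℤ) :=
  ShortComplex.mk (emb K) (cokernel.π (emb K)) (cokernel.condition _)

lemma stepSES_shortExact (K : CochainComplex A ℤ) : (stepSES K).ShortExact :=
  { exact := ShortComplex.exact_cokernel _ }

lemma exists_step_map {K L : CochainComplex A ℤ} (f : K ⟶ L) :
    ∃ φ : stepSES K ⟶ stepSES L, φ.τ₁ = f := by
  let a : ∀ p, W K p ⟶ W L p := fun p =>
    Injective.factorThru (f.f p ≫ Injective.ι _) (Injective.ι _)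
  have ha : ∀ p, Injective.ι (K.X p) ≫ a p = f.f p ≫ Injective.ι _ := fun p =>
    Injective.comp_factorThru _ _
  let g : disk (W K) ⟶ disk (W L) :=
    { f := fun p => biprod.map (a p) (a (p + 1))
      comm' := fun i j hij => by
        change i + 1 = j at hij
        subst hij
        rw [disk_d, disk_d]
        apply biprod.hom_ext <;> simp }
  have hg : emb K ≫ g = f ≫ emb L := by
    apply HomologicalComplex.hom_ext
    intro p
    show biprod.lift _ _ ≫ biprod.map (a p) (a (p + 1)) = f.f p ≫ biprod.lift _ _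
    apply biprod.hom_ext <;> simp [ha]
  exact ⟨{ τ₁ := f, τ₂ := g, τ₃ := cokernel.map _ _ f g hg
           comm₁₂ := hg.symm
           comm₂₃ := by simp }, rfl⟩

/-- The tower. -/
noncomputable def tower : ℕ → CochainComplex A ℤ → CochainComplex A ℤ
  | 0, K => K
  | m + 1, K => tower m (stepSES K).X₃

lemma isZero_Q_disk [HasDerivedCategory.{w} A] (V : ℤ → A) :
    IsZero (DerivedCategory.Q.obj (disk V)) := by
  haveI : QuasiIso (0 : disk V ⟶ disk V) := by
    rw [quasiIso_iff]
    intro i
    rw [quasiIsoAt_iff_isIso_homologyMap]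
    exact ⟨⟨0, ((HomologicalComplex.exactAt_iff_isZero_homology _ _).1 (disk_acyclic V i)).eq_of_src _ _,
      ((HomologicalComplex.exactAt_iff_isZero_homology _ _).1 (disk_acyclic V i)).eq_of_src _ _⟩⟩
  haveI : IsIso (DerivedCategory.Q.map (0 : disk V ⟶ disk V)) := inferInstance
  rw [IsZero.iff_id_eq_zero, ← cancel_epi (DerivedCategory.Q.map (0 : disk V ⟶ disk V))]
  simp

instance isIso_δ [HasDerivedCategory.{w} A] (K : CochainComplex A ℤ) :
    IsIso (DerivedCategory.triangleOfSESδ (stepSES_shortExact K)) :=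
  (Pretriangulated.Triangle.isZero₂_iff_isIso₃ _
    (DerivedCategory.triangleOfSES_distinguished (stepSES_shortExact K))).1 (isZero_Q_disk (W K))

/-- `tower m K` is isomorphic to the shift of `K`. -/
noncomputable def shiftIso [HasDerivedCategory.{w} A] : ∀ (m : ℕ) (K : CochainComplex A ℤ),
    DerivedCategory.Q.obj (tower m K) ≅ (DerivedCategory.Q.obj K)⟦(m : ℤ)⟧
  | 0, K => ((shiftFunctorZero' (DerivedCategory A) ((0 : ℕ) : ℤ) rfl).app _).symm
  | m + 1, K => shiftIso m (stepSES K).X₃ ≪≫
      (shiftFunctor (DerivedCategory A) (m : ℤ)).mapIso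
        (asIso (DerivedCategory.triangleOfSESδ (stepSES_shortExact K))) ≪≫
      ((shiftFunctorAdd' (DerivedCategory A) 1 (m : ℤ) ((m + 1 : ℕ) : ℤ) (by push_cast; omega)).app _).symm

section

variable {B : Type u'} [Category.{v'} B] [Abelian B] (F : A ⥤ B) [F.Additive]

/-- Termwise `RᵐF`. -/
noncomputable abbrev R (m : ℕ) : CochainComplex A ℤ ⥤ CochainComplex B ℤ :=
  (F.rightDerived m).mapHomologicalComplex (ComplexShape.up ℤ)

/-- The termwise short exact sequence. -/
noncomputable abbrev termSES (K : CochainComplex A ℤ) (p : ℤ) : ShortComplex A :=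
  (stepSES K).map (HomologicalComplex.eval A (ComplexShape.up ℤ) p)

lemma termSES_shortExact (K : CochainComplex A ℤ) (p : ℤ) : (termSES K p).ShortExact :=
  (stepSES_shortExact K).map_of_exact _

/-- The termwise connecting morphism. -/
noncomputable def conn (m : ℕ) (K : CochainComplex A ℤ) :
    (R F m).obj (stepSES K).X₃ ⟶ (R F (m + 1)).obj K where
  f p := (RDer.derivedLES F).δ (termSES K p) (termSES_shortExact K p) m (m + 1) rfl
  comm' i j _ := by
    let φ : termSES K i ⟶ termSES K j :=
      { τ₁ := K.d i j, τ₂ := (stepSES K).X₂.d i j, τ₃ := (stepSES K).X₃.d i j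
        comm₁₂ := ((stepSES K).f.comm i j).symm
        comm₂₃ := ((stepSES K).g.comm i j).symm }
    exact ((RDer.derivedLES F).δ_natural (termSES_shortExact K i) (termSES_shortExact K j) φ m (m + 1) rfl).symm

lemma conn_naturality (m : ℕ) {K L : CochainComplex A ℤ} (φ : stepSES K ⟶ stepSES L) :
    (R F m).map φ.τ₃ ≫ conn F m L = conn F m K ≫ (R F (m + 1)).map φ.τ₁ := by
  ext p
  let ψ : termSES K p ⟶ termSES L p :=
    { τ₁ := φ.τ₁.f p, τ₂ := φ.τ₂.f p, τ₃ := φ.τ₃.f p
      comm₁₂ := congrArg (fun t => HomologicalComplex.Hom.f t p) φ.comm₁₂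
      comm₂₃ := congrArg (fun t => HomologicalComplex.Hom.f t p) φ.comm₂₃ }
  exact (RDer.derivedLES F).δ_natural (termSES_shortExact K p) (termSES_shortExact L p) ψ m (m + 1) rfl

/-- The composite connecting morphism. -/
noncomputable def eta : ∀ (m : ℕ) (K : CochainComplex A ℤ), (R F 0).obj (tower m K) ⟶ (R F m).obj K
  | 0, K => 𝟙 _
  | m + 1, K => eta m (stepSES K).X₃ ≫ conn F m K

lemma exists_tower_map [HasDerivedCategory.{w} A] : ∀ (m : ℕ) {K L : CochainComplex A ℤ} (f : K ⟶ L),
    ∃ g : tower m K ⟶ tower m L, (R F 0).map g ≫ eta F m L = eta F m K ≫ (R F m).map f ∧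
      DerivedCategory.Q.map g ≫ (shiftIso m L).hom =
        (shiftIso m K).hom ≫ (shiftFunctor (DerivedCategory A) (m : ℤ)).map (DerivedCategory.Q.map f) := by
  intro m
  induction m with
  | zero =>
    intro K L f
    exact ⟨f, (Category.comp_id _).trans (Category.id_comp _).symm, ((shiftFunctorZero' (DerivedCategory A) ((0 : ℕ) : ℤ) rfl).inv.naturality _)⟩
  | succ m ih =>
    intro K L f
    obtain ⟨φ, rfl⟩ := exists_step_map f
    obtain ⟨g, h₁, h₂⟩ := ih φ.τ₃
    refine ⟨g, ?_, ?_⟩
    · exact (Category.assoc _ _ _).symm.trans ((congrArg (· ≫ conn F m L) h₁).trans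
        ((Category.assoc _ _ _).trans ((congrArg (eta F m (stepSES K).X₃ ≫ ·)
          (conn_naturality F m φ)).trans (Category.assoc _ _ _).symm)))
    · simp only [shiftIso, Iso.trans_hom, Functor.mapIso_hom, asIso_hom, Iso.symm_hom, Iso.app_inv]
      refine (Category.assoc _ _ _).symm.trans ((congrArg (· ≫ _) h₂).trans
        ((Category.assoc _ _ _).trans ((congrArg ((shiftIso m (stepSES K).X₃).hom ≫ ·) ?_).trans
          (Category.assoc _ _ _).symm)))
      rw [← Functor.map_comp_assoc, ← DerivedCategory.triangleOfSESδ_naturality _ _ φ,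
        Functor.map_comp_assoc, Category.assoc]
      exact congrArg (_ ≫ ·)
        ((shiftFunctorAdd' (DerivedCategory A) 1 (m : ℤ) _ _).inv.naturality _)

lemma acyclic_R_disk (G : A ⥤ B) [G.Additive] (V : ℤ → A) :
    ((G.mapHomologicalComplex (ComplexShape.up ℤ)).obj (disk V)).Acyclic := by
  intro k
  obtain ⟨p, rfl⟩ : ∃ p, k = p + 1 := ⟨k - 1, by omega⟩
  rw [HomologicalComplex.exactAt_iff' _ p (p + 1) (p + 1 + 1) (by simp) (by simp),
    ShortComplex.exact_iff_exact_up_to_refinements]
  intro T x hx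
  change T ⟶ G.obj (V (p + 1) ⊞ V (p + 1 + 1)) at x
  refine ⟨T, 𝟙 T, inferInstance, x ≫ G.map (biprod.fst ≫ biprod.inr), ?_⟩
  change x ≫ G.map ((disk V).d (p + 1) (p + 1 + 1)) = 0 at hx
  show 𝟙 T ≫ x = (x ≫ G.map (biprod.fst ≫ biprod.inr)) ≫ G.map ((disk V).d p (p + 1))
  rw [disk_d] at hx ⊢
  have hx' : x ≫ G.map biprod.snd = 0 := by
    rw [← cancel_mono (G.map (biprod.inl : V (p + 1 + 1) ⟶ V (p + 1 + 1) ⊞ V (p + 1 + 1 + 1))), zero_comp,
      Category.assoc, ← G.map_comp]
    exact hx
  rw [Category.id_comp, Category.assoc, ← G.map_comp, Category.assoc, biprod.inr_snd_assoc]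
  conv_lhs => rw [← Category.comp_id x, ← G.map_id, ← biprod.total, G.map_add, Preadditive.comp_add,
    G.map_comp biprod.snd, reassoc_of% hx', zero_comp, add_zero]

lemma quasiIso_of_exact_four {a b c d : CochainComplex B ℤ} (f : a ⟶ b) (g : b ⟶ c) (h : c ⟶ d)
    [Mono f] [Epi h] (w₁ : f ≫ g = 0) (w₂ : g ≫ h = 0) (e₁ : (ShortComplex.mk f g w₁).Exact)
    (e₂ : (ShortComplex.mk g h w₂).Exact) (ha : a.Acyclic) (hb : b.Acyclic) : QuasiIso h := by
  let g' : b ⟶ kernel h := kernel.lift h g w₂
  haveI : Epi g' := e₂.epi_kernelLift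
  let S₁ : ShortComplex (CochainComplex B ℤ) :=
    ShortComplex.mk f g' (by rw [← cancel_mono (kernel.ι h)]; simp [g', w₁])
  have hS₁ : S₁.ShortExact :=
    { exact := by
        let φ : S₁ ⟶ ShortComplex.mk f g w₁ :=
          { τ₁ := 𝟙 _, τ₂ := 𝟙 _, τ₃ := kernel.ι h }
        haveI : Epi φ.τ₁ := inferInstanceAs (Epi (𝟙 _))
        haveI : IsIso φ.τ₂ := inferInstanceAs (IsIso (𝟙 _))
        haveI : Mono φ.τ₃ := inferInstanceAs (Mono (kernel.ι h))
        exact (ShortComplex.exact_iff_of_epi_of_isIso_of_mono φ).2 e₁ }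
  have hk : (kernel h).Acyclic := fun k => by
    rw [HomologicalComplex.exactAt_iff_isZero_homology]
    exact (hS₁.homology_exact₃ k (k + 1) rfl).isZero_X₂
      (((HomologicalComplex.exactAt_iff_isZero_homology _ _).1 (hb k)).eq_of_src _ _)
      (((HomologicalComplex.exactAt_iff_isZero_homology _ _).1 (ha (k + 1))).eq_of_tgt _ _)
  exact SESRes.quasiIso_g (S := ShortComplex.mk (kernel.ι h) h (kernel.condition h))
    { exact := ShortComplex.exact_of_f_is_kernel _ (kernelIsKernel h) } hk

lemma mono_rightDerived_zero (S : ShortComplex A) (hS : S.ShortExact) :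
    Mono ((F.rightDerived 0).map S.f) := (rightDerived_zero_exact_and_mono F S hS).2

theorem quasiIso_eta : ∀ (m : ℕ) (K : CochainComplex A ℤ),
    (∀ i, i ≠ 0 → i ≠ m → ∀ p, IsZero ((F.rightDerived i).obj (K.X p))) →
    (0 < m → ((R F 0).obj K).Acyclic) → QuasiIso (eta F m K) := by
  intro m
  induction m with
  | zero => intro K _ _; exact inferInstanceAs (QuasiIso (𝟙 _))
  | succ m ih =>
    intro K hK hK₀
    let Δ := RDer.derivedLES F
    have hD : ∀ i p, 0 < i → IsZero ((F.rightDerived i).obj ((stepSES K).X₂.X p)) := fun i p hi => by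
      haveI : PreservesBinaryBiproduct (W K p) (W K (p + 1)) (F.rightDerived i) :=
        preservesBinaryBiproduct_of_preservesBiproduct _ _ _
      exact IsZero.of_iso ((biprod_isZero_iff _ _).2
        ⟨isAcyclicObj_of_injective F (W K p) i hi, isAcyclicObj_of_injective F (W K (p + 1)) i hi⟩)
        ((F.rightDerived i).mapBiprod (W K p) (W K (p + 1)))
    haveI : ∀ p, Mono (((R F 0).map (stepSES K).f).f p) := fun p =>
      mono_rightDerived_zero F _ (termSES_shortExact K p)
    haveI : Mono ((R F 0).map (stepSES K).f) := HomologicalComplex.mono_of_mono_f _ inferInstance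
    have w : (R F 0).map (stepSES K).f ≫ (R F 0).map (stepSES K).g = 0 := by
      rw [← Functor.map_comp, (stepSES K).zero, Functor.map_zero]
    have e₁ : (ShortComplex.mk _ _ w).Exact :=
      HomologicalComplex.exact_of_degreewise_exact _ fun p => Δ.exact₂ _ (termSES_shortExact K p) 0
    have hnext : ∀ i, i ≠ 0 → i ≠ m → ∀ p, IsZero ((F.rightDerived i).obj ((stepSES K).X₃.X p)) :=
      fun i h₀ hm p => (Δ.exact₃ _ (termSES_shortExact K p) i (i + 1) rfl).isZero_X₂
        ((hD i p (by omega)).eq_of_src _ _) ((hK (i + 1) (by omega) (by omega) p).eq_of_tgt _ _)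
    rcases Nat.eq_zero_or_pos m with rfl | hm
    · have w₂ : (R F 0).map (stepSES K).g ≫ conn F 0 K = 0 := by
        ext p
        exact Δ.comp_δ _ (termSES_shortExact K p) 0 1 rfl
      haveI : Epi (conn F 0 K) := HomologicalComplex.epi_of_epi_f _ fun p =>
        (Δ.exact₁ _ (termSES_shortExact K p) 0 1 rfl).epi_f ((hD 1 p Nat.one_pos).eq_of_tgt _ _)
      haveI : QuasiIso (conn F 0 K) := quasiIso_of_exact_four _ _ _ w w₂ e₁
        (HomologicalComplex.exact_of_degreewise_exact _ fun p => Δ.exact₃ _ (termSES_shortExact K p) 0 1 rfl)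
        (hK₀ Nat.one_pos) (acyclic_R_disk _ _)
      exact inferInstanceAs (QuasiIso (𝟙 _ ≫ conn F 0 K))
    · haveI : Epi ((R F 0).map (stepSES K).g) := HomologicalComplex.epi_of_epi_f _ fun p =>
        (Δ.exact₃ _ (termSES_shortExact K p) 0 1 rfl).epi_f
          ((hK 1 Nat.one_ne_zero (by omega) p).eq_of_tgt _ _)
      have hS : (ShortComplex.mk _ _ w).ShortExact := { exact := e₁ }
      have hnext₀ : ((R F 0).obj (stepSES K).X₃).Acyclic := fun k => by
        rw [HomologicalComplex.exactAt_iff_isZero_homology]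
        exact (hS.homology_exact₃ k (k + 1) rfl).isZero_X₂
          (((HomologicalComplex.exactAt_iff_isZero_homology _ _).1 (acyclic_R_disk _ _ k)).eq_of_src _ _)
          (((HomologicalComplex.exactAt_iff_isZero_homology _ _).1 (hK₀ (Nat.succ_pos m) (k + 1))).eq_of_tgt _ _)
      haveI := ih _ hnext (fun _ => hnext₀)
      haveI : ∀ p, IsIso ((conn F m K).f p) := fun p => by
        haveI : Mono ((conn F m K).f p) :=
          (Δ.exact₃ _ (termSES_shortExact K p) m (m + 1) rfl).mono_g ((hD m p hm).eq_of_src _ _)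
        haveI : Epi ((conn F m K).f p) :=
          (Δ.exact₁ _ (termSES_shortExact K p) m (m + 1) rfl).epi_f ((hD (m + 1) p (Nat.succ_pos m)).eq_of_tgt _ _)
        exact isIso_of_mono_of_epi _
      haveI : IsIso (conn F m K) := HomologicalComplex.Hom.isIso_of_components _
      exact inferInstanceAs (QuasiIso (eta F m (stepSES K).X₃ ≫ conn F m K))

theorem acyclic_tower : ∀ (m n : ℕ) (K : CochainComplex A ℤ),
    (∀ i, n + m < i → ∀ p, IsZero ((F.rightDerived i).obj (K.X p))) →
    ∀ i, n < i → ∀ p, IsZero ((F.rightDerived i).obj ((tower m K).X p)) := by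
  intro m
  induction m with
  | zero => intro n K h; exact h
  | succ m ih =>
    intro n K h
    refine ih n _ fun i hi p => ?_
    refine ((RDer.derivedLES F).exact₃ _ (termSES_shortExact K p) i (i + 1) rfl).isZero_X₂ ?_
      ((h (i + 1) (by omega) p).eq_of_tgt _ _)
    haveI : PreservesBinaryBiproduct (W K p) (W K (p + 1)) (F.rightDerived i) :=
      preservesBinaryBiproduct_of_preservesBiproduct _ _ _
    exact (IsZero.of_iso ((biprod_isZero_iff _ _).2
      ⟨isAcyclicObj_of_injective F (W K p) i (by omega), isAcyclicObj_of_injective F (W K (p + 1)) i (by omega)⟩)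
      ((F.rightDerived i).mapBiprod (W K p) (W K (p + 1)))).eq_of_src _ _

end

end Groth.Agent.TriH.FinDimTower
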