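import Groth.Agent.TriH.KInjExist
import Groth.Agent.TriH.DerivedProducts
import Groth.Agent.TriH.OrthDecomp

/-!
# Reflection onto the right orthogonal of a set of objects

In the derived category of a Grothendieck abelian category the full subcategory of objects
receiving only zero morphisms from all shifts of a small family of complexes is reflective
(small object argument).
-/

set_option autoImplicit false

open CategoryTheory CategoryTheory.Limits CochainComplex CochainComplex.HomComplex ZeroObject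

namespace Groth.Agent.TriH.ReflectGen

universe w v u

variable {A : Type u} [Category.{v} A] [Abelian A]

section Path

variable (G : CochainComplex A ℤ)

/-- The path fibration `P(G) ⟶ G⟦1⟧`. -/
noncomputable def pathProj : mappingCone (𝟙 G) ⟶ G⟦(1 : ℤ)⟧ :=
  Cocycle.homOf ((mappingCone.fst (𝟙 G)).rightShift 1 0 (zero_add 1))

lemma pathProj_f (q q' : ℤ) (h : q + 1 = q') :
    (pathProj G).f q = (mappingCone.fst (𝟙 G)).1.v q q' h ≫ (G.shiftFunctorObjXIso 1 q q' h.symm).inv :=
  Cochain.rightShift_v _ 1 0 (zero_add 1) q q (add_zero q) q' h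

variable {G} {X Y : CochainComplex A ℤ} (j : X ⟶ Y)

/-- Cocycles of degree one on `Y` vanishing on `X` are coboundaries of cochains vanishing on `X`. -/
def RelExact (j : X ⟶ Y) (G : CochainComplex A ℤ) : Prop :=
  ∀ γ : Cocycle Y G 1, (Cochain.ofHom j).comp γ.1 (zero_add 1) = 0 →
    ∃ η : Cochain Y G 0, (Cochain.ofHom j).comp η (zero_add 0) = 0 ∧ δ 0 1 η = γ.1

lemma exists_extend_cochain [∀ p, Mono (j.f p)] [∀ p, Injective (G.X p)] {n : ℤ} (z : Cochain X G n) :
    ∃ z' : Cochain Y G n, (Cochain.ofHom j).comp z' (zero_add n) = z :=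
  ⟨Cochain.mk fun p q h => Injective.factorThru (z.v p q h) (j.f p), by
    ext p q h
    simp⟩

/-- The path fibration has the right lifting property against `j`. -/
lemma hasLiftingProperty_pathProj [∀ p, Mono (j.f p)] [∀ p, Injective (G.X p)] (h : RelExact j G) :
    HasLiftingProperty j (pathProj G) where
  sq_hasLift {a v} sq := by
    let α : Cocycle Y G 1 := (Cocycle.ofHom v).rightUnshift 1 (zero_add 1)
    have hα : (Cochain.ofHom j).comp α.1 (zero_add 1) =
        (Cochain.ofHom a).comp (mappingCone.fst (𝟙 G)).1 (zero_add 1) := by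
      ext p q hpq
      have hw := congrArg (fun k => k ≫ (G.shiftFunctorObjXIso 1 p q hpq.symm).hom)
        (congrArg (fun k => HomologicalComplex.Hom.f k p) sq.w)
      simp only [HomologicalComplex.comp_f, pathProj_f G p q hpq, Category.assoc, Iso.inv_hom_id,
        Category.comp_id] at hw
      simp only [Cochain.zero_cochain_comp_v, Cochain.ofHom_v, α, Cocycle.rightUnshift_coe,
        Cocycle.ofHom_coe, Cochain.rightUnshift_v _ 1 (zero_add 1) p q hpq p (add_zero p)]
      exact hw.symm
    let β₀ := (Cochain.ofHom a).comp (mappingCone.snd (𝟙 G)) (zero_add 0)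
    have hβ₀ : δ 0 1 β₀ = -(Cochain.ofHom j).comp α.1 (zero_add 1) := by
      rw [hα, δ_ofHom_comp, mappingCone.δ_snd, Cochain.comp_neg]
      simp
    obtain ⟨β', hβ'⟩ := exists_extend_cochain j β₀
    let γ : Cocycle Y G 1 := Cocycle.mk (-α.1 - δ 0 1 β') 2 rfl (by simp [δ_δ])
    have hγ : (Cochain.ofHom j).comp γ.1 (zero_add 1) = 0 := by
      change (Cochain.ofHom j).comp (-α.1 - δ 0 1 β') (zero_add 1) = 0
      rw [Cochain.comp_sub, Cochain.comp_neg, ← δ_ofHom_comp, hβ', hβ₀, sub_self]
    obtain ⟨η, hη₀, hη⟩ := h γ hγ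
    have heq : δ 0 1 (β' + η) + α.1.comp (Cochain.ofHom (𝟙 G)) (add_zero 1) = 0 := by
      rw [δ_add, hη]
      change δ 0 1 β' + (-α.1 - δ 0 1 β') + _ = 0
      simp
    refine ⟨⟨⟨mappingCone.lift (𝟙 G) α (β' + η) heq, ?_, ?_⟩⟩⟩
    · refine HomologicalComplex.hom_ext _ _ fun p => ?_
      rw [mappingCone.ext_to_iff (𝟙 G) p (p + 1) rfl]
      refine ⟨?_, ?_⟩
      · simpa using Cochain.congr_v hα p (p + 1) rfl
      · have h1 := Cochain.congr_v hβ' p p (add_zero p)
        have h2 := Cochain.congr_v hη₀ p p (add_zero p)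
        simp only [β₀, Cochain.zero_cochain_comp_v, Cochain.ofHom_v, Cochain.zero_v] at h1 h2
        simp [h1, h2]
    · refine HomologicalComplex.hom_ext _ _ fun p => ?_
      rw [HomologicalComplex.comp_f, pathProj_f G p (p + 1) rfl, mappingCone.lift_f_fst_v_assoc]
      simp only [α, Cocycle.rightUnshift_coe, Cocycle.ofHom_coe,
        Cochain.rightUnshift_v _ 1 (zero_add 1) p (p + 1) rfl p (add_zero p), Cochain.ofHom_v,
        Category.assoc, Iso.hom_inv_id, Category.comp_id]

/-- Relative exactness for a monomorphism with acyclic cokernel. -/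
lemma relExact_of_acyclic [Mono j] (hj : (cokernel j).Acyclic) [G.IsKInjective] : RelExact j G := by
  intro γ hγ
  let π := cokernel.π j
  have hex : ∀ p, (ShortComplex.mk (j.f p) (π.f p)
      (by rw [← HomologicalComplex.comp_f, cokernel.condition, HomologicalComplex.zero_f])).Exact :=
    fun p => (ShortComplex.exact_cokernel j).map (HomologicalComplex.eval A (ComplexShape.up ℤ) p)
  have hepi : ∀ p, Epi (π.f p) := fun p =>
    inferInstanceAs (Epi ((HomologicalComplex.eval A (ComplexShape.up ℤ) p).map π))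
  have hγ' : ∀ p q (h : p + 1 = q), j.f p ≫ γ.1.v p q h = 0 := fun p q h => by
    simpa using Cochain.congr_v hγ p q h
  let γ₀ : Cochain (cokernel j) G 1 := Cochain.mk fun p q h =>
    haveI : Epi (ShortComplex.mk (j.f p) (π.f p)
      (by rw [← HomologicalComplex.comp_f, cokernel.condition, HomologicalComplex.zero_f])).g := hepi p
    (hex p).desc (γ.1.v p q h) (hγ' p q h)
  have hγ₀ : (Cochain.ofHom π).comp γ₀ (zero_add 1) = γ.1 := by
    ext p q h
    haveI : Epi (ShortComplex.mk (j.f p) (π.f p)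
      (by rw [← HomologicalComplex.comp_f, cokernel.condition, HomologicalComplex.zero_f])).g := hepi p
    simp only [Cochain.zero_cochain_comp_v, Cochain.ofHom_v, γ₀, Cochain.mk_v]
    exact (hex p).g_desc _ (hγ' p q h)
  have hz : δ 1 2 γ₀ = 0 := by
    have h := δ_ofHom_comp π γ₀ 2
    rw [hγ₀, Cocycle.δ_eq_zero] at h
    ext p q hpq
    haveI := hepi p
    rw [← cancel_epi (π.f p)]
    simpa using (Cochain.congr_v h p q hpq).symm
  obtain ⟨η, hη⟩ := IsKInjective.eq_δ_of_cocycle (Cocycle.mk γ₀ 2 rfl hz) hj 0 rfl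
  refine ⟨(Cochain.ofHom π).comp η (zero_add 0), ?_, ?_⟩
  · rw [← Cochain.comp_assoc_of_first_is_zero_cochain, ← Cochain.ofHom_comp, cokernel.condition,
      Cochain.ofHom_zero, Cochain.zero_comp]
  · rw [δ_ofHom_comp, hη]
    exact hγ₀

/-- Relative exactness for `S ⟶ cone (𝟙 S)`. -/
lemma relExact_inr {S : CochainComplex A ℤ} (hS : ∀ f : S ⟶ G, Nonempty (Homotopy f 0)) :
    RelExact (mappingCone.inr (𝟙 S)) G := by
  intro γ hγ
  let γ₁ := (mappingCone.inl (𝟙 S)).comp γ.1 (show (-1 : ℤ) + 1 = 0 by rfl)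
  have hγ₁ : δ 0 1 γ₁ = 0 := by
    simp only [γ₁]
    rw [δ_comp _ _ (show (-1 : ℤ) + 1 = 0 by rfl) 0 2 1 rfl rfl rfl, Cocycle.δ_eq_zero,
      Cochain.comp_zero, mappingCone.δ_inl, Category.id_comp, hγ, smul_zero, add_zero]
  obtain ⟨h⟩ := hS (Cocycle.homOf (Cocycle.mk γ₁ 1 rfl hγ₁))
  obtain ⟨z, hz⟩ := Cochain.equivHomotopy _ _ h
  simp only [Cochain.ofHom_zero, add_zero, Cocycle.cochain_ofHom_homOf_eq_coe] at hz
  refine ⟨(mappingCone.fst (𝟙 S)).1.comp z (show (1 : ℤ) + (-1) = 0 by rfl), ?_, ?_⟩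
  · rw [← Cochain.comp_assoc_of_first_is_zero_cochain]
    simp
  · rw [δ_comp _ _ (show (1 : ℤ) + (-1) = 0 by rfl) 2 0 1 rfl rfl rfl, Cocycle.δ_eq_zero,
      Cochain.zero_comp, smul_zero, add_zero, ← hz]
    change (mappingCone.fst (𝟙 S)).1.comp γ₁ (add_zero 1) = γ.1
    rw [mappingCone.ext_cochain_from_iff (𝟙 S) 0 1 rfl]
    refine ⟨?_, ?_⟩
    · simp [γ₁]
    · rw [hγ, ← Cochain.comp_assoc_of_first_is_zero_cochain]
      simp

end Path

variable [IsGrothendieckAbelian.{v} A] {ι : Type v} (S : ι → CochainComplex A ℤ)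

/-- The inclusions `Sᵢ⟦n⟧ ⟶ cone (𝟙 (Sᵢ⟦n⟧))`. -/
noncomputable def coneGens : MorphismProperty (CochainComplex A ℤ) :=
  MorphismProperty.ofHoms fun x : ι × ℤ => mappingCone.inr (𝟙 ((S x.1)⟦x.2⟧))

/-- The generating monomorphisms. -/
noncomputable def gens : MorphismProperty (CochainComplex A ℤ) :=
  acyclicGenMonos (separator A) ⊔ coneGens S

omit [IsGrothendieckAbelian.{v} A] in
lemma mono_inr_f (K : CochainComplex A ℤ) (n : ℤ) : Mono ((mappingCone.inr (𝟙 K)).f n) :=
  mono_of_mono_fac (mappingCone.inr_f_snd_v (𝟙 K) n)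

lemma gens_le : gens S ≤ MorphismProperty.monomorphisms _ := by
  rintro _ _ f (hf | hf)
  · exact acyclicGenMonos_le _ _ hf
  · cases hf
    exact HomologicalComplex.mono_of_mono_f _ (mono_inr_f _)

instance : MorphismProperty.IsSmall.{v} (gens S) := by
  have h : gens S = ⨆ b : Bool, cond b (acyclicGenMonos (separator A)) (coneGens S) :=
    (iSup_bool_eq (f := fun b => cond b (acyclicGenMonos (separator A)) (coneGens S))).symm
  haveI : MorphismProperty.IsSmall.{v} (coneGens S) := by
    dsimp [coneGens]; infer_instance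
  haveI : ∀ b : Bool, MorphismProperty.IsSmall.{v}
      (cond b (acyclicGenMonos (separator A)) (coneGens S)) := by
    rintro (_ | _) <;> dsimp <;> infer_instance
  rw [h]
  infer_instance

instance : MorphismProperty.HasSmallObjectArgument.{v} (gens S) := by
  obtain ⟨κ, hκ', hκ⟩ := HasCardinalLT.exists_regular_cardinal.{v}
    (Shrink.{v} (Subobject (Closure.bigGen (separator A))) ⊕
      Σ x : ι × ℤ, Shrink.{v} (Subobject ((S x.1)⟦x.2⟧)))
  have : Fact κ.IsRegular := ⟨hκ'⟩
  have : Nonempty κ.ord.ToType := by simpa using hκ'.ne_zero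
  have := WellFoundedLT.toOrderBot κ.ord.ToType
  exact ⟨κ, inferInstance, inferInstance,
    { preservesColimit {A' B' X Y} i hi f hf := by
        let hf' : (MorphismProperty.monomorphisms _).TransfiniteCompositionOfShape κ.ord.ToType f :=
          { toTransfiniteCompositionOfShape := hf.toTransfiniteCompositionOfShape
            map_mem j hj := by
              have := (hf.attachCells j hj).pushouts_coproducts
              refine (?_ : _ ≤ MorphismProperty.monomorphisms _) _ this
              simp only [MorphismProperty.pushouts_le_iff, MorphismProperty.coproducts_le_iff]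
              refine le_trans ?_ (gens_le S)
              rintro _ _ _ ⟨i⟩
              exact i.2 }
        have (j j' : κ.ord.ToType) (φ : j ⟶ j') : Mono (hf'.F.map φ) := hf'.mem_map φ
        apply IsGrothendieckAbelian.preservesColimit_coyoneda_obj_of_mono (Y := hf'.F) (κ := κ)
        rcases hi with hi | hi
        · obtain ⟨X'⟩ := hi
          exact Subobject.hasCardinalLT_of_mono
            ((hκ.of_injective _ Sum.inl_injective).of_injective _ (equivShrink _).injective) X'.1.arrow
        · obtain ⟨x⟩ := hi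
          exact (hκ.of_injective _ Sum.inr_injective).of_injective
            (fun P => (⟨x, equivShrink _ P⟩ : Σ x : ι × ℤ, Shrink.{v} (Subobject ((S x.1)⟦x.2⟧))))
            (fun P Q h => (equivShrink _).injective (eq_of_heq (Sigma.mk.inj h).2)) }⟩

variable [HasDerivedCategory.{w} A]

/-- Objects receiving only zero morphisms from the shifts of the given complexes. -/
def orth : ObjectProperty (DerivedCategory A) := fun X =>
  ∀ (i : ι) (n : ℤ), Subsingleton (DerivedCategory.Q.obj (S i) ⟶ X⟦n⟧)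

variable {S}

lemma orth_shift {X : DerivedCategory A} (hX : orth S X) (k : ℤ) : orth S (X⟦k⟧) := fun i n =>
  haveI := hX i (k + n)
  (Iso.homToEquiv (Z := DerivedCategory.Q.obj (S i))
    (((CategoryTheory.shiftFunctorAdd (DerivedCategory A) k n).app X).symm)).subsingleton

lemma nonempty_homotopy_zero_of_orth {X : DerivedCategory A} (hX : orth S X) {F : CochainComplex A ℤ}
    [F.IsKInjective] (e : DerivedCategory.Q.obj F ≅ X) (i : ι) (n : ℤ) (f : (S i)⟦n⟧ ⟶ F) :
    Nonempty (Homotopy f 0) := by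
  rw [← Q_map_eq_zero_iff_of_isKInjective]
  haveI : Subsingleton ((DerivedCategory.Q.obj (S i))⟦n⟧ ⟶ X) :=
    haveI : Subsingleton (DerivedCategory.Q.obj (S i) ⟶ (shiftEquiv (DerivedCategory A) n).inverse.obj X) :=
      hX i (-n)
    ((shiftEquiv (DerivedCategory A) n).toAdjunction.homEquiv _ _).subsingleton
  rw [← cancel_mono e.hom, zero_comp,
    ← cancel_epi ((DerivedCategory.Q.commShiftIso n).app (S i)).inv, comp_zero]
  exact (‹Subsingleton ((DerivedCategory.Q.obj (S i))⟦n⟧ ⟶ X)›).elim _ _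

/-- The right orthogonal of a small family of objects is reflective. -/
theorem isRightAdjoint_orth : (orth S).ι.IsRightAdjoint := by
  rw [ι_isRightAdjoint_iff]
  intro X₀
  obtain ⟨K, ⟨e₀⟩⟩ : ∃ K, Nonempty (DerivedCategory.Q.obj K ≅ X₀) :=
    ⟨_, ⟨DerivedCategory.Q.objObjPreimageIso X₀⟩⟩
  let W := gens S
  let fd := MorphismProperty.factorizationData W.rlp.llp W.rlp (0 : K ⟶ 0)
  let E := fd.Z
  have hzero : IsZero (0 : CochainComplex A ℤ) := isZero_zero _
  have hW : acyclicGenMonos (separator A) ≤ W := le_sup_left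
  have hext : HasAcyclicExtension E := by
    intro T hT h3 φ
    haveI := hT.mono_f
    let i3 := IsColimit.coconePointUniqueUpToIso hT.gIsCokernel (cokernelIsCokernel T.f)
    haveI : HasLiftingProperty T.f fd.p :=
      llp_rlp_of_acyclic_cokernel (isSeparator_separator A) T.f (acyclic_of_iso i3 h3) fd.p
        (MorphismProperty.antitone_rlp hW _ fd.hp)
    have sq : CommSq φ T.f fd.p (0 : T.X₂ ⟶ 0) := ⟨hzero.eq_of_tgt _ _⟩
    exact ⟨sq.lift, sq.fac_left⟩
  haveI : E.IsKInjective := isKInjective_of_hasAcyclicExtension E hext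
  have hE : orth S (DerivedCategory.Q.obj E) := fun i n => by
    haveI : Subsingleton (DerivedCategory.Q.obj ((S i)⟦-n⟧) ⟶ DerivedCategory.Q.obj E) :=
      subsingleton_of_forall_eq 0 fun g => by
        obtain ⟨f, rfl⟩ := Q_map_surjective_of_isKInjective _ E g
        rw [Q_map_eq_zero_iff_of_isKInjective, nullHomotopic_iff_exists_extension]
        haveI : HasLiftingProperty (mappingCone.inr (𝟙 ((S i)⟦-n⟧))) fd.p :=
          fd.hp _ (Or.inr (MorphismProperty.ofHoms.mk (i, -n)))
        have sq : CommSq f (mappingCone.inr (𝟙 ((S i)⟦-n⟧))) fd.p 0 := ⟨hzero.eq_of_tgt _ _⟩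
        exact ⟨sq.lift, sq.fac_left⟩
    haveI : Subsingleton ((DerivedCategory.Q.obj (S i))⟦-n⟧ ⟶ DerivedCategory.Q.obj E) :=
      subsingleton_of_forall_eq 0 fun g => by
        rw [← cancel_epi ((DerivedCategory.Q.commShiftIso (-n)).app (S i)).hom, comp_zero]
        exact Subsingleton.elim (α := DerivedCategory.Q.obj ((S i)⟦-n⟧) ⟶ DerivedCategory.Q.obj E) _ _
    exact @Equiv.subsingleton _ _
      ((shiftEquiv' (DerivedCategory A) (-n) n (neg_add_cancel n)).toAdjunction.homEquiv
        (DerivedCategory.Q.obj (S i)) (DerivedCategory.Q.obj E)).symm ‹_›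
  refine ⟨DerivedCategory.Q.obj E, e₀.inv ≫ DerivedCategory.Q.map fd.i, hE, fun X hX => ?_⟩
  obtain ⟨G, r, hG, hr, -, hinj⟩ :=
    exists_kInjective_resolution (DerivedCategory.Q.objPreimage (X⟦(-1 : ℤ)⟧))
  let eG : DerivedCategory.Q.obj G ≅ X⟦(-1 : ℤ)⟧ :=
    (asIso (DerivedCategory.Q.map r)).symm ≪≫ DerivedCategory.Q.objObjPreimageIso _
  let F := G⟦(1 : ℤ)⟧
  let eF : DerivedCategory.Q.obj F ≅ X :=
    (DerivedCategory.Q.commShiftIso (1 : ℤ)).app G ≪≫ (CategoryTheory.shiftFunctor (DerivedCategory A) (1 : ℤ)).mapIso eG ≪≫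
      shiftNegShift X (1 : ℤ)
  haveI : ∀ p, Injective (G.X p) := hinj
  haveI : ∀ p, Injective (F.X p) := fun p => hinj _
  have hp : W.rlp (pathProj G) := by
    rintro _ _ j (hj | hj)
    · cases hj with
      | mk T =>
        haveI : ∀ p, Mono (T.1.arrow.f p) := fun p =>
          inferInstanceAs (Mono ((HomologicalComplex.eval A (ComplexShape.up ℤ) p).map T.1.arrow))
        exact hasLiftingProperty_pathProj _ (relExact_of_acyclic _ T.2)
    · cases hj with
      | mk x =>
        haveI : ∀ p, Mono ((mappingCone.inr (𝟙 ((S x.1)⟦x.2⟧))).f p) := mono_inr_f _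
        exact hasLiftingProperty_pathProj _
          (relExact_inr (nonempty_homotopy_zero_of_orth (orth_shift hX (-1)) eG x.1 x.2))
  have hF : W.rlp (0 : F ⟶ (0 : CochainComplex A ℤ)) := by
    rintro _ _ j (hj | hj)
    · cases hj with
      | mk T =>
        refine ⟨fun {a b} sq => ?_⟩
        have hS : (ShortComplex.mk T.1.arrow (cokernel.π T.1.arrow) (cokernel.condition _)).ShortExact :=
          { exact := ShortComplex.exact_cokernel _ }
        obtain ⟨l, hl⟩ := hasAcyclicExtension_of_isKInjective F _ hS T.2 a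
        exact ⟨⟨⟨l, hl, hzero.eq_of_tgt _ _⟩⟩⟩
    · cases hj with
      | mk x =>
        refine ⟨fun {a b} sq => ?_⟩
        obtain ⟨l, hl⟩ := (nullHomotopic_iff_exists_extension a).1
          (nonempty_homotopy_zero_of_orth hX eF x.1 x.2 a)
        exact ⟨⟨⟨l, hl, hzero.eq_of_tgt _ _⟩⟩⟩
  suffices h : Function.Bijective (fun l : DerivedCategory.Q.obj E ⟶ DerivedCategory.Q.obj F =>
      DerivedCategory.Q.map fd.i ≫ l) by
    have : (fun l : DerivedCategory.Q.obj E ⟶ X => (e₀.inv ≫ DerivedCategory.Q.map fd.i) ≫ l) =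
        (Iso.homCongr e₀ eF) ∘ (fun l => DerivedCategory.Q.map fd.i ≫ l) ∘
          (Iso.homCongr (Iso.refl _) eF.symm) := by
      funext l
      simp
    rw [this]
    exact (Iso.homCongr e₀ eF).bijective.comp (h.comp (Iso.homCongr _ eF.symm).bijective)
  haveI : HasLiftingProperty fd.i (0 : F ⟶ (0 : CochainComplex A ℤ)) := fd.hi _ hF
  haveI hmono : ∀ p, Mono (fd.i.f p) := fun p => by
    obtain ⟨q, rfl⟩ : ∃ q, p = q + 1 := ⟨p - 1, by omega⟩
    haveI : HasLiftingProperty fd.i (0 : disk (Injective.under (K.X (q + 1))) q ⟶ 0) :=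
      fd.hi _ fun _ _ j hj => by
        haveI : Mono j := gens_le S _ hj
        exact hasLiftingProperty_disk _ q j hzero _
    have sq : CommSq (toDisk (Injective.under (K.X (q + 1))) q (Injective.ι (K.X (q + 1)))) fd.i
        (0 : disk (Injective.under (K.X (q + 1))) q ⟶ 0) (0 : E ⟶ 0) := ⟨hzero.eq_of_tgt _ _⟩
    have h := congrArg (fun x => HomologicalComplex.Hom.f x (q + 1)) sq.fac_left
    simp only [HomologicalComplex.comp_f, toDisk_f₁] at h
    exact mono_of_mono_fac h
  haveI : HasLiftingProperty fd.i (pathProj G) := fd.hi _ hp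
  refine ⟨?_, fun y => ?_⟩
  · intro l₁ l₂ h
    obtain ⟨m, hm⟩ := Q_map_surjective_of_isKInjective E F (l₁ - l₂)
    have h0 : Nonempty (Homotopy (fd.i ≫ m) 0) := by
      rw [← Q_map_eq_zero_iff_of_isKInjective, Functor.map_comp, hm, Preadditive.comp_sub, sub_eq_zero]
      exact h
    obtain ⟨h0⟩ := h0
    obtain ⟨z, hz⟩ := Cochain.equivHomotopy _ _ h0
    rw [Cochain.ofHom_zero, add_zero] at hz
    obtain ⟨z', hz'⟩ := exists_extend_cochain fd.i z
    let d : Cocycle E F 0 := Cocycle.mk (δ (-1) 0 z') 1 rfl (δ_δ _ _ _ _)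
    let m' := m - Cocycle.homOf d
    have hgm : fd.i ≫ m' = 0 := by
      have h1 : Cochain.ofHom (fd.i ≫ Cocycle.homOf d) = Cochain.ofHom (fd.i ≫ m) := by
        rw [hz, Cochain.ofHom_comp, Cocycle.cochain_ofHom_homOf_eq_coe, ← hz', δ_ofHom_comp]
        rfl
      refine HomologicalComplex.hom_ext _ _ fun p => ?_
      have h2 := Cochain.congr_v h1 p p (add_zero p)
      simp only [Cochain.ofHom_v] at h2
      simp only [m', Preadditive.comp_sub, HomologicalComplex.sub_f_apply, h2, sub_self,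
        HomologicalComplex.zero_f]
    have sq : CommSq (0 : K ⟶ mappingCone (𝟙 G)) fd.i (pathProj G) m' := ⟨by rw [zero_comp, hgm]⟩
    have hcone : IsZero (DerivedCategory.Q.obj (mappingCone (𝟙 G))) :=
      (Pretriangulated.Triangle.isZero₃_iff_isIso₁ _
        (DerivedCategory.mappingCone_triangle_distinguished (𝟙 G))).2
        (by change IsIso (DerivedCategory.Q.map (𝟙 G)); infer_instance)
    have hd : DerivedCategory.Q.map (Cocycle.homOf d) = 0 :=
      (Q_map_eq_zero_iff_of_isKInjective _).2 ⟨(Cochain.equivHomotopy _ _).symm ⟨z', by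
        simp [d]⟩⟩
    have hm' : DerivedCategory.Q.map m = 0 := by
      have h3 : DerivedCategory.Q.map m' = 0 := by
        rw [← sq.fac_right, Functor.map_comp, hcone.eq_zero_of_tgt (DerivedCategory.Q.map sq.lift),
          zero_comp]
      rwa [Functor.map_sub, hd, sub_zero] at h3
    rwa [hm, sub_eq_zero] at hm'
  · obtain ⟨a, ha⟩ := Q_map_surjective_of_isKInjective K F y
    have sq : CommSq a fd.i (0 : F ⟶ (0 : CochainComplex A ℤ)) 0 := ⟨hzero.eq_of_tgt _ _⟩
    exact ⟨DerivedCategory.Q.map sq.lift, by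
      change DerivedCategory.Q.map fd.i ≫ DerivedCategory.Q.map sq.lift = y
      rw [← Functor.map_comp, sq.fac_left, ha]⟩

end Groth.Agent.TriH.ReflectGen
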