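import Groth.Agent.TriH.Coproduct
import Mathlib.CategoryTheory.Triangulated.HomologicalFunctor
import Mathlib.CategoryTheory.Triangulated.Opposite.Pretriangulated
import Mathlib.CategoryTheory.Triangulated.Yoneda
import Mathlib.CategoryTheory.Limits.Shapes.Opposites.Products
import Mathlib.CategoryTheory.Limits.Types.Limits
import Mathlib.Algebra.Category.Grp.Limits

/-! # Element-wise API for cohomological functors `Dᵒᵖ ⥤ AddCommGrpCat` -/

set_option linter.unusedSectionVars false

namespace Groth.Agent.TriH

open CategoryTheory CategoryTheory.Limits CategoryTheory.Pretriangulated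
open Opposite CategoryTheory.Pretriangulated.Opposite

universe w v' v u

variable {D : Type u} [Category.{v} D] (H : Dᵒᵖ ⥤ AddCommGrpCat.{v'})

/-- restriction map of a contravariant functor to abelian groups -/
def res {X Y : D} (f : X ⟶ Y) : H.obj (op Y) →+ H.obj (op X) := (H.map f.op).hom

@[simp] theorem res_id (X : D) (x : H.obj (op X)) : res H (𝟙 X) x = x := by
  simp [res]

@[simp] theorem res_comp {X Y Z : D} (f : X ⟶ Y) (g : Y ⟶ Z) (x : H.obj (op Z)) :
    res H (f ≫ g) x = res H f (res H g x) := by
  simp [res]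

theorem res_iso_bij {X Y : D} (e : X ≅ Y) : Function.Bijective (res H e.hom) := by
  refine ⟨fun a b h => ?_, fun a => ⟨res H e.inv a, ?_⟩⟩
  · simpa [← res_comp] using congrArg (res H e.inv) h
  · rw [← res_comp, e.hom_inv_id, res_id]

section
variable [Preadditive D] [H.Additive]

@[simp] theorem res_zero {X Y : D} (x : H.obj (op Y)) : res H (0 : X ⟶ Y) x = 0 := by
  simp [res]

@[simp] theorem res_add {X Y : D} (f g : X ⟶ Y) (x : H.obj (op Y)) :
    res H (f + g) x = res H f x + res H g x := by
  simp [res]

@[simp] theorem res_sub {X Y : D} (f g : X ⟶ Y) (x : H.obj (op Y)) :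
    res H (f - g) x = res H f x - res H g x := by
  simp [res]

@[simp] theorem res_neg {X Y : D} (f : X ⟶ Y) (x : H.obj (op Y)) :
    res H (-f) x = - res H f x := by
  simp [res]

variable [HasZeroObject D] [HasShift D ℤ]
  [∀ n : ℤ, (shiftFunctor D n).Additive] [Pretriangulated D]

theorem res_exact [H.IsHomological] (T : Triangle D) (hT : T ∈ distTriang D)
    (x : H.obj (op T.obj₂)) (hx : res H T.mor₁ x = 0) : ∃ y, res H T.mor₂ y = x :=
  (ShortComplex.ab_exact_iff _).1 (H.map_distinguished_op_exact T hT) x hx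

theorem res_exact₃ [H.IsHomological] (T : Triangle D) (hT : T ∈ distTriang D)
    (x : H.obj (op T.obj₃)) (hx : res H T.mor₂ x = 0) : ∃ y, res H T.mor₃ y = x :=
  res_exact H T.rotate (rot_of_distTriang _ hT) x hx

theorem res_exact₁ [H.IsHomological] (T : Triangle D) (hT : T ∈ distTriang D)
    (x : H.obj (op ((shiftFunctor D (1 : ℤ)).obj T.obj₁))) (hx : res H T.mor₃ x = 0) :
    ∃ y, res H ((shiftFunctor D (1 : ℤ)).map T.mor₁) y = x := by
  obtain ⟨y, hy⟩ := res_exact₃ H T.rotate (rot_of_distTriang _ hT) x hx
  refine ⟨-y, Eq.trans ?_ hy⟩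
  exact (map_neg (res H ((shiftFunctor D (1 : ℤ)).map T.mor₁)) y).trans
    (res_neg H ((shiftFunctor D (1 : ℤ)).map T.mor₁) y).symm

end

section
variable {J : Type w} (K : J → D)

theorem res_cofan_bij [PreservesLimit (Discrete.functor fun j => op (K j)) (H ⋙ forget _)]
    (c : Cofan K) (hc : IsColimit c) :
    Function.Bijective (fun (x : H.obj (op c.pt)) (j : J) => res H (c.inj j) x) := by
  have h := isLimitOfPreserves (H ⋙ forget _) (Cofan.IsColimit.op hc)
  constructor
  · intro x y hxy
    exact (Types.isLimitEquivSections h).injective (Subtype.ext (funext fun ⟨j⟩ =>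
      congrFun hxy j))
  · intro a
    obtain ⟨x, hx⟩ := (Types.isLimitEquivSections h).surjective
      ⟨fun j => a j.as, by
        rintro ⟨j⟩ ⟨k⟩ f
        obtain rfl : j = k := Discrete.eq_of_hom f
        rw [show f = 𝟙 _ from Subsingleton.elim _ _, CategoryTheory.Functor.map_id]
        rfl⟩
    refine ⟨x, funext fun j => ?_⟩
    have := congrFun (congrArg Subtype.val hx) ⟨j⟩
    exact this

theorem res_coprod_bij [HasCoproduct K]
    [PreservesLimit (Discrete.functor fun j => op (K j)) (H ⋙ forget _)] :
    Function.Bijective (fun (x : H.obj (op (∐ K))) (j : J) => res H (Sigma.ι K j) x) :=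
  res_cofan_bij H K _ (coproductIsCoproduct K)

theorem res_coprod_ext [HasCoproduct K]
    [PreservesLimit (Discrete.functor fun j => op (K j)) (H ⋙ forget _)]
    {x y : H.obj (op (∐ K))} (h : ∀ j, res H (Sigma.ι K j) x = res H (Sigma.ι K j) y) : x = y :=
  (res_coprod_bij H K).1 (funext h)

end

end Groth.Agent.TriH
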