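import Mathlib.Algebra.Homology.HomotopyCategory.DegreewiseSplit
import Mathlib.Algebra.Homology.HomotopyCategory.Pretriangulated
import Mathlib.Algebra.Homology.HomologicalComplexLimits
import Mathlib.Algebra.Homology.Embedding.CochainComplex
import Mathlib.Algebra.Homology.ShortComplex.Exact
import Mathlib.Algebra.BigOperators.Intervals

/-!
# A complex as the colimit of its stupid truncations
-/

set_option autoImplicit false
set_option linter.style.haveILetI false

open CategoryTheory CategoryTheory.Limits CategoryTheory.Pretriangulated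

namespace Groth.Agent.TriH.StupidTower

universe v u

variable {A : Type u} [Category.{v} A] [Abelian A] (K : CochainComplex A ℤ)

/-- The terms of the stupid truncation `σ_{≥ -n} K`. -/
noncomputable abbrev X' (n : ℕ) (m : ℤ) : A := ∐ fun _ : PLift (-(n : ℤ) ≤ m) => K.X m

/-- The stupid truncation `σ_{≥ -n} K`. -/
noncomputable abbrev σ (n : ℕ) : CochainComplex A ℤ :=
  CochainComplex.of (X' K n)
    (fun m => Sigma.desc fun h => K.d m (m + 1) ≫
      Sigma.ι (fun _ : PLift (-(n : ℤ) ≤ m + 1) => K.X (m + 1)) ⟨by have := h.down; omega⟩)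
    (fun m => Sigma.hom_ext _ _ fun h => by simp)

lemma σ_d (n : ℕ) (m : ℤ) : (σ K n).d m (m + 1) =
    Sigma.desc (fun h => K.d m (m + 1) ≫
      Sigma.ι (fun _ : PLift (-(n : ℤ) ≤ m + 1) => K.X (m + 1)) ⟨by have := h.down; omega⟩) :=
  CochainComplex.of_d (X' K n) (fun m => Sigma.desc fun h => K.d m (m + 1) ≫
    Sigma.ι (fun _ : PLift (-(n : ℤ) ≤ m + 1) => K.X (m + 1)) ⟨by have := h.down; omega⟩) m

instance (n : ℕ) : (σ K n).IsStrictlyGE (-(n : ℤ)) := by
  rw [CochainComplex.isStrictlyGE_iff]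
  intro i hi
  rw [IsZero.iff_id_eq_zero]
  exact Sigma.hom_ext _ _ fun h => absurd h.down (by omega)

/-- The term is `K.X m` in large stages. -/
noncomputable def xIso (n : ℕ) (m : ℤ) (h : -(n : ℤ) ≤ m) : (σ K n).X m ≅ K.X m where
  hom := Sigma.desc fun _ => 𝟙 _
  inv := Sigma.ι (fun _ : PLift (-(n : ℤ) ≤ m) => K.X m) ⟨h⟩
  hom_inv_id := Sigma.hom_ext _ _ fun h' => by
    obtain rfl : h' = ⟨h⟩ := Subsingleton.elim _ _
    exact (Sigma.ι_desc_assoc _ _ _).trans ((Category.id_comp _).trans (Category.comp_id _).symm)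
  inv_hom_id := Sigma.ι_desc _ _

/-- The inclusion. -/
noncomputable def incl (n : ℕ) : σ K n ⟶ K where
  f m := Sigma.desc fun _ => 𝟙 _
  comm' i j hij := by
    change i + 1 = j at hij
    subst hij
    refine Sigma.hom_ext _ _ fun h => ?_
    rw [σ_d]
    simp

/-- The transition map. -/
noncomputable def trans (n : ℕ) : σ K n ⟶ σ K (n + 1) where
  f m := Sigma.desc fun h =>
    Sigma.ι (fun _ : PLift (-((n + 1 : ℕ) : ℤ) ≤ m) => K.X m) ⟨by have := h.down; omega⟩
  comm' i j hij := by
    change i + 1 = j at hij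
    subst hij
    refine Sigma.hom_ext _ _ fun h => ?_
    rw [σ_d, σ_d]
    simp

lemma trans_incl (n : ℕ) : trans K n ≫ incl K (n + 1) = incl K n := by
  apply HomologicalComplex.hom_ext
  intro m
  exact Sigma.hom_ext _ _ fun h => by simp [trans, incl]

variable [HasColimitsOfShape (Discrete ℕ) A]

/-- The difference map. -/
noncomputable def diff : ∐ σ K ⟶ ∐ σ K :=
  Sigma.desc fun n => Sigma.ι (σ K) n - trans K n ≫ Sigma.ι (σ K) (n + 1)

/-- The projection. -/
noncomputable def proj : ∐ σ K ⟶ K := Sigma.desc (incl K)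

/-- The telescope sequence. -/
noncomputable def tel : ShortComplex (CochainComplex A ℤ) :=
  ShortComplex.mk (diff K) (proj K) (Sigma.hom_ext _ _ fun n => by
    simp [diff, proj, trans_incl])

/-- Its degreewise splitting. -/
noncomputable def splitting (m : ℤ) :
    ((tel K).map (HomologicalComplex.eval A (ComplexShape.up ℤ) m)).Splitting :=
  let hc : IsColimit (Cofan.mk ((∐ σ K).X m) (fun n => (Sigma.ι (σ K) n).f m) : Cofan fun n => (σ K n).X m) :=
    isColimitCofanMkObjOfIsColimit (HomologicalComplex.eval A (ComplexShape.up ℤ) m) (σ K) _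
      (coproductIsCoproduct (σ K))
  let n₀ : ℕ := (-m).toNat
  let β : ∀ n : ℕ, K.X m ⟶ (∐ σ K).X m := fun n =>
    if h : -(n : ℤ) ≤ m then (xIso K n m h).inv ≫ (Sigma.ι (σ K) n).f m else 0
  let R : ∀ n : ℕ, (σ K n).X m ⟶ (∐ σ K).X m := fun n =>
    (incl K n).f m ≫ (-(∑ i ∈ Finset.Ico n₀ n, β i))
  have hb : ∀ n : ℕ, -(n : ℤ) ≤ m → (incl K n).f m ≫ β n = (Sigma.ι (σ K) n).f m := fun n h => by
    simp only [β, dif_pos h]
    exact (xIso K n m h).hom_inv_id_assoc _
  have hz : ∀ n : ℕ, ¬ -(n : ℤ) ≤ m → IsZero ((σ K n).X m) := fun n h => by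
    rw [IsZero.iff_id_eq_zero]
    exact Sigma.hom_ext _ _ fun h' => absurd h'.down h
  have hd : ∀ n, (Sigma.ι (σ K) n).f m ≫ (diff K).f m =
      (Sigma.ι (σ K) n).f m - (trans K n).f m ≫ (Sigma.ι (σ K) (n + 1)).f m := fun n => by
    rw [← HomologicalComplex.comp_f, diff, Sigma.ι_desc, HomologicalComplex.sub_f_apply,
      HomologicalComplex.comp_f]
  have hp : ∀ n, (Sigma.ι (σ K) n).f m ≫ (proj K).f m = (incl K n).f m := fun n => by
    rw [← HomologicalComplex.comp_f, proj, Sigma.ι_desc]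
  have ht : ∀ n, (trans K n).f m ≫ (incl K (n + 1)).f m = (incl K n).f m := fun n => by
    rw [← HomologicalComplex.comp_f, trans_incl]
  let Rd : (∐ σ K).X m ⟶ (∐ σ K).X m := Cofan.IsColimit.desc hc R
  have hR : ∀ n, (Sigma.ι (σ K) n).f m ≫ Rd = R n := fun n =>
    Cofan.IsColimit.fac hc R n
  have hβd : ∀ i : ℕ, -(i : ℤ) ≤ m → β i ≫ (diff K).f m = β i - β (i + 1) := fun i h => by
    haveI : IsIso ((incl K i).f m) := inferInstanceAs (IsIso (xIso K i m h).hom)
    rw [← cancel_epi ((incl K i).f m), reassoc_of% (hb i h), hd, Preadditive.comp_sub, hb i h, ← ht i,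
      Category.assoc, hb (i + 1) (by omega)]
  { r := Rd
    s := β n₀
    s_g := by
      show β n₀ ≫ (proj K).f m = 𝟙 _
      simp only [β, dif_pos (show -((n₀ : ℕ) : ℤ) ≤ m by omega), Category.assoc, hp]
      exact (xIso K n₀ m _).inv_hom_id
    f_r := by
      show (diff K).f m ≫ Rd = 𝟙 _
      refine Cofan.IsColimit.hom_ext hc _ _ fun n => ?_
      show (Sigma.ι (σ K) n).f m ≫ (diff K).f m ≫ _ = (Sigma.ι (σ K) n).f m ≫ 𝟙 _
      rw [Category.comp_id, ← Category.assoc, hd, Preadditive.sub_comp, Category.assoc, hR, hR]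
      by_cases h : -(n : ℤ) ≤ m
      · show (incl K n).f m ≫ _ - (trans K n).f m ≫ (incl K (n + 1)).f m ≫ _ = _
        rw [reassoc_of% (ht n), ← Preadditive.comp_sub,
          Finset.sum_Ico_succ_top (show n₀ ≤ n by omega)]
        simp [hb n h]
      · exact (hz n h).eq_of_src _ _
    id := by
      show Rd ≫ (diff K).f m + (proj K).f m ≫ β n₀ = 𝟙 _
      refine Cofan.IsColimit.hom_ext hc _ _ fun n => ?_
      show (Sigma.ι (σ K) n).f m ≫ _ = (Sigma.ι (σ K) n).f m ≫ 𝟙 _
      rw [Category.comp_id, Preadditive.comp_add, reassoc_of% (hR n), reassoc_of% (hp n)]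
      by_cases h : -(n : ℤ) ≤ m
      · have key : ∀ k : ℕ, n₀ ≤ k → (-(∑ i ∈ Finset.Ico n₀ k, β i)) ≫ (diff K).f m + β n₀ = β k := by
          intro k hk
          induction k, hk using Nat.le_induction with
          | base => simp
          | succ k hk ih =>
            rw [Finset.sum_Ico_succ_top hk, neg_add, Preadditive.add_comp, Preadditive.neg_comp (β k), hβd k (by omega)]
            rw [← sub_eq_zero] at ih ⊢
            rw [← ih]
            abel
        show ((incl K n).f m ≫ _) ≫ _ + _ = _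
        rw [Category.assoc, ← Preadditive.comp_add, key n (by omega), hb n h]
      · exact (hz n h).eq_of_src _ _ }

theorem tel_distinguished :
    CochainComplex.trianglehOfDegreewiseSplit (tel K) (splitting K) ∈
      distTriang (HomotopyCategory A (ComplexShape.up ℤ)) :=
  (HomotopyCategory.distinguished_iff_iso_trianglehOfDegreewiseSplit _).2 ⟨_, _, ⟨Iso.refl _⟩⟩

end Groth.Agent.TriH.StupidTower
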